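import Groth.Agent.Lib.HilbPt29.N11

/-!
# Degree zero tangent space at `x_z (all but x_N) + (B)`
-/

set_option autoImplicit false
set_option maxHeartbeats 400000
universe u

open MvPolynomial W4c1hilbpn
open scoped Classical

noncomputable section

namespace Groth.Agent.HilbPt29.Borel

open N11 (low le_low low_mono low_add low_single low_single_self)

variable {σ : Type} [Fintype σ] {k : Type u} [Field k] (z N h : σ) (B : Finset (σ →₀ ℕ)) (d : ℕ)

/-- The generators `x_z x_i`, `i ≠ N`. -/
def Az (i : σ) : σ →₀ ℕ := Finsupp.single z 1 + Finsupp.single i 1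

/-- All generators. -/
def Gen : Set (σ →₀ ℕ) := {β | (∃ i, i ≠ N ∧ β = Az z i) ∨ β ∈ B}

/-- Membership in the ideal of the second block. -/
def BE (β : σ →₀ ℕ) : Prop := ∃ b ∈ B, b ≤ β

structure Data : Prop where
  zN : z ≠ N
  hz : h ≠ z
  hN : h ≠ N
  two_le : 2 ≤ d
  avoid : ∀ b ∈ B, b z = 0 ∧ b N = 0 ∧ b h = 0 ∧ b.degree = d

variable {z N h B d}

theorem Data.be_add_hub (D : Data z N h B d) {β : σ →₀ ℕ} (hb : BE B (β + Finsupp.single h 1)) : BE B β := by
  obtain ⟨b, hbB, hle⟩ := hb
  refine ⟨b, hbB, fun i => ?_⟩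
  by_cases hi : i = h
  · rw [hi, (D.avoid b hbB).2.2.1]; exact Nat.zero_le _
  · simpa [Finsupp.single_eq_of_ne hi] using hle i

theorem BE.mono {β β' : σ →₀ ℕ} (hb : BE B β) (hle : β ≤ β') : BE B β' :=
  let ⟨b, hbB, hb'⟩ := hb
  ⟨b, hbB, hb'.trans hle⟩

theorem Data.not_be_of_lt (D : Data z N h B d) {β : σ →₀ ℕ} (hb : β.degree < d) : ¬ BE B β :=
  fun ⟨b, hbB, hle⟩ => by have := Finsupp.degree_mono hle; rw [(D.avoid b hbB).2.2.2] at this; omega

theorem Az_apply_z {i : σ} (hi : i ≠ z) : Az z i z = 1 := by simp [Az, Finsupp.single_eq_of_ne hi.symm]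

theorem Az_pos (z i : σ) : 1 ≤ Az z i z := by simp [Az]

theorem exists_le_iff (D : Data z N h B d) (β : σ →₀ ℕ) :
    (∃ g ∈ Gen z N B, g ≤ β) ↔ (1 ≤ β z ∧ 2 ≤ low N β) ∨ BE B β := by
  constructor
  · rintro ⟨g, (⟨i, hi, rfl⟩ | hg), hle⟩
    · refine Or.inl ⟨?_, ?_⟩
      · have h1 := hle z
        simp [Az] at h1
        omega
      · have h2 := low_mono N hle
        rw [Az, low_add, low_single N D.zN, low_single N hi] at h2
        omega
    · exact Or.inr ⟨g, hg, hle⟩
  · rintro (⟨hz1, h2⟩ | ⟨b, hb, hle⟩)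
    · have hle : Finsupp.single z 1 ≤ β := Finsupp.single_le_iff.2 hz1
      have e := congrArg (low N) (tsub_add_cancel_of_le hle)
      rw [low_add, low_single N D.zN] at e
      obtain ⟨y, hy, hy1⟩ := Finset.exists_ne_zero_of_sum_ne_zero
        (show ∑ i ∈ Finset.univ.erase N, (β - Finsupp.single z 1 : σ →₀ ℕ) i ≠ 0 by
          show low N (β - Finsupp.single z 1) ≠ 0; omega)
      refine ⟨Az z y, Or.inl ⟨y, (Finset.mem_erase.1 hy).1, rfl⟩, ?_⟩
      rw [Az, add_comm, ← le_tsub_iff_right hle]
      exact Finsupp.single_le_iff.2 (Nat.one_le_iff_ne_zero.2 hy1)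
    · exact ⟨b, Or.inr hb, hle⟩

variable (z N B) in
/-- The ideal. -/
abbrev J : Ideal (MvPolynomial σ k) := Ideal.span ((fun β => monomial β (1 : k)) '' Gen z N B)

theorem mem_exps (D : Data z N h B d) {β : σ →₀ ℕ} :
    β ∈ exps (J z N B : Ideal (MvPolynomial σ k)) ↔ (1 ≤ β z ∧ 2 ≤ low N β) ∨ BE B β :=
  ((isMonomial_span (Gen z N B)).2 β).trans (exists_le_iff D β)

theorem out_sup {I : Ideal (MvPolynomial σ k)} {α : σ → ℤ} {g g' ε : σ →₀ ℕ} (ho : Out I α g)
    (hle : g ⊔ g' ≤ g + ε) (h : shift g α + ε ∉ exps I) : Out I α (g ⊔ g') := by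
  obtain ⟨δ, hδ⟩ := exists_add_of_le (le_sup_left : g ≤ g ⊔ g')
  have hn : ∀ i, 0 ≤ ((g ⊔ g') i : ℤ) + α i := hδ ▸ Out.nonneg_add ho.1 δ
  refine ⟨hn, fun he => h ?_⟩
  obtain ⟨η, hη⟩ := exists_add_of_le hle
  rw [← shift_add ho.1, hη, shift_add hn]
  exact mem_exps_of_le he le_self_add

theorem not_out_sup {I : Ideal (MvPolynomial σ k)} {α : σ → ℤ} {g g' ε : σ →₀ ℕ} (ho : Out I α g)
    (hle : g + ε ≤ g ⊔ g') (h : shift g α + ε ∈ exps I) : ¬ Out I α (g ⊔ g') := by
  obtain ⟨η, hη⟩ := exists_add_of_le hle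
  intro hL
  refine hL.2 ?_
  rw [hη, shift_add (Out.nonneg_add ho.1 _), shift_add ho.1]
  exact mem_exps_of_le h le_self_add

theorem degree_shift {g : σ →₀ ℕ} {α : σ → ℤ} (hn : ∀ i, 0 ≤ (g i : ℤ) + α i) (hα : ∑ i, α i = 0) :
    (shift g α).degree = g.degree := by
  have : ((shift g α).degree : ℤ) = g.degree := by
    simp only [Finsupp.degree_eq_sum, Nat.cast_sum, shift_cast hn, Finset.sum_add_distrib, hα, add_zero]
  exact_mod_cast this

theorem exists_two {γ : σ →₀ ℕ} {y : σ} (hy : 1 ≤ γ y) (hd : γ.degree = 2) :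
    ∃ m, γ = Finsupp.single y 1 + Finsupp.single m 1 := by
  have hle : Finsupp.single y 1 ≤ γ := Finsupp.single_le_iff.2 hy
  have e := congrArg Finsupp.degree (tsub_add_cancel_of_le hle)
  rw [map_add, Finsupp.degree_single, hd] at e
  obtain ⟨m, hm⟩ := Finsupp.ne_iff.1 (fun h0 : γ - Finsupp.single y 1 = 0 => by simp [h0] at e)
  have hle' : Finsupp.single m 1 ≤ γ - Finsupp.single y 1 :=
    Finsupp.single_le_iff.2 (Nat.one_le_iff_ne_zero.2 (by simpa using hm))
  have hd' := congrArg Finsupp.degree (tsub_add_cancel_of_le hle')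
  rw [map_add, Finsupp.degree_single] at hd'
  have h0 := (Finsupp.degree_eq_zero_iff _).1 (show (γ - Finsupp.single y 1 - Finsupp.single m 1).degree = 0 by omega)
  refine ⟨m, ?_⟩
  rw [le_antisymm hle' (tsub_eq_zero_iff_le.1 h0), add_comm, tsub_add_cancel_of_le hle]

theorem exists_neg {g' : σ →₀ ℕ} {α : σ → ℤ} (s : Finset σ) (h : (∑ i ∈ s, (g' i : ℤ)) + ∑ i ∈ s, α i < 0) :
    ∃ i, (g' i : ℤ) + α i < 0 := by
  rw [← Finset.sum_add_distrib] at h
  obtain ⟨i, -, hi⟩ := Finset.exists_lt_of_sum_lt (g := fun _ => (0 : ℤ)) (by simpa using h)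
  exact ⟨i, hi⟩

theorem eq_single_of_low (γ : σ →₀ ℕ) (h : low N γ = 0) : γ = Finsupp.single N γ.degree := by
  refine Finsupp.ext fun i => ?_
  by_cases hi : i = N
  · rw [hi, Finsupp.single_eq_same, N11.degree_eq N γ, h, add_zero]
  · have := le_low N (β := γ) hi
    rw [Finsupp.single_eq_of_ne hi]; omega

theorem eq_of_z_low {γ : σ →₀ ℕ} (D : Data z N h B d) (hz : 1 ≤ γ z) (hl : low N γ ≤ 1) :
    γ = Finsupp.single z 1 + Finsupp.single N (γ.degree - 1) := by
  have hle : Finsupp.single z 1 ≤ γ := Finsupp.single_le_iff.2 hz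
  have e := congrArg (low N) (tsub_add_cancel_of_le hle)
  rw [low_add, low_single N D.zN] at e
  have h1 := eq_single_of_low (γ - Finsupp.single z 1) (show low N (γ - Finsupp.single z 1) = 0 by omega)
  have e2 := congrArg Finsupp.degree (tsub_add_cancel_of_le hle)
  rw [map_add, Finsupp.degree_single] at e2
  rw [show γ.degree - 1 = (γ - Finsupp.single z 1).degree by omega, ← h1, add_comm, tsub_add_cancel_of_le hle]

/-- Data of the second block and of the exceptional pairs. -/
structure Block (κ : Type) (X : Finset (σ →₀ ℕ)) (rep : κ → σ →₀ ℕ) (γr : κ → σ →₀ ℕ) : Prop where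
  rep_mem : ∀ i, rep i ∈ B
  gam : ∀ i, γr i z = 0 ∧ (γr i).degree = d
  exc : ∀ γ : σ →₀ ℕ, γ.degree = 2 → γ z = 0 → γ h = 0 → 1 ≤ low N γ → ¬ BE B γ →
    γ ∈ X ∨ ∃ l, l ≠ z ∧ l ≠ h ∧ l ≠ N ∧ ¬ BE B (γ + Finsupp.single l 1)
  exc_mem : ∀ γ ∈ X, γ.degree = 2 ∧ γ z = 0 ∧ γ h = 0 ∧ 1 ≤ low N γ ∧ ¬ BE B γ ∧
    ∀ l, l ≠ z → l ≠ h → l ≠ N → BE B (γ + Finsupp.single l 1)
  span : ∀ (α : σ → ℤ) (c : (σ →₀ ℕ) → k), ∑ i, α i = 0 → α z = 0 →
    (∀ g ∈ B, ∀ g' ∈ B, (∀ i, 0 ≤ (g i : ℤ) + α i) → ¬ BE B (shift g α) → ¬ BE B (shift (g ⊔ g') α) → c g = c g') →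
    (∀ g ∈ B, (∃ i, (g i : ℤ) + α i < 0) → c g = 0) →
    (∀ i, diffDeg (rep i) (γr i) = α → c (rep i) = 0) →
    ∀ g ∈ B, (∀ i, 0 ≤ (g i : ℤ) + α i) → ¬ BE B (shift g α) → 1 ≤ low N (shift g α) → c g = 0
  indep : ∀ i, ∃ S : Set (σ →₀ ℕ), rep i ∈ S ∧
    (∀ g ∈ S, g ∈ B ∧ (∀ j, 0 ≤ (g j : ℤ) + diffDeg (rep i) (γr i) j) ∧
      ¬ BE B (shift g (diffDeg (rep i) (γr i))) ∧ 1 ≤ low N (shift g (diffDeg (rep i) (γr i)))) ∧
    (∀ g ∈ S, ∀ g' ∈ B, ¬ BE B (shift (g ⊔ g') (diffDeg (rep i) (γr i))) → g' ∈ S) ∧
    ∀ j, diffDeg (rep j) (γr j) = diffDeg (rep i) (γr i) → rep j ∈ S → j = i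

variable {κ : Type} [Fintype κ] {X : Finset (σ →₀ ℕ)} {rep γr : κ → σ →₀ ℕ}

/-- The degree zero tangent space. -/
theorem finrank_hom0 (D : Data z N h B d) (K : Block (k := k) (z := z) (N := N) (h := h) (B := B) (d := d) κ X rep γr) :
    Module.finrank k ↥(⨆ α : {α : σ → ℤ // ∑ l, α l = 0}, tPiece (J z N B : Ideal (MvPolynomial σ k)) α.1) =
      2 * (Fintype.card σ - 1) + X.card + B.card + Fintype.card κ := by
  let I : Ideal (MvPolynomial σ k) := J z N B
  let ι := ({i : σ // i ≠ N} ⊕ {m : σ // m ≠ z}) ⊕ (↥X ⊕ (↥B ⊕ κ))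
  let r : ι → σ →₀ ℕ := Sum.elim (Sum.elim (fun i => Az z i.1) (fun _ => Az z h))
    (Sum.elim (fun _ => Az z h) (Sum.elim (fun b => b.1) rep))
  let gam : ι → σ →₀ ℕ := Sum.elim
    (Sum.elim (fun _ => Finsupp.single z 1 + Finsupp.single N 1) (fun m => Finsupp.single h 1 + Finsupp.single m.1 1))
    (Sum.elim (fun x => x.1) (Sum.elim (fun _ => Finsupp.single z 1 + Finsupp.single N (d - 1)) γr))
  let a : ι → σ → ℤ := fun i => diffDeg (r i) (gam i)
  have hr : ∀ i, r i ∈ Gen z N B := by
    rintro ((i | m) | (x | (b | i)))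
    · exact Or.inl ⟨i.1, i.2, rfl⟩
    · exact Or.inl ⟨h, D.hN, rfl⟩
    · exact Or.inl ⟨h, D.hN, rfl⟩
    · exact Or.inr b.2
    · exact Or.inr (K.rep_mem i)
  have hAz : ∀ i, (Az z i).degree = 2 := fun i => by simp [Az, Finsupp.degree_single]
  have hdeg : ∀ i, (gam i).degree = (r i).degree := by
    rintro ((i | m) | (x | (b | i)))
    · simp [gam, r, hAz, Finsupp.degree_single]
    · simp [gam, r, hAz, Finsupp.degree_single]
    · simp [gam, r, hAz, (K.exc_mem x.1 x.2).1]
    · simp only [gam, r, Sum.elim_inr, Sum.elim_inl, map_add, Finsupp.degree_single, (D.avoid b.1 b.2).2.2.2]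
      have := D.two_le; omega
    · simp [gam, r, (K.gam i).2, (D.avoid _ (K.rep_mem i)).2.2.2]
  have hGB : ∀ {g}, g ∈ B → g ∈ Gen z N B := fun hg => Or.inr hg
  have hGA : ∀ {i}, i ≠ N → Az z i ∈ Gen z N B := fun hi => Or.inl ⟨_, hi, rfl⟩
  have hspan := (isMonomial_span (k := k) (Gen z N B)).2
  have hsupA : ∀ i l : σ, Az z i ⊔ Az z l ≤ Az z i + Finsupp.single l 1 := fun i l =>
    sup_le le_self_add (add_le_add le_self_add le_rfl)
  rw [finrank_hom0_eq_card hspan (isMonomial_span _).1 r hr a]
  · simp only [ι, Fintype.card_sum, Fintype.card_coe, Fintype.card_subtype_compl, Fintype.card_subtype_eq]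
    omega
  · intro i
    simp only [a, diffDeg, Finset.sum_sub_distrib, ← Nat.cast_sum, ← Finsupp.degree_eq_sum, hdeg, sub_self]
  · intro α hα c hc hz0 g hg
    by_contra hne
    have ho : Out I α g := by_contra fun hn => hne (hc.1 _ hn)
    have hγd := degree_shift ho.1 hα
    have hnot : ¬ ((1 ≤ shift g α z ∧ 2 ≤ low N (shift g α)) ∨ BE B (shift g α)) := fun hh => ho.2 ((mem_exps D).2 hh)
    simp only [not_or] at hnot
    have hget : ∀ (i : ι), r i = g → gam i = shift g α → False := fun i e1 e2 => by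
      refine hne ?_
      have := hz0 i (funext fun l => by
        show (gam i l : ℤ) - r i l = α l
        rw [e1, e2, shift_cast ho.1]; ring)
      simpa only [e1] using this
    by_cases hzz : 1 ≤ shift g α z
    · have hγ := eq_of_z_low D hzz (by have := fun h2 => hnot.1 ⟨hzz, h2⟩; omega)
      rw [hγd] at hγ
      rcases hg with ⟨i, hi, rfl⟩ | hg
      · exact hget (Sum.inl (Sum.inl ⟨i, hi⟩)) rfl (by rw [hγ, hAz]; rfl)
      · exact hget (Sum.inr (Sum.inr (Sum.inl ⟨g, hg⟩))) rfl (by rw [hγ, (D.avoid g hg).2.2.2]; rfl)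
    have hz1 : shift g α z = 0 := by omega
    rcases hg with ⟨i, hi, rfl⟩ | hg
    · have hγ2 : (shift (Az z i) α).degree = 2 := hγd.trans (hAz i)
      have move : ∀ l, l ≠ N → l ≠ i → shift (Az z i) α i = 0 →
          shift (Az z i) α + Finsupp.single l 1 ∉ exps I → False := by
        intro l hlN hli hi0 hn
        refine hne ((Cf.eq_of_link hspan hc (hGA hi) (hGA hlN) ho (out_sup ho (hsupA i l) hn)).trans (hc.1 _ fun h' => ?_))
        have h1 := h'.1 i
        have h2 := shift_cast ho.1 i
        rw [hi0] at h2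
        simp [Az, Finsupp.single_eq_of_ne hli.symm] at h1 h2
        omega
      by_cases hii : shift (Az z i) α i = 0
      · by_cases hlow : low N (shift (Az z i) α) = 0
        · by_cases hiz : i = z
          · refine move h D.hN (hiz ▸ D.hz) hii fun he => ?_
            rw [mem_exps D] at he
            rcases he with ⟨h1, -⟩ | he
            · simp [hz1, Finsupp.single_eq_of_ne D.hz.symm] at h1
            · exact hnot.2 (D.be_add_hub he)
          · refine move z D.zN (Ne.symm hiz) hii fun he => ?_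
            rw [mem_exps D, low_add, hlow, low_single N D.zN] at he
            rcases he with ⟨-, h2⟩ | ⟨b, hb, hle⟩
            · omega
            · refine hnot.2 ⟨b, hb, fun j => ?_⟩
              by_cases hj : j = z
              · rw [hj, (D.avoid b hb).1]; exact Nat.zero_le _
              · simpa [Finsupp.single_eq_of_ne hj] using hle j
        · have hnE : ∀ l, l ≠ z → ¬ BE B (shift (Az z i) α + Finsupp.single l 1) →
              shift (Az z i) α + Finsupp.single l 1 ∉ exps I := by
            intro l hlz hb he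
            rw [mem_exps D] at he
            rcases he with ⟨h1, -⟩ | he
            · simp [hz1, Finsupp.single_eq_of_ne hlz.symm] at h1
            · exact hb he
          by_cases hih : i = h
          · subst hih
            rcases K.exc _ hγ2 hz1 hii (by omega) hnot.2 with hX | ⟨l, hlz, hlh, hlN, hl⟩
            · exact hget (Sum.inr (Sum.inl ⟨_, hX⟩)) rfl rfl
            · exact move l hlN hlh hii (hnE l hlz hl)
          · exact move h D.hN (Ne.symm hih) hii (hnE h D.hz fun he => hnot.2 (D.be_add_hub he))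
      · have hiz : i ≠ z := fun e => hii (e ▸ hz1)
        obtain ⟨m, hm⟩ := exists_two (Nat.one_le_iff_ne_zero.2 hii) hγ2
        have hmz : m ≠ z := fun e => by
          rw [hm, e] at hz1; simp at hz1
        have hL : Out I α (Az z i ⊔ Az z h) := out_sup ho (hsupA i h) fun he => by
          rw [mem_exps D] at he
          rcases he with ⟨h1, -⟩ | he
          · simp [hz1, Finsupp.single_eq_of_ne D.hz.symm] at h1
          · exact hnot.2 (D.be_add_hub he)
        refine hne ((Cf.eq_of_link hspan hc (hGA hi) (hGA D.hN) ho hL).trans ?_)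
        refine hz0 (Sum.inl (Sum.inr ⟨m, hmz⟩)) (funext fun l => ?_)
        have h2 := shift_cast ho.1 l
        rw [hm] at h2
        simp [Az] at h2
        simp [a, r, gam, diffDeg, Az]
        omega
    · have hgd := (D.avoid g hg).2.2.2
      have hαz : α z = 0 := by
        have h2 := shift_cast ho.1 z
        rw [hz1, (D.avoid g hg).1] at h2
        simpa using h2.symm
      by_cases hlow : low N (shift g α) = 0
      · obtain ⟨i, hi⟩ := Finsupp.ne_iff.1 (fun h0 : g = 0 => by
          rw [h0] at hgd; simp at hgd; have := D.two_le; omega)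
        simp only [Finsupp.coe_zero, Pi.zero_apply] at hi
        have hiN : i ≠ N := fun e => hi (e ▸ (D.avoid g hg).2.1)
        have hiz : i ≠ z := fun e => hi (e ▸ (D.avoid g hg).1)
        have hL : Out I α (g ⊔ Az z i) := out_sup (ε := Finsupp.single z 1) ho
          (sup_le le_self_add (by
            rw [Az, add_comm]
            exact add_le_add (Finsupp.single_le_iff.2 (Nat.one_le_iff_ne_zero.2 hi)) le_rfl)) fun he => by
          rw [mem_exps D, low_add, hlow, low_single N D.zN] at he
          rcases he with ⟨-, h2⟩ | ⟨b, hb, hle⟩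
          · omega
          · refine hnot.2 ⟨b, hb, fun j => ?_⟩
            by_cases hj : j = z
            · rw [hj, (D.avoid b hb).1]; exact Nat.zero_le _
            · simpa [Finsupp.single_eq_of_ne hj] using hle j
        refine hne ((Cf.eq_of_link hspan hc (hGB hg) (hGA hiN) ho hL).trans (hc.1 _ fun h' => ?_))
        obtain ⟨j, hj⟩ := exists_neg (g' := Az z i) (α := α) ((Finset.univ.erase N).erase z) (by
          have hsum : (∑ j ∈ Finset.univ.erase N, (shift g α j : ℤ)) = 0 := by exact_mod_cast hlow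
          have hg2 : (∑ j ∈ Finset.univ.erase N, (g j : ℤ)) = d := by
            have := N11.degree_eq N g
            rw [(D.avoid g hg).2.1, hgd, zero_add] at this
            exact_mod_cast this.symm
          simp only [shift_cast ho.1, Finset.sum_add_distrib, hg2] at hsum
          have hzmem : z ∈ Finset.univ.erase N := Finset.mem_erase.2 ⟨D.zN, Finset.mem_univ z⟩
          have h1 := Finset.add_sum_erase _ α hzmem
          have h3 : (∑ j ∈ (Finset.univ.erase N).erase z, (Az z i j : ℤ)) = 1 := by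
            rw [Finset.sum_eq_single i (fun j hj hji => by
                simp [Az, Finsupp.single_eq_of_ne hji, Finsupp.single_eq_of_ne (Finset.mem_erase.1 hj).1])
              (fun hh => absurd (Finset.mem_erase.2 ⟨hiz, Finset.mem_erase.2 ⟨hiN, Finset.mem_univ i⟩⟩) hh)]
            simp [Az, Finsupp.single_eq_of_ne hiz]
          rw [hαz] at h1
          have := D.two_le
          omega)
        exact absurd (show 0 ≤ (Az z i j : ℤ) + α j from h'.1 j) (by omega)
      refine hne ?_
      let c' : (σ →₀ ℕ) → k := fun b => if hb : b ∈ B then c ⟨b, gen_mem hspan (hGB hb)⟩ else 0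
      have key := K.span α c' hα hαz
        (fun g₁ hg₁ g₂ hg₂ hn hb1 hb2 => by
          simp only [c', dif_pos hg₁, dif_pos hg₂]
          have hzero : ∀ {β : σ →₀ ℕ}, β z = 0 → shift β α z = 0 := fun hb => by
            rw [shift_apply, hb, hαz]; rfl
          have ho1 : Out I α g₁ := ⟨hn, fun he => by
            rw [mem_exps D, hzero (D.avoid g₁ hg₁).1] at he
            simp at he; exact hb1 he⟩
          refine Cf.eq_of_link hspan hc (hGB hg₁) (hGB hg₂) ho1 ?_
          obtain ⟨δ, hδ⟩ := exists_add_of_le (le_sup_left : g₁ ≤ g₁ ⊔ g₂)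
          refine ⟨hδ ▸ Out.nonneg_add hn δ, fun he => ?_⟩
          rw [mem_exps D, hzero (by simp [(D.avoid g₁ hg₁).1, (D.avoid g₂ hg₂).1])] at he
          simp at he; exact hb2 he)
        (fun g₁ hg₁ ⟨j, hj⟩ => by
          simp only [c', dif_pos hg₁]
          exact hc.1 _ fun h' => absurd (h'.1 j) (not_le.2 hj))
        (fun j hj => by
          simp only [c', dif_pos (K.rep_mem j)]
          exact hz0 (Sum.inr (Sum.inr (Sum.inr j))) hj)
        g hg ho.1 hnot.2 (by omega)
      simpa only [c', dif_pos hg] using key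
  · have hs : ∀ i, shift (r i) (a i) = gam i ∧ ∀ l, 0 ≤ (r i l : ℤ) + a i l := fun i =>
      N11.shift_diffDeg (r i) (gam i)
    have hn11 : ∀ {g g' : σ →₀ ℕ} {e : ℕ}, g.degree = e → g'.degree = e → g' ≠ g → ∃ l, g l < g' l :=
      fun h1 h2 h3 => N11.exists_lt_of_ne (h1.trans h2.symm) (Ne.symm h3)
    suffices H : ∀ i, ∃ S : Set (σ →₀ ℕ), r i ∈ S ∧ (∀ g ∈ S, g ∈ Gen z N B ∧ Out I (a i) g) ∧
        (∀ g ∈ S, ∀ g' ∈ Gen z N B, Out I (a i) (g ⊔ g') → g' ∈ S) ∧
        (∀ j, a j = a i → r j ∈ S → j = i) by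
      intro i
      obtain ⟨S, h1, h2, h3, h4⟩ := H i
      obtain ⟨c, hc, hv⟩ := exists_cf (k := k) hspan S h2 h3
      refine ⟨c, hc, fun j hj => ?_⟩
      by_cases hji : j = i
      · rw [if_pos hji]; exact (hv _ (hr j)).1 (hji ▸ h1)
      · rw [if_neg hji]; exact (hv _ (hr j)).2 fun hh => hji (h4 j hj hh)
    have hlN : ∀ {g g' : σ →₀ ℕ} {l : σ}, g' ∈ Gen z N B → g l < g' l → l ≠ N := by
      intro g g' l hg' hl e
      subst e
      rcases hg' with ⟨i, hi, rfl⟩ | hg'
      · simp [Az, Finsupp.single_eq_of_ne D.zN.symm, Finsupp.single_eq_of_ne hi.symm] at hl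
      · rw [(D.avoid g' hg').2.1] at hl; omega
    have hiso : ∀ {g : σ →₀ ℕ} {e : ℕ} {α : σ → ℤ}, g ∈ Gen z N B → g.degree ≤ e + 1 → Out I α g →
        shift g α = Finsupp.single z 1 + Finsupp.single N e → ∀ g' ∈ Gen z N B, Out I α (g ⊔ g') → ∀ l, g' l ≤ g l := by
      intro g e α hg hge ho hsh g' hg' hL l
      by_contra hlt
      refine not_out_sup ho (N11.le_sup_of_lt (not_le.1 hlt)) ?_ hL
      rw [hsh, mem_exps D, low_add, low_add, low_single N D.zN, low_single_self,
        low_single N (hlN hg' (not_le.1 hlt))]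
      exact Or.inl ⟨by simp; omega, by omega⟩
    have hrj : ∀ {j : ι} {g : σ →₀ ℕ}, r j = g → ∀ {α}, a j = α → gam j = shift g α := fun {j g} e {α} e' => by
      rw [← e, ← e', (hs j).1]
    rintro ((i | m) | (x | (b | i)))
    · have ho : Out I (a (Sum.inl (Sum.inl i))) (Az z i.1) := ⟨(hs (Sum.inl (Sum.inl i))).2, fun he => by
        rw [show shift (Az z i.1) (a (Sum.inl (Sum.inl i))) = _ from (hs (Sum.inl (Sum.inl i))).1, mem_exps D] at he
        simp only [gam, Sum.elim_inl, low_add, low_single N D.zN, low_single_self] at he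
        rcases he with ⟨-, h2⟩ | ⟨b, hb, hle⟩
        · omega
        · have hd := Finsupp.degree_mono hle
          simp [Finsupp.degree_single, (D.avoid b hb).2.2.2] at hd
          obtain ⟨hbz, hbN, -, hbd⟩ := D.avoid b hb
          obtain ⟨l, hl⟩ := Finsupp.ne_iff.1 (fun h0 : b = 0 => by rw [h0] at hbd; simp at hbd; have := D.two_le; omega)
          simp only [Finsupp.coe_zero, Pi.zero_apply] at hl
          have h3 := hle l
          rw [Finsupp.add_apply, Finsupp.single_eq_of_ne (fun e => hl (by rw [e]; exact hbz)),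
            Finsupp.single_eq_of_ne (fun e => hl (by rw [e]; exact hbN))] at h3
          omega⟩
      refine ⟨{Az z i.1}, rfl, fun g hg => ?_, fun g hg g' hg' hL => ?_, fun j hj hjS => ?_⟩
      · rw [Set.mem_singleton_iff] at hg; subst hg; exact ⟨hGA i.2, ho⟩
      · rw [Set.mem_singleton_iff] at hg ⊢; subst hg
        have hle := hiso (e := 1) (hGA i.2) (hAz i.1).le ho (hs (Sum.inl (Sum.inl i))).1 g' hg' hL
        rcases hg' with ⟨l, hl, rfl⟩ | hg'
        · by_contra hne
          obtain ⟨y, hy⟩ := hn11 (hAz i.1) (hAz l) hne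
          exact absurd (hle y) (not_le.2 hy)
        · exfalso
          have hd := (D.avoid g' hg').2.2.2
          have hz' := (D.avoid g' hg').1
          have hle' : g' ≤ Finsupp.single i.1 1 := fun y => by
            by_cases hy : y = z
            · rw [hy, hz']; exact Nat.zero_le _
            · have := hle y; simpa [Az, Finsupp.single_eq_of_ne hy] using this
          have := Finsupp.degree_mono hle'
          simp [Finsupp.degree_single, hd] at this
          have := D.two_le; omega
      · rw [Set.mem_singleton_iff] at hjS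
        have hγ := hrj hjS hj
        rw [show shift (Az z i.1) (a (Sum.inl (Sum.inl i))) = _ from (hs (Sum.inl (Sum.inl i))).1] at hγ
        simp only [gam, Sum.elim_inl] at hγ
        rcases j with (j | m') | (x | (b | j))
        · have : j = i := Subtype.ext (Finsupp.single_left_injective one_ne_zero (add_left_cancel (hjS : Az z j.1 = Az z i.1)))
          rw [this]
        · have := DFunLike.congr_fun hγ z
          simp [gam, Finsupp.single_eq_of_ne D.hz.symm, Finsupp.single_eq_of_ne m'.2.symm, Finsupp.single_eq_of_ne D.zN] at this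
        · have := DFunLike.congr_fun hγ z
          simp [gam, (K.exc_mem x.1 x.2).2.1, Finsupp.single_eq_of_ne D.zN] at this
        · have := DFunLike.congr_fun (hjS : b.1 = Az z i.1) z
          simp only [r, Sum.elim_inr, Sum.elim_inl] at this; rw [(D.avoid b.1 b.2).1] at this; have := Az_pos z i.1; omega
        · have := DFunLike.congr_fun hγ z
          simp [gam, (K.gam j).1, Finsupp.single_eq_of_ne D.zN] at this
    · have hmz := m.2
      let α := a (Sum.inl (Sum.inr m))
      have hsh : ∀ y, shift (Az z y) α = Finsupp.single y 1 + Finsupp.single m.1 1 ∧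
          ∀ l, 0 ≤ (Az z y l : ℤ) + α l := by
        intro y
        refine ⟨Finsupp.ext fun l => ?_, fun l => ?_⟩
        · rw [shift_apply]; simp [α, a, r, gam, diffDeg, Az]; omega
        · simp [α, a, r, gam, diffDeg, Az]; omega
      let S : Set (σ →₀ ℕ) := {β | ∃ y, y ≠ z ∧ y ≠ N ∧
        ¬ BE B (Finsupp.single y 1 + Finsupp.single m.1 1) ∧ β = Az z y}
      have hbh : ¬ BE B (Finsupp.single h 1 + Finsupp.single m.1 1) := fun hb => by
        rw [add_comm] at hb
        exact D.not_be_of_lt (by simp [Finsupp.degree_single]; have := D.two_le; omega) (D.be_add_hub hb)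
      refine ⟨S, ⟨h, D.hz, D.hN, hbh, rfl⟩, fun g hg => ?_, fun g hg g' hg' hL => ?_, fun j hj hjS => ?_⟩
      · obtain ⟨y, hyz, hyN, hyb, rfl⟩ := hg
        refine ⟨hGA hyN, (hsh y).2, fun he => ?_⟩
        rw [(hsh y).1, mem_exps D] at he
        rcases he with ⟨h1, -⟩ | he
        · simp [Finsupp.single_eq_of_ne hyz.symm, Finsupp.single_eq_of_ne hmz.symm] at h1
        · exact hyb he
      · obtain ⟨y, hyz, hyN, hyb, rfl⟩ := hg
        have hoy : Out I α (Az z y) := ⟨(hsh y).2, fun he => by
          rw [(hsh y).1, mem_exps D] at he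
          rcases he with ⟨h1, -⟩ | he
          · simp [Finsupp.single_eq_of_ne hyz.symm, Finsupp.single_eq_of_ne hmz.symm] at h1
          · exact hyb he⟩
        rcases hg' with ⟨l, hl, rfl⟩ | hg'
        · by_cases hlz : l = z
          · subst hlz
            exfalso
            refine not_out_sup hoy (N11.le_sup_of_lt (l := l) (g' := Az l l) (by
              simp [Az, Finsupp.single_eq_of_ne hyz.symm])) ?_ hL
            rw [(hsh y).1, mem_exps D, low_add, low_add, low_single N hyN, low_single N D.zN]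
            exact Or.inl ⟨by simp, by omega⟩
          · by_cases hly : l = y
            · exact ⟨y, hyz, hyN, hyb, by rw [hly]⟩
            refine ⟨l, hlz, hl, fun hb => ?_, rfl⟩
            refine not_out_sup hoy (N11.le_sup_of_lt (l := l) (g' := Az z l) (by
              simp [Az, Finsupp.single_eq_of_ne hly, Finsupp.single_eq_of_ne hlz])) ?_ hL
            rw [(hsh y).1, mem_exps D]
            refine Or.inr (hb.mono fun j => ?_)
            simp; omega
        · exfalso
          refine hL.2 ((mem_exps D).2 (Or.inr ⟨g', hg', fun j => ?_⟩))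
          rw [shift_apply]
          by_cases hjz : j = z
          · rw [hjz, (D.avoid g' hg').1]; exact Nat.zero_le _
          · simp [α, a, r, gam, diffDeg, Az, Finsupp.single_eq_of_ne hjz]
            omega
      · obtain ⟨y, hyz, hyN, hyb, hy⟩ := hjS
        have hγ := hrj hy hj
        rw [(hsh y).1] at hγ
        rcases j with (j | m') | (x | (b | j))
        · have := DFunLike.congr_fun hγ z
          simp [gam, Finsupp.single_eq_of_ne hyz.symm, Finsupp.single_eq_of_ne hmz.symm, Finsupp.single_eq_of_ne D.zN] at this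
        · have e : y = h := (Finsupp.single_left_injective one_ne_zero (add_left_cancel (hy : Az z h = Az z y))).symm
          subst e
          have : m' = m := Subtype.ext (Finsupp.single_left_injective one_ne_zero (add_left_cancel hγ))
          rw [this]
        · have e : y = h := (Finsupp.single_left_injective one_ne_zero (add_left_cancel (hy : Az z h = Az z y))).symm
          subst e
          have := DFunLike.congr_fun hγ y
          rw [show gam (Sum.inr (Sum.inl x)) y = x.1 y from rfl, (K.exc_mem x.1 x.2).2.2.1, Finsupp.add_apply,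
            Finsupp.single_eq_same] at this
          omega
        · have := DFunLike.congr_fun (hy : b.1 = Az z y) z
          simp only [r, Sum.elim_inr, Sum.elim_inl] at this; rw [(D.avoid b.1 b.2).1] at this; have := Az_pos z y; omega
        · have := DFunLike.congr_fun (hy : rep j = Az z y) z
          simp only [r, Sum.elim_inr, Sum.elim_inl] at this; rw [(D.avoid _ (K.rep_mem j)).1] at this; have := Az_pos z y; omega
    · obtain ⟨hxd, hxz, hxh, hxl, hxb, hxall⟩ := K.exc_mem x.1 x.2
      have hi := hs (Sum.inr (Sum.inl x))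
      have ho : Out I (a (Sum.inr (Sum.inl x))) (Az z h) := ⟨hi.2, fun he => by
        rw [show shift (Az z h) (a (Sum.inr (Sum.inl x))) = x.1 from hi.1, mem_exps D, hxz] at he
        simp at he; exact hxb he⟩
      refine ⟨{Az z h}, rfl, fun g hg => ?_, fun g hg g' hg' hL => ?_, fun j hj hjS => ?_⟩
      · rw [Set.mem_singleton_iff] at hg; subst hg; exact ⟨hGA D.hN, ho⟩
      · rw [Set.mem_singleton_iff] at hg ⊢; subst hg
        rcases hg' with ⟨l, hl, rfl⟩ | hg'
        · by_contra hne
          have hlh : l ≠ h := fun e => hne (by rw [e])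
          by_cases hlz : l = z
          · subst hlz
            refine not_out_sup ho (N11.le_sup_of_lt (l := l) (g' := Az l l) (by
              simp [Az, Finsupp.single_eq_of_ne D.hz.symm])) ?_ hL
            rw [show shift (Az l h) (a (Sum.inr (Sum.inl x))) = x.1 from hi.1, mem_exps D, low_add, low_single N D.zN]
            exact Or.inl ⟨by simp, by omega⟩
          · refine not_out_sup ho (N11.le_sup_of_lt (l := l) (g' := Az z l) (by
              simp [Az, Finsupp.single_eq_of_ne hlh, Finsupp.single_eq_of_ne hlz])) ?_ hL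
            rw [show shift (Az z h) (a (Sum.inr (Sum.inl x))) = x.1 from hi.1, mem_exps D]
            exact Or.inr (hxall l hlz hlh hl)
        · exfalso
          refine hL.2 ((mem_exps D).2 (Or.inr ⟨g', hg', fun j => ?_⟩))
          rw [shift_apply]
          by_cases hjz : j = z
          · rw [hjz, (D.avoid g' hg').1]; exact Nat.zero_le _
          · by_cases hjh : j = h
            · rw [hjh, (D.avoid g' hg').2.2.1]; exact Nat.zero_le _
            · simp [a, r, gam, diffDeg, Az, Finsupp.single_eq_of_ne hjz, Finsupp.single_eq_of_ne hjh]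
              omega
      · rw [Set.mem_singleton_iff] at hjS
        have hγ := hrj hjS hj
        rw [show shift (Az z h) (a (Sum.inr (Sum.inl x))) = x.1 from hi.1] at hγ
        rcases j with (j | m') | (x' | (b | j))
        · have := DFunLike.congr_fun hγ z
          simp [gam, hxz, Finsupp.single_eq_of_ne D.zN] at this
        · have := DFunLike.congr_fun hγ h
          simp [gam, hxh] at this
        · have e : x' = x := Subtype.ext hγ
          rw [e]
        · have := DFunLike.congr_fun (hjS : b.1 = Az z h) z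
          simp only [r, Sum.elim_inr, Sum.elim_inl] at this; rw [(D.avoid b.1 b.2).1] at this; have := Az_pos z h; omega
        · have := DFunLike.congr_fun (hjS : rep j = Az z h) z
          simp only [r, Sum.elim_inr, Sum.elim_inl] at this; rw [(D.avoid _ (K.rep_mem j)).1] at this; have := Az_pos z h; omega
    · obtain ⟨hbz, hbN, hbh, hbd⟩ := D.avoid b.1 b.2
      have hi := hs (Sum.inr (Sum.inr (Sum.inl b)))
      have ho : Out I (a (Sum.inr (Sum.inr (Sum.inl b)))) b.1 := ⟨hi.2, fun he => by
        rw [show shift b.1 (a (Sum.inr (Sum.inr (Sum.inl b)))) = _ from hi.1, mem_exps D] at he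
        simp only [gam, Sum.elim_inr, Sum.elim_inl, low_add, low_single N D.zN, low_single_self] at he
        rcases he with ⟨-, h2⟩ | ⟨b', hb', hle⟩
        · omega
        · obtain ⟨hbz', hbN', -, hbd'⟩ := D.avoid b' hb'
          obtain ⟨l, hl⟩ := Finsupp.ne_iff.1 (fun h0 : b' = 0 => by rw [h0] at hbd'; simp at hbd'; have := D.two_le; omega)
          simp only [Finsupp.coe_zero, Pi.zero_apply] at hl
          have h3 := hle l
          rw [Finsupp.add_apply, Finsupp.single_eq_of_ne (fun e => hl (by rw [e]; exact hbz')),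
            Finsupp.single_eq_of_ne (fun e => hl (by rw [e]; exact hbN'))] at h3
          omega⟩
      refine ⟨{b.1}, rfl, fun g hg => ?_, fun g hg g' hg' hL => ?_, fun j hj hjS => ?_⟩
      · rw [Set.mem_singleton_iff] at hg; subst hg; exact ⟨hGB b.2, ho⟩
      · rw [Set.mem_singleton_iff] at hg ⊢; subst hg
        have hle := hiso (e := d - 1) (hGB b.2) (by have := D.two_le; omega) ho hi.1 g' hg' hL
        rcases hg' with ⟨l, hl, rfl⟩ | hg'
        · have := hle z; simp [Az, hbz] at this
        · by_contra hne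
          obtain ⟨y, hy⟩ := hn11 hbd (D.avoid g' hg').2.2.2 hne
          exact absurd (hle y) (not_le.2 hy)
      · rw [Set.mem_singleton_iff] at hjS
        rcases j with (j | m') | (x | (b' | j))
        · have := DFunLike.congr_fun (hjS : Az z j.1 = b.1) z
          simp only [r, Sum.elim_inr, Sum.elim_inl] at this; rw [hbz] at this; have := Az_pos z j.1; omega
        · have := DFunLike.congr_fun (hjS : Az z h = b.1) z
          simp only [r, Sum.elim_inr, Sum.elim_inl] at this; rw [hbz] at this; have := Az_pos z h; omega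
        · have := DFunLike.congr_fun (hjS : Az z h = b.1) z
          simp only [r, Sum.elim_inr, Sum.elim_inl] at this; rw [hbz] at this; have := Az_pos z h; omega
        · rw [show b' = b from Subtype.ext hjS]
        · have hγ := hrj hjS hj
          rw [show shift b.1 (a (Sum.inr (Sum.inr (Sum.inl b)))) = _ from hi.1] at hγ
          have := DFunLike.congr_fun hγ z
          simp [gam, (K.gam j).1, Finsupp.single_eq_of_ne D.zN] at this
    · obtain ⟨S, h1, h2, h3, h4⟩ := K.indep i
      have hz' : ∀ g ∈ S, shift g (a (Sum.inr (Sum.inr (Sum.inr i)))) z = 0 := fun g hg => by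
        rw [shift_apply, (D.avoid g (h2 g hg).1).1]
        simp [a, r, gam, diffDeg, (K.gam i).1, (D.avoid _ (K.rep_mem i)).1]
      have ho : ∀ g ∈ S, Out I (a (Sum.inr (Sum.inr (Sum.inr i)))) g := fun g hg => ⟨(h2 g hg).2.1, fun he => by
        rw [mem_exps D, hz' g hg] at he
        simp at he; exact (h2 g hg).2.2.1 he⟩
      refine ⟨S, h1, fun g hg => ⟨hGB (h2 g hg).1, ho g hg⟩, fun g hg g' hg' hL => ?_, fun j hj hjS => ?_⟩
      · rcases hg' with ⟨l, hl, rfl⟩ | hg'
        · exfalso
          refine not_out_sup (ho g hg) (N11.le_sup_of_lt (l := z) (g' := Az z l) (by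
            rw [(D.avoid g (h2 g hg).1).1]; simp [Az])) ?_ hL
          rw [mem_exps D, low_add, low_single N D.zN]
          have := (h2 g hg).2.2.2
          exact Or.inl ⟨by simp, by show 2 ≤ low N (shift g (diffDeg (rep i) (γr i))) + 1; omega⟩
        · exact h3 g hg g' hg' fun hb => hL.2 ((mem_exps D).2 (Or.inr hb))
      · rcases j with (j | m') | (x | (b | j))
        · have := (D.avoid _ (h2 _ hjS).1).1; simp [r, Az] at this
        · have := (D.avoid _ (h2 _ hjS).1).1; simp [r, Az] at this
        · have := (D.avoid _ (h2 _ hjS).1).1; simp [r, Az] at this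
        · have hγ := hrj (rfl : r (Sum.inr (Sum.inr (Sum.inl b))) = b.1) hj
          have hh := hz' _ hjS
          rw [show shift (r (Sum.inr (Sum.inr (Sum.inl b)))) (a (Sum.inr (Sum.inr (Sum.inr i)))) z = gam (Sum.inr (Sum.inr (Sum.inl b))) z from DFunLike.congr_fun hγ.symm z] at hh
          simp [gam] at hh
        · rw [h4 j hj hjS]

end Groth.Agent.HilbPt29.Borel
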