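import Groth.Agent.Lib.HilbPt29.Borel
import Mathlib.Algebra.Order.Antidiag.FinsuppEquiv

/-!
# The ideals `x_z (all but x_N) + (x_o^q)` and `x_z (all but x_N) + x_o^q (x_j, j ∈ S)`
-/

set_option autoImplicit false
set_option maxHeartbeats 400000
universe u

open MvPolynomial W4c1hilbpn
open scoped Classical

noncomputable section

namespace Groth.Agent.HilbPt29.Borel

open N11 (low le_low low_mono low_add low_single low_single_self)

variable {σ : Type} [Fintype σ] {k : Type u} [Field k] {z N h o : σ} {q : ℕ}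

/-- Degree `q` exponents avoiding `z`. -/
abbrev Mq (z : σ) (q : ℕ) : Finset (σ →₀ ℕ) := (Finset.univ.erase z).finsuppAntidiag q

theorem mem_Mq {γ : σ →₀ ℕ} : γ ∈ Mq z q ↔ γ.degree = q ∧ γ z = 0 := by
  rw [Mq, Finset.mem_finsuppAntidiag, Finsupp.degree_eq_sum, ← Finset.add_sum_erase _ _ (Finset.mem_univ z)]
  constructor
  · rintro ⟨h1, h2⟩
    have hz : γ z = 0 := Finsupp.notMem_support_iff.1 fun hm => (Finset.mem_erase.1 (h2 hm)).1 rfl
    exact ⟨by rw [hz, zero_add]; exact h1, hz⟩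
  · rintro ⟨h1, h2⟩
    refine ⟨by rw [h2, zero_add] at h1; exact h1, fun i hi => Finset.mem_erase.2 ⟨fun e => ?_, Finset.mem_univ i⟩⟩
    subst e; exact Finsupp.mem_support_iff.1 hi h2

theorem card_Mq (z : σ) (q : ℕ) : (Mq z q).card = (Fintype.card σ - 1 + q - 1).choose q := by
  rw [Mq, Finset.card_finsuppAntidiag_nat_eq_choose, Finset.card_erase_of_mem (Finset.mem_univ z), Finset.card_univ]

theorem single_mem_Mq {i : σ} (hi : i ≠ z) : Finsupp.single i q ∈ Mq z q :=
  mem_Mq.2 ⟨Finsupp.degree_single _ _, Finsupp.single_eq_of_ne hi.symm⟩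

theorem eq_single_of_le {γ : σ →₀ ℕ} (hd : γ.degree = q) (ho : q ≤ γ o) : γ = Finsupp.single o q := by
  have hle : Finsupp.single o q ≤ γ := Finsupp.single_le_iff.2 ho
  have e := congrArg Finsupp.degree (tsub_add_cancel_of_le hle)
  rw [map_add, Finsupp.degree_single, hd] at e
  have h0 := (Finsupp.degree_eq_zero_iff _).1 (show (γ - Finsupp.single o q).degree = 0 by omega)
  exact le_antisymm (tsub_eq_zero_iff_le.1 h0) hle

theorem low_pos {γ : σ →₀ ℕ} (hd : γ.degree = q) (hne : γ ≠ Finsupp.single N q) : 1 ≤ low N γ := by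
  by_contra h
  exact hne (hd ▸ eq_single_of_low γ (by omega))

/-! ### One pure power -/

theorem be_pow {β : σ →₀ ℕ} : BE {Finsupp.single o q} β ↔ q ≤ β o := by
  simp [BE, Finsupp.single_le_iff]

/-- One pure power in the second block. -/
theorem finrank_hom0_pow (hzN : z ≠ N) (hhz : h ≠ z) (hhN : h ≠ N) (hoz : o ≠ z) (hoN : o ≠ N) (hoh : o ≠ h)
    (hq : 2 ≤ q) (hl : 4 ≤ q ∨ ∃ l, l ≠ z ∧ l ≠ h ∧ l ≠ N ∧ l ≠ o) :
    Module.finrank k ↥(⨆ α : {α : σ → ℤ // ∑ l, α l = 0},
      tPiece (J z N {Finsupp.single o q} : Ideal (MvPolynomial σ k)) α.1) =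
      2 * (Fintype.card σ - 1) + 1 + ((Fintype.card σ - 1 + q - 1).choose q - 2) := by
  let B : Finset (σ →₀ ℕ) := {Finsupp.single o q}
  let K := ((Mq z q).erase (Finsupp.single o q)).erase (Finsupp.single N q)
  have D : Data z N h B q := ⟨hzN, hhz, hhN, hq, fun b hb => by
    rw [Finset.mem_singleton] at hb; subst hb
    simp [Finsupp.single_eq_of_ne hoz.symm, Finsupp.single_eq_of_ne hoN.symm, Finsupp.single_eq_of_ne hoh.symm,
      Finsupp.degree_single]⟩
  have hK : ∀ {γ}, γ ∈ K ↔ γ ≠ Finsupp.single N q ∧ γ ≠ Finsupp.single o q ∧ γ.degree = q ∧ γ z = 0 := by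
    intro γ; simp only [K, Finset.mem_erase, mem_Mq]
  have key := finrank_hom0 (k := k) (κ := ↥K) (X := ∅) (rep := fun _ => Finsupp.single o q) (γr := fun γ => γ.1) D
    ⟨fun _ => Finset.mem_singleton_self _, fun γ => ⟨(hK.1 γ.2).2.2.2, (hK.1 γ.2).2.2.1⟩,
      fun γ hd hγz hγh hlow hbe => Or.inr ?_, fun γ hγ => absurd hγ (Finset.notMem_empty γ), ?_, ?_⟩
  · rw [key]
    have hc : K.card = (Mq z q).card - 2 := by
      rw [Finset.card_erase_of_mem, Finset.card_erase_of_mem (single_mem_Mq hoz)]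
      · omega
      · refine Finset.mem_erase.2 ⟨fun e => hoN ?_, single_mem_Mq hzN.symm⟩
        exact ((Finsupp.single_left_injective (show q ≠ 0 by omega)) e).symm
    simp [B, Fintype.card_coe, hc, card_Mq]
  · rcases hl with h4 | ⟨l, hlz, hlh, hlN, hlo⟩
    · refine ⟨o, hoz, hoh, hoN, fun hb => ?_⟩
      have h1 := be_pow.1 hb
      have h2 := Finsupp.le_degree o (γ + Finsupp.single o 1)
      rw [map_add, Finsupp.degree_single, hd] at h2
      omega
    · refine ⟨l, hlz, hlh, hlN, fun hb => hbe ?_⟩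
      rw [be_pow] at hb ⊢
      simpa [Finsupp.single_eq_of_ne hlo.symm] using hb
  · intro α c hα hαz _ _ hz g hg hn hb hlow
    rw [Finset.mem_singleton] at hg; subst hg
    have hd : (shift (Finsupp.single o q) α).degree = q := by rw [degree_shift hn hα, Finsupp.degree_single]
    have hzz : shift (Finsupp.single o q) α z = 0 := by
      rw [shift_apply, Finsupp.single_eq_of_ne hoz.symm, hαz]; rfl
    refine hz ⟨shift (Finsupp.single o q) α, hK.2 ⟨fun e => ?_, fun e => ?_, hd, hzz⟩⟩ (funext fun l => ?_)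
    · rw [e, low_single_self] at hlow; omega
    · exact hb (be_pow.2 (by simp [e]))
    · show (shift (Finsupp.single o q) α l : ℤ) - (Finsupp.single o q : σ →₀ ℕ) l = α l
      rw [shift_cast hn]; ring
  · intro γ
    obtain ⟨hN, ho, hd, hz0⟩ := hK.1 γ.2
    have hs := N11.shift_diffDeg (Finsupp.single o q) γ.1
    refine ⟨{Finsupp.single o q}, rfl, fun g hg => ?_, fun g _ g' hg' _ => Finset.mem_singleton.1 hg',
      fun j hj _ => Subtype.ext ?_⟩
    · rw [Set.mem_singleton_iff] at hg; subst hg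
      refine ⟨Finset.mem_singleton_self _, hs.2, ?_, ?_⟩
      · rw [hs.1, be_pow]
        exact fun hh => ho (eq_single_of_le hd hh)
      · rw [hs.1]; exact low_pos hd hN
    · rw [← hs.1, ← (N11.shift_diffDeg (Finsupp.single o q) j.1).1]
      exact congrArg _ hj

/-! ### Two blocks -/

/-- The second block `x_o^q x_j`, `j ∈ S`. -/
abbrev B2 (o : σ) (q : ℕ) (S : Finset σ) : Finset (σ →₀ ℕ) :=
  S.image fun j => Finsupp.single o q + Finsupp.single j 1

theorem sum_single (S : Finset σ) (i : σ) (m : ℕ) :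
    ∑ l ∈ S, (Finsupp.single i m : σ →₀ ℕ) l = if i ∈ S then m else 0 := by
  simp [Finsupp.single_apply]

variable {S : Finset σ}

theorem be_two (ho : o ∈ S) {β : σ →₀ ℕ} :
    BE (B2 o q S) β ↔ q ≤ β o ∧ q + 1 ≤ ∑ l ∈ S, β l := by
  constructor
  · rintro ⟨b, hb, hle⟩
    obtain ⟨j, hj, rfl⟩ := Finset.mem_image.1 hb
    constructor
    · have := hle o
      simp at this
      omega
    · have := Finset.sum_le_sum (s := S) (fun l (_ : l ∈ S) => hle l)
      simp only [Finsupp.add_apply, Finset.sum_add_distrib, sum_single, if_pos ho, if_pos hj] at this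
      exact this
  · rintro ⟨h1, h2⟩
    by_cases hq : q + 1 ≤ β o
    · refine ⟨_, Finset.mem_image.2 ⟨o, ho, rfl⟩, ?_⟩
      rw [← Finsupp.single_add, Finsupp.single_le_iff]; exact hq
    · obtain ⟨j, hj, hne⟩ := Finset.exists_ne_zero_of_sum_ne_zero
        (show ∑ l ∈ S.erase o, β l ≠ 0 by
          have := Finset.add_sum_erase S (fun l => β l) ho
          omega)
      obtain ⟨hjo, hjS⟩ := Finset.mem_erase.1 hj
      refine ⟨_, Finset.mem_image.2 ⟨j, hjS, rfl⟩, fun i => ?_⟩
      by_cases hio : i = o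
      · subst hio; simp [Finsupp.single_eq_of_ne hjo.symm]; exact h1
      · by_cases hij : i = j
        · subst hij; simp [Finsupp.single_eq_of_ne hio]; omega
        · simp [Finsupp.single_eq_of_ne hio, Finsupp.single_eq_of_ne hij]

theorem B2_inj (o : σ) (q : ℕ) : Function.Injective fun j : σ => Finsupp.single o q + Finsupp.single j 1 :=
  fun _ _ e => Finsupp.single_left_injective one_ne_zero (add_left_cancel e)

/-- Two blocks. -/
theorem finrank_hom0_two {two : σ} (hzN : z ≠ N) (hhz : h ≠ z) (hhN : h ≠ N) (hoS : o ∈ S) (h2S : two ∈ S)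
    (h2o : two ≠ o) (hzS : z ∉ S) (hNS : N ∉ S) (hhS : h ∉ S) (hq : 1 ≤ q) (X : Finset (σ →₀ ℕ))
    (hexc : ∀ γ : σ →₀ ℕ, γ.degree = 2 → γ z = 0 → γ h = 0 → 1 ≤ low N γ → ¬ BE (B2 o q S) γ →
      γ ∈ X ∨ ∃ l, l ≠ z ∧ l ≠ h ∧ l ≠ N ∧ ¬ BE (B2 o q S) (γ + Finsupp.single l 1))
    (hX : ∀ γ ∈ X, γ.degree = 2 ∧ γ z = 0 ∧ γ h = 0 ∧ 1 ≤ low N γ ∧ ¬ BE (B2 o q S) γ ∧
      ∀ l, l ≠ z → l ≠ h → l ≠ N → BE (B2 o q S) (γ + Finsupp.single l 1)) :
    Module.finrank k ↥(⨆ α : {α : σ → ℤ // ∑ l, α l = 0},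
      tPiece (J z N (B2 o q S) : Ideal (MvPolynomial σ k)) α.1) =
      2 * (Fintype.card σ - 1) + X.card + S.card +
        ((Fintype.card σ - 1 + q - 1).choose q - 1 + S.card * (Fintype.card σ - 1 - S.card)) := by
  let T : Finset σ := Finset.univ \ insert z S
  let M := (Mq z q).erase (Finsupp.single o q)
  let rep : ↥M ⊕ (↥S × ↥T) → σ →₀ ℕ :=
    Sum.elim (fun _ => Finsupp.single o q + Finsupp.single two 1) fun p => Finsupp.single o q + Finsupp.single p.1.1 1
  let γr : ↥M ⊕ (↥S × ↥T) → σ →₀ ℕ :=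
    Sum.elim (fun γ => γ.1 + Finsupp.single two 1) fun p => Finsupp.single o q + Finsupp.single p.2.1 1
  have hT : ∀ {m}, m ∈ T → m ≠ z ∧ m ∉ S := fun hm => by simpa [T] using hm
  have hM : ∀ {γ}, γ ∈ M ↔ γ ≠ Finsupp.single o q ∧ γ.degree = q ∧ γ z = 0 := by
    intro γ; simp only [M, Finset.mem_erase, mem_Mq]
  have ne_of : ∀ {i j : σ}, i ∈ S → j ∉ S → i ≠ j := fun hi hj e => hj (e ▸ hi)
  have hoz := ne_of hoS hzS
  have hmem : ∀ {j}, j ∈ S → Finsupp.single o q + Finsupp.single j 1 ∈ B2 o q S :=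
    fun hj => Finset.mem_image.2 ⟨_, hj, rfl⟩
  have D : Data z N h (B2 o q S) (q + 1) := ⟨hzN, hhz, hhN, by omega, fun b hb => by
    obtain ⟨j, hj, rfl⟩ := Finset.mem_image.1 hb
    simp [Finsupp.single_eq_of_ne hoz.symm, Finsupp.single_eq_of_ne (ne_of hj hzS).symm,
      Finsupp.single_eq_of_ne (ne_of hoS hNS).symm, Finsupp.single_eq_of_ne (ne_of hj hNS).symm,
      Finsupp.single_eq_of_ne (ne_of hoS hhS).symm, Finsupp.single_eq_of_ne (ne_of hj hhS).symm,
      Finsupp.degree_single]⟩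
  have key := finrank_hom0 (k := k) (κ := ↥M ⊕ (↥S × ↥T)) (X := X) (rep := rep) (γr := γr) D
    ⟨?_, ?_, hexc, hX, ?_, ?_⟩
  · rw [key]
    have hcT : T.card = Fintype.card σ - 1 - S.card := by
      rw [Finset.card_univ_diff, Finset.card_insert_of_notMem hzS]; omega
    have hcM : M.card = (Mq z q).card - 1 := Finset.card_erase_of_mem (single_mem_Mq hoz)
    simp only [Fintype.card_sum, Fintype.card_prod, Fintype.card_coe, hcT, hcM, card_Mq,
      Finset.card_image_of_injective S (B2_inj o q)]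
  · rintro (γ | p)
    · exact hmem h2S
    · exact hmem p.1.2
  · rintro (γ | p)
    · obtain ⟨-, hd, hz0⟩ := hM.1 γ.2
      simp [γr, hz0, hd, Finsupp.single_eq_of_ne (ne_of h2S hzS).symm, Finsupp.degree_single]
    · simp [γr, Finsupp.single_eq_of_ne hoz.symm, Finsupp.single_eq_of_ne (hT p.2.2).1.symm, Finsupp.degree_single]
  · intro α c hα hαz hlink hneg hz g hg hn hb hlow
    obtain ⟨j, hj, rfl⟩ := Finset.mem_image.1 hg
    set γ := shift (Finsupp.single o q + Finsupp.single j 1) α with hγdef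
    have hγ : ∀ i, (γ i : ℤ) = ((Finsupp.single o q + Finsupp.single j 1 : σ →₀ ℕ) i : ℕ) + α i := shift_cast hn
    have hd : γ.degree = q + 1 := by
      rw [hγdef, degree_shift hn hα, map_add, Finsupp.degree_single, Finsupp.degree_single]
    have hzz : γ z = 0 := by
      have := hγ z
      simp [Finsupp.single_eq_of_ne hoz.symm, Finsupp.single_eq_of_ne (ne_of hj hzS).symm, hαz] at this
      omega
    rw [be_two hoS, not_and, not_le] at hb
    have hext : ∀ l, ∀ g' : σ →₀ ℕ, g' = Finsupp.single o q + Finsupp.single l 1 → l ≠ j → l ∈ S →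
        ¬ BE (B2 o q S) (γ + Finsupp.single l 1) →
        c (Finsupp.single o q + Finsupp.single j 1) = c g' := by
      intro l g' he hlj hl hnb
      subst he
      refine hlink _ hg _ (hmem hl) hn (fun hb' => ?_) fun hb' => hnb (hb'.mono fun i => ?_)
      · rw [be_two hoS] at hb'; exact absurd hb'.2 (not_le.2 (hb hb'.1))
      · have h1 := hγ i
        rw [shift_apply]
        by_cases hi : i = l
        · subst hi; simp [Finsupp.single_eq_of_ne hlj] at h1 ⊢; omega
        · simp [Finsupp.single_eq_of_ne hi] at h1 ⊢; omega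
    have hrule : ∀ m, γ = Finsupp.single o q + Finsupp.single m 1 → m ∉ S → m ≠ z →
        c (Finsupp.single o q + Finsupp.single j 1) = 0 := by
      intro m hm hmS hmz
      refine hz (Sum.inr (⟨j, hj⟩, ⟨m, by simp [T, hmS, hmz]⟩)) (funext fun i => ?_)
      show ((Finsupp.single o q + Finsupp.single m 1 : σ →₀ ℕ) i : ℤ) -
        (Finsupp.single o q + Finsupp.single j 1 : σ →₀ ℕ) i = α i
      rw [← hm, hγ i]; ring
    have hbig : q ≤ γ o → ∃ m, γ = Finsupp.single o q + Finsupp.single m 1 ∧ m ∉ S ∧ m ≠ z := by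
      intro ho
      have hle : Finsupp.single o q ≤ γ := Finsupp.single_le_iff.2 ho
      have e := congrArg Finsupp.degree (tsub_add_cancel_of_le hle)
      rw [map_add, Finsupp.degree_single, hd] at e
      obtain ⟨m, hm⟩ := Finsupp.ne_iff.1 (fun h0 : γ - Finsupp.single o q = 0 => by rw [h0] at e; simp at e)
      simp only [Finsupp.coe_zero, Pi.zero_apply] at hm
      have e1 := eq_single_of_le (q := 1) (show (γ - Finsupp.single o q).degree = 1 by omega) (o := m) (by omega)
      have e2 : γ = Finsupp.single o q + Finsupp.single m 1 := by rw [← e1, add_comm, tsub_add_cancel_of_le hle]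
      refine ⟨m, e2, fun hmS => ?_, fun e' => ?_⟩
      · have := hb ho
        rw [e2] at this
        simp only [Finsupp.add_apply, Finset.sum_add_distrib, sum_single, if_pos hoS, if_pos hmS] at this
        omega
      · subst e'
        rw [e2] at hzz; simp at hzz
    by_cases hjj : 1 ≤ γ j
    · by_cases ho : q ≤ γ o
      · obtain ⟨m, hm, hmS, hmz⟩ := hbig ho
        exact hrule m hm hmS hmz
      · have hle : Finsupp.single j 1 ≤ γ := Finsupp.single_le_iff.2 hjj
        have e := congrArg Finsupp.degree (tsub_add_cancel_of_le hle)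
        rw [map_add, Finsupp.degree_single, hd] at e
        have hmM : γ - Finsupp.single j 1 ∈ M := hM.2 ⟨fun e' => ?_, by omega, by
          rw [Finsupp.tsub_apply, hzz, zero_tsub]⟩
        · have h2 : c (Finsupp.single o q + Finsupp.single two 1) = 0 :=
            hz (Sum.inl ⟨_, hmM⟩) (funext fun i => by
              show (((γ - Finsupp.single j 1) + Finsupp.single two 1 : σ →₀ ℕ) i : ℤ) -
                (Finsupp.single o q + Finsupp.single two 1 : σ →₀ ℕ) i = α i
              have h1 := hγ i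
              have h3 : (Finsupp.single j 1 : σ →₀ ℕ) i ≤ γ i := hle i
              simp at h1 ⊢
              omega)
          by_cases hj2 : j = two
          · rw [hj2]; exact h2
          · refine (hext two _ rfl (Ne.symm hj2) h2S fun hb' => ho ?_).trans h2
            have := ((be_two hoS).1 hb').1
            simpa [Finsupp.single_eq_of_ne h2o.symm] using this
        · have := congrArg (fun β : σ →₀ ℕ => β o) e'
          simp at this
          omega
    · by_cases ho : q ≤ γ o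
      · obtain ⟨m, hm, hmS, hmz⟩ := hbig ho
        exact hrule m hm hmS hmz
      · have hcz : ∀ l, l ≠ j → l ∈ S → c (Finsupp.single o q + Finsupp.single l 1) = 0 := by
          intro l hlj hl
          refine hneg _ (hmem hl) ⟨j, ?_⟩
          have h1 := hγ j
          simp [Finsupp.single_eq_of_ne hlj.symm] at h1 ⊢
          omega
        by_cases hw : ∃ w ∈ S, w ≠ o ∧ w ≠ j ∧ ((j = o) ∨ 1 ≤ γ w)
        · obtain ⟨w, hwS, hwo, hwj, -⟩ := hw
          exact (hext w _ rfl hwj hwS fun hb' => ho (by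
            have := ((be_two hoS).1 hb').1
            simpa [Finsupp.single_eq_of_ne hwo.symm] using this)).trans (hcz w hwj hwS)
        · have hjo : j ≠ o := fun e => hw ⟨two, h2S, h2o, e ▸ h2o, Or.inl e⟩
          have hsum : ∑ l ∈ S, γ l = γ o := by
            refine Finset.sum_eq_single o (fun l hl hlo => ?_) fun hh => absurd hoS hh
            by_cases hlj : l = j
            · subst hlj; omega
            · by_contra hne
              exact hw ⟨l, hl, hlo, hlj, Or.inr (Nat.one_le_iff_ne_zero.2 hne)⟩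
          refine (hext o _ rfl hjo.symm hoS fun hb' => ?_).trans (hcz o hjo.symm hoS)
          have := ((be_two hoS).1 hb').2
          simp only [Finsupp.add_apply, Finset.sum_add_distrib, sum_single, if_pos hoS, hsum] at this
          omega
  · rintro (γ | ⟨j, m⟩)
    · obtain ⟨hne, hd, hz0⟩ := hM.1 γ.2
      have hα : ∀ l i, ((Finsupp.single o q + Finsupp.single l 1 : σ →₀ ℕ) i : ℤ) +
          diffDeg (rep (Sum.inl γ)) (γr (Sum.inl γ)) i = ((γ.1 + Finsupp.single l 1 : σ →₀ ℕ) i : ℕ) := by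
        intro l i; simp [rep, γr, diffDeg]; ring
      have hsh : ∀ l, shift (Finsupp.single o q + Finsupp.single l 1) (diffDeg (rep (Sum.inl γ)) (γr (Sum.inl γ))) =
          γ.1 + Finsupp.single l 1 := fun l => Finsupp.ext fun i => by rw [shift_apply, hα l i]; rfl
      have hlt : γ.1 o < q := not_le.1 fun hh => hne (eq_single_of_le hd hh)
      refine ⟨{g | ∃ l ∈ S, (γ.1 + Finsupp.single l 1 : σ →₀ ℕ) o < q ∧ g = Finsupp.single o q + Finsupp.single l 1},
        ⟨two, h2S, by simpa [Finsupp.single_eq_of_ne h2o.symm] using hlt, rfl⟩, fun g hg => ?_,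
        fun g hg g' hg' hb => ?_, fun j hj hjS => ?_⟩
      · obtain ⟨l, hl, hlo, rfl⟩ := hg
        refine ⟨hmem hl, fun i => by rw [hα l i]; exact Int.natCast_nonneg _, ?_, ?_⟩
        · rw [hsh l, be_two hoS]; omega
        · rw [hsh l, low_add, low_single N (ne_of hl hNS)]; omega
      · obtain ⟨l, hl, hlo, rfl⟩ := hg
        obtain ⟨l', hl', rfl⟩ := Finset.mem_image.1 hg'
        by_cases hll : l' = l
        · subst hll; exact ⟨l', hl', hlo, rfl⟩
        refine ⟨l', hl', not_le.1 fun hge => hb ?_, rfl⟩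
        have hl'o : l' = o := by
          by_contra hh
          rw [Finsupp.add_apply, Finsupp.single_eq_of_ne (Ne.symm hh)] at hge; omega
        subst hl'o
        rw [Finsupp.add_apply, Finsupp.single_eq_same] at hge
        have hsum : q + 1 ≤ ∑ i ∈ S, (γ.1 + Finsupp.single l 1 + Finsupp.single l' 1 : σ →₀ ℕ) i := by
          have := Finset.single_le_sum (fun i _ => Nat.zero_le (γ.1 i)) hoS
          simp only [Finsupp.add_apply, Finset.sum_add_distrib, sum_single, if_pos hl, if_pos hoS]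
          omega
        refine BE.mono ((be_two hoS).2 ⟨by simp; omega, hsum⟩) fun i => ?_
        have h1 := hα l i
        rw [shift_apply]
        by_cases hi : i = l'
        · subst hi; simp [Finsupp.single_eq_of_ne hll] at h1 ⊢; omega
        · simp [Finsupp.single_eq_of_ne hi] at h1 ⊢; omega
      · rcases j with γ' | ⟨j, m⟩
        · refine congrArg Sum.inl (Subtype.ext (Finsupp.ext fun i => ?_))
          have := congrFun hj i
          simp [rep, γr, diffDeg] at this
          omega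
        · exfalso
          obtain ⟨l, hl, hlo, hle⟩ := hjS
          have hjl : j.1 = l := B2_inj o q hle
          have hmo : m.1 ≠ j.1 := (ne_of j.2 (hT m.2).2).symm
          have e1 := congrFun hj j.1
          have e2 := congrFun hj o
          have hmo' : m.1 ≠ o := (ne_of hoS (hT m.2).2).symm
          by_cases hjo : j.1 = o
          · rw [← hjl, hjo] at hlo
            simp [rep, γr, diffDeg, hjo, Finsupp.single_eq_of_ne hmo'.symm] at e2 hlo
            omega
          · simp [rep, γr, diffDeg, Finsupp.single_eq_of_ne hjo, Finsupp.single_eq_of_ne hmo.symm] at e1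
            try omega
    · obtain ⟨hmz, hmS⟩ := hT m.2
      have hs := N11.shift_diffDeg (rep (Sum.inr (j, m))) (γr (Sum.inr (j, m)))
      refine ⟨{rep (Sum.inr (j, m))}, rfl, fun g hg => ?_, fun g hg g' hg' hb => ?_, fun i hi hiS => ?_⟩
      · rw [Set.mem_singleton_iff] at hg; subst hg
        refine ⟨hmem j.2, hs.2, ?_, ?_⟩
        · rw [hs.1, be_two hoS]
          simp [γr, Finset.sum_add_distrib, sum_single, hoS, hmS]
        · rw [hs.1]
          simp only [γr, Sum.elim_inr, low_add, low_single N (ne_of hoS hNS)]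
          omega
      · rw [Set.mem_singleton_iff] at hg ⊢; subst hg
        obtain ⟨l, hl, rfl⟩ := Finset.mem_image.1 hg'
        by_contra hne
        have hlj : l ≠ j.1 := fun e => hne (by simp [rep, e])
        refine hb (BE.mono (B := B2 o q S) (β := Finsupp.single o q + Finsupp.single m.1 1 + Finsupp.single l 1)
          ((be_two hoS).2 ⟨by simp; omega, ?_⟩) fun i => ?_)
        · simp only [Finsupp.add_apply, Finset.sum_add_distrib, sum_single, if_pos hoS, if_pos hl, if_neg hmS]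
          omega
        · rw [shift_apply]
          by_cases hi : i = l
          · subst hi; simp [rep, γr, diffDeg, Finsupp.single_eq_of_ne hlj] <;> omega
          · simp [rep, γr, diffDeg, Finsupp.single_eq_of_ne hi]; omega
      · rw [Set.mem_singleton_iff] at hiS
        rcases i with γ' | ⟨j', m'⟩
        · exfalso
          have e : two = j.1 := B2_inj o q hiS
          have h1 := congrFun hi two
          simp [rep, γr, diffDeg, ← e, Finsupp.single_eq_of_ne (ne_of h2S hmS), Finsupp.single_eq_of_ne h2o] at h1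
        · have e : j' = j := Subtype.ext (B2_inj o q hiS)
          subst e
          have e' : m' = m := by
            refine Subtype.ext (Finsupp.single_left_injective (one_ne_zero (α := ℕ)) (Finsupp.ext fun i => ?_))
            have := congrFun hi i
            simp [rep, γr, diffDeg] at this
            show (Finsupp.single m'.1 1 : σ →₀ ℕ) i = (Finsupp.single m.1 1 : σ →₀ ℕ) i
            omega
          rw [e']

end Groth.Agent.HilbPt29.Borel

namespace Groth.Agent.HilbPt29.Borel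

theorem span_eq {n : ℕ} {k : Type u} [Field k] (T : Set (MvPolynomial (Fin (n + 1)) k))
    (B : Finset (Fin (n + 1) →₀ ℕ)) (hT : T = (fun β => monomial β (1 : k)) '' (↑B : Set (Fin (n + 1) →₀ ℕ))) :
    Ideal.span ({f : MvPolynomial (Fin (n + 1)) k | ∃ i : Fin (n + 1), i.val + 1 ≤ n ∧
        f = MvPolynomial.X 0 * MvPolynomial.X i} ∪ T) = J 0 (Fin.last n) B := by
  have hm : ∀ i : Fin (n + 1), monomial (Az 0 i) (1 : k) = X 0 * X i := fun i => by
    rw [Az, X, X, monomial_mul, one_mul]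
  have hN : ∀ i : Fin (n + 1), i.val + 1 ≤ n ↔ i ≠ Fin.last n := fun i => by
    rw [Ne, Fin.ext_iff, Fin.val_last]; omega
  refine congrArg Ideal.span ?_
  subst hT
  ext f
  constructor
  · rintro (⟨i, hi, rfl⟩ | ⟨b, hb, rfl⟩)
    · exact ⟨_, Or.inl ⟨i, (hN i).1 hi, rfl⟩, hm i⟩
    · exact ⟨b, Or.inr hb, rfl⟩
  · rintro ⟨b, (⟨i, hi, rfl⟩ | hb), rfl⟩
    · exact Or.inl ⟨i, (hN i).2 hi, hm i⟩
    · exact Or.inr ⟨b, hb, rfl⟩

theorem choose_two_block (n q : ℕ) (hn : 1 ≤ n) : (n + q - 1).choose q = (n + q - 1).choose (n - 1) := by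
  rw [← Nat.choose_symm (show q ≤ n + q - 1 by omega)]
  congr 1; omega

/-- The family `x_0 (x_0, …, x_{n-1}) + x_1^q (x_1, …, x_s)`. -/
theorem finrank_family {k : Type u} [Field k] (n q s : ℕ) (hs : 2 ≤ s) (hsn : s + 2 ≤ n) (hq : 1 ≤ q)
    (X : Finset (Fin (n + 1) →₀ ℕ))
    (hexc : ∀ γ : Fin (n + 1) →₀ ℕ, γ.degree = 2 → γ 0 = 0 → γ ⟨n - 1, by omega⟩ = 0 → 1 ≤ N11.low (Fin.last n) γ →
      ¬ BE (B2 (1 : Fin (n + 1)) q (Finset.univ.filter fun i => 1 ≤ i.val ∧ i.val ≤ s)) γ →
      γ ∈ X ∨ ∃ l, l ≠ 0 ∧ l ≠ ⟨n - 1, by omega⟩ ∧ l ≠ Fin.last n ∧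
        ¬ BE (B2 (1 : Fin (n + 1)) q (Finset.univ.filter fun i => 1 ≤ i.val ∧ i.val ≤ s)) (γ + Finsupp.single l 1))
    (hX : ∀ γ ∈ X, γ.degree = 2 ∧ γ 0 = 0 ∧ γ ⟨n - 1, by omega⟩ = 0 ∧ 1 ≤ N11.low (Fin.last n) γ ∧
      ¬ BE (B2 (1 : Fin (n + 1)) q (Finset.univ.filter fun i => 1 ≤ i.val ∧ i.val ≤ s)) γ ∧
      ∀ l, l ≠ 0 → l ≠ ⟨n - 1, by omega⟩ → l ≠ Fin.last n →
        BE (B2 (1 : Fin (n + 1)) q (Finset.univ.filter fun i => 1 ≤ i.val ∧ i.val ≤ s)) (γ + Finsupp.single l 1)) :
    Module.finrank k ↥(⨆ α : {α : Fin (n + 1) → ℤ // ∑ l, α l = 0},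
      tPiece (Ideal.span ({f : MvPolynomial (Fin (n + 1)) k | ∃ i : Fin (n + 1), i.val + 1 ≤ n ∧
          f = MvPolynomial.X 0 * MvPolynomial.X i} ∪ {f : MvPolynomial (Fin (n + 1)) k | ∃ i : Fin (n + 1),
          1 ≤ i.val ∧ i.val ≤ s ∧ f = MvPolynomial.X 1 ^ q * MvPolynomial.X i})) α.1) =
      2 * n + X.card + s + ((n + q - 1).choose (n - 1) - 1 + s * (n - s)) := by
  have h1 : ((1 : Fin (n + 1)) : ℕ) = 1 := by simp [Fin.val_one', Nat.mod_eq_of_lt (show 1 < n + 1 by omega)]
  set S : Finset (Fin (n + 1)) := Finset.univ.filter fun i => 1 ≤ i.val ∧ i.val ≤ s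
  have hS : ∀ {i : Fin (n + 1)}, i ∈ S ↔ 1 ≤ i.val ∧ i.val ≤ s := by intro i; simp [S]
  have hc : S.card = s := by
    rw [← Finset.card_image_of_injective S Fin.val_injective,
      show S.image Fin.val = Finset.Icc 1 s from ?_, Nat.card_Icc]
    · omega
    · ext i
      simp only [Finset.mem_image, hS, Finset.mem_Icc]
      exact ⟨fun ⟨j, hj, e⟩ => e ▸ hj, fun hi => ⟨⟨i, by omega⟩, hi, rfl⟩⟩
  rw [span_eq _ (B2 1 q S) ?_, finrank_hom0_two (h := (⟨n - 1, by omega⟩ : Fin (n + 1)))
    (two := (⟨2, by omega⟩ : Fin (n + 1))) _ _ _ (hS.2 ⟨by omega, by omega⟩) (hS.2 ⟨by simp, by simpa using hs⟩) _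
    (by simp [hS]) (by rw [hS]; simp; omega) (by rw [hS]; simp; omega) hq X hexc hX]
  · rw [hc, Fintype.card_fin, Nat.add_sub_cancel, choose_two_block n q (by omega)]
  · rw [Ne, Fin.ext_iff]; simp; omega
  · rw [Ne, Fin.ext_iff]; simp; omega
  · rw [Ne, Fin.ext_iff]; simp; omega
  · rw [Ne, Fin.ext_iff, h1]; simp
  · ext f
    simp only [Finset.coe_image, Set.mem_image, Finset.mem_coe, exists_exists_and_eq_and, Set.mem_setOf_eq, hS]
    have hm : ∀ i : Fin (n + 1), monomial (Finsupp.single (1 : Fin (n + 1)) q + Finsupp.single i 1) (1 : k) =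
        MvPolynomial.X 1 ^ q * MvPolynomial.X i := fun i => by
      rw [X_pow_eq_monomial, MvPolynomial.X, monomial_mul, one_mul]
    exact ⟨fun ⟨i, a, b, e⟩ => ⟨i, ⟨a, b⟩, (hm i).trans e.symm⟩,
      fun ⟨i, ⟨a, b⟩, e⟩ => ⟨i, a, b, e.symm.trans (hm i)⟩⟩

end Groth.Agent.HilbPt29.Borel

theorem Groth.Agent.HilbPt29.Borel.not_be_two_of_lt {σ : Type} [Fintype σ] {o : σ} {q : ℕ} {S : Finset σ}
    {β : σ →₀ ℕ} (h : β.degree < q + 1) :
    ¬ Groth.Agent.HilbPt29.Borel.BE (Groth.Agent.HilbPt29.Borel.B2 o q S) β := fun ⟨b, hb, hle⟩ => by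
  obtain ⟨j, -, rfl⟩ := Finset.mem_image.1 hb
  have := Finsupp.degree_mono hle
  simp [Finsupp.degree_single] at this
  omega
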