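import Groth.Agent.Lib.HilbPt29.Piece
import Mathlib.LinearAlgebra.Dimension.Constructions
import Mathlib.LinearAlgebra.Dimension.Finite

/-!
# Graded pieces and bounded components
-/

set_option autoImplicit false
set_option maxHeartbeats 400000
universe u

open MvPolynomial W4c1hilbpn
open scoped Classical

noncomputable section

namespace Groth.Agent.HilbPt29

variable {σ : Type} [Fintype σ] {k : Type u} [Field k] {I : Ideal (MvPolynomial σ k)} {α : σ → ℤ}

theorem stepGraph_cases {a b : σ → ℤ} (h : (stepGraph σ).Adj a b) :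
    ∃ i, b = a + Pi.single i 1 ∨ a = b + Pi.single i 1 := by
  obtain ⟨-, h⟩ := (SimpleGraph.fromRel_adj _ _ _).1 h
  have h1 : ∑ i, |a i - b i| = 1 := h.elim id fun h => (Finset.sum_congr rfl fun i _ => abs_sub_comm _ _).trans h
  obtain ⟨i, -, hi⟩ := Finset.exists_ne_zero_of_sum_ne_zero (by rw [h1]; norm_num : ∑ i, |a i - b i| ≠ 0)
  have h2 := Finset.add_sum_erase Finset.univ (fun j => |a j - b j|) (Finset.mem_univ i)
  rw [h1] at h2
  have h3 : 0 ≤ ∑ j ∈ Finset.univ.erase i, |a j - b j| := Finset.sum_nonneg fun j _ => abs_nonneg _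
  have h4 : 1 ≤ |a i - b i| := lt_of_le_of_ne (abs_nonneg _) (Ne.symm hi)
  have h5 := (Finset.sum_eq_zero_iff_of_nonneg (fun j _ => abs_nonneg _)).1
    (show ∑ j ∈ Finset.univ.erase i, |a j - b j| = 0 by linarith)
  have h6 : |a i - b i| = 1 := by linarith
  have hj : ∀ j, j ≠ i → a j = b j := fun j hj =>
    sub_eq_zero.1 (abs_eq_zero.1 (h5 j (Finset.mem_erase.2 ⟨hj, Finset.mem_univ j⟩)))
  refine ⟨i, ?_⟩
  rcases (abs_eq (by norm_num : (0 : ℤ) ≤ 1)).1 h6 with h7 | h7
  · refine Or.inr (funext fun j => ?_)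
    by_cases e : j = i
    · subst e; simp; omega
    · simp [e, hj j e]
  · refine Or.inl (funext fun j => ?_)
    by_cases e : j = i
    · subst e; simp; omega
    · simp [e, hj j e]

theorem stepGraph_adj_single (a : σ → ℤ) (i : σ) : (stepGraph σ).Adj a (a + Pi.single i 1) := by
  refine (SimpleGraph.fromRel_adj _ _ _).2 ⟨fun h => ?_, Or.inl ?_⟩
  · have := congrFun h i
    simp at this
  · rw [Finset.sum_eq_single i (fun j _ hj => by simp [hj]) (fun h => absurd (Finset.mem_univ i) h)]
    simp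

/-- The translate of an exponent. -/
def tr (α : σ → ℤ) (β : σ →₀ ℕ) : σ → ℤ := fun i => (β i : ℤ) + α i

theorem tr_injective : Function.Injective (tr α) := fun β β' h => Finsupp.ext fun i => by
  have := congrFun h i
  simp [tr] at this
  exact this

theorem tr_add_single (β : σ →₀ ℕ) (i : σ) : tr α (β + Finsupp.single i 1) = tr α β + Pi.single i 1 := by
  funext j
  by_cases h : j = i
  · subst h; simp [tr]; ring
  · simp [tr, Finsupp.single_eq_of_ne h, h]

theorem mem_region_of {β : σ →₀ ℕ} (hβ : β ∈ exps I) (h : ¬ ∀ i, 0 ≤ tr α β i) : tr α β ∈ region I α :=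
  ⟨⟨β, hβ, rfl⟩, fun h' => h h'.1⟩

theorem Out.mem_region {β : σ →₀ ℕ} (hβ : β ∈ exps I) (h : Out I α β) : tr α β ∈ region I α :=
  ⟨⟨β, hβ, rfl⟩, fun h' => h.2 h'.2⟩

theorem out_iff {β : exps I} (h : tr α β.1 ∈ region I α) : Out I α β.1 ↔ ∀ i, 0 ≤ tr α β.1 i :=
  ⟨fun ho => ho.1, fun hn => ⟨hn, fun he => h.2 ⟨hn, he⟩⟩⟩

/-- The exponent of a point of the region. -/
def bof (γ : ↥(region I α)) : exps I := ⟨γ.2.1.choose, γ.2.1.choose_spec.1⟩

theorem tr_bof (γ : ↥(region I α)) : tr α (bof γ).1 = γ.1 := γ.2.1.choose_spec.2.symm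

theorem bof_eq {γ : ↥(region I α)} {β : σ →₀ ℕ} (h : tr α β = γ.1) : (bof γ).1 = β :=
  tr_injective ((tr_bof γ).trans h.symm)

variable (I α) in
/-- The graph of the region. -/
abbrev G : SimpleGraph ↥(region I α) := (stepGraph σ).induce (region I α)

theorem Cf.adj {c : exps I → k} (hc : c ∈ Cf I α) {γ γ' : ↥(region I α)} {i : σ}
    (h : γ'.1 = γ.1 + Pi.single i 1) : c (bof γ') = c (bof γ) := by
  have e : (bof γ').1 = (bof γ).1 + Finsupp.single i 1 :=
    bof_eq (by rw [tr_add_single, tr_bof, h])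
  by_cases ho : Out I α ((bof γ).1 + Finsupp.single i 1)
  · rw [← hc.2 (bof γ) i ho]
    exact congrArg c (Subtype.ext e)
  · have ho' : ¬ Out I α (bof γ').1 := e ▸ ho
    have hr : tr α (bof γ').1 ∈ region I α := (tr_bof γ').symm ▸ γ'.2
    have hr2 : tr α (bof γ).1 ∈ region I α := (tr_bof γ).symm ▸ γ.2
    rw [hc.1 _ ho', hc.1 _ fun h2 => ho' ?_]
    refine (out_iff hr).2 fun j => ?_
    rw [tr_bof, h, Pi.add_apply]
    have := (out_iff hr2).1 h2 j
    rw [tr_bof] at this
    by_cases hj : j = i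
    · subst hj; simp; omega
    · simpa [hj] using this

theorem Cf.reach {c : exps I → k} (hc : c ∈ Cf I α) {γ γ' : ↥(region I α)} (h : (G I α).Reachable γ γ') :
    c (bof γ) = c (bof γ') := by
  obtain ⟨p⟩ := h
  induction p with
  | nil => rfl
  | cons hadj _ ih =>
    refine Eq.trans ?_ ih
    rcases stepGraph_cases hadj with ⟨i, hi | hi⟩
    · exact (Cf.adj hc hi).symm
    · exact Cf.adj hc hi

variable [Nontrivial σ]

theorem nonneg_of_finite (C : (G I α).ConnectedComponent) (hC : C.supp.Finite) {γ : ↥(region I α)}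
    (hγ : γ ∈ C.supp) : ∀ i, 0 ≤ γ.1 i := by
  by_contra hn
  simp only [not_forall, not_le] at hn
  obtain ⟨i, hi⟩ := hn
  obtain ⟨j, hj⟩ := exists_ne i
  have hmem : ∀ t : ℕ, tr α ((bof γ).1 + Finsupp.single j t) ∈ region I α := fun t => by
    refine mem_region_of (mem_exps_of_le (bof γ).2 le_self_add) fun h => ?_
    have := h i
    have e := congrFun (tr_bof γ) i
    simp [tr, Finsupp.single_eq_of_ne hj.symm] at this e
    omega
  let f : ℕ → ↥(region I α) := fun t => ⟨_, hmem t⟩
  have hf : ∀ t, f t ∈ C.supp := by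
    intro t
    induction t with
    | zero =>
      have : f 0 = γ := Subtype.ext (by simp [f, tr_bof])
      rwa [this]
    | succ t ih =>
      have hadj : (G I α).Adj (f t) (f (t + 1)) := by
        show (stepGraph σ).Adj _ _
        simp only [f, Finsupp.single_add, ← add_assoc, tr_add_single]
        exact stepGraph_adj_single _ _
      exact (SimpleGraph.ConnectedComponent.mem_supp_iff _ _).2
        ((SimpleGraph.ConnectedComponent.connectedComponentMk_eq_of_adj hadj).symm.trans ih)
  refine hC.not_infinite (Set.infinite_of_injective_forall_mem (fun a b h => ?_) hf)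
  have := tr_injective (Subtype.ext_iff.1 h)
  exact Finsupp.single_injective j (add_left_cancel this)

theorem finite_of_nonneg (hI : IsMonomial I) [Module.Finite k (MvPolynomial σ k ⧸ I)]
    (C : (G I α).ConnectedComponent) (hC : ∀ γ ∈ C.supp, ∀ i, 0 ≤ γ.1 i) : C.supp.Finite := by
  haveI := finite_outside hI
  refine Set.finite_coe_iff.1 (Finite.of_injective
    (fun γ : C.supp => (⟨shift (bof γ.1).1 α, ((out_iff ((tr_bof γ.1).symm ▸ γ.1.2)).2 (by
      rw [tr_bof]; exact hC _ γ.2)).2⟩ : {β : σ →₀ ℕ // β ∉ exps I})) fun a b h => ?_)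
  refine Subtype.ext (Subtype.ext ?_)
  rw [← tr_bof a.1, ← tr_bof b.1]
  funext i
  have ha : 0 ≤ tr α (bof a.1).1 i := by rw [tr_bof]; exact hC _ a.2 i
  have hb : 0 ≤ tr α (bof b.1).1 i := by rw [tr_bof]; exact hC _ b.2 i
  have := DFunLike.congr_fun (Subtype.ext_iff.1 h) i
  simp [shift_apply, tr] at this ha hb ⊢
  omega

variable (I α) in
/-- The bounded components. -/
abbrev BComp := {C : (G I α).ConnectedComponent // C.supp.Finite}

/-- Coefficients from values on bounded components. -/
def ofComp (f : BComp I α → k) (β : exps I) : k :=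
  if h : ∃ hr : tr α β.1 ∈ region I α, ((G I α).connectedComponentMk ⟨_, hr⟩).supp.Finite
  then f ⟨_, h.choose_spec⟩ else 0

theorem ofComp_mem (f : BComp I α → k) : ofComp f ∈ Cf I α := by
  refine ⟨fun β h => ?_, fun β i h => ?_⟩
  · refine dif_neg ?_
    rintro ⟨hr, hfin⟩
    exact h ((out_iff hr).2 (nonneg_of_finite (γ := ⟨_, hr⟩) _ hfin rfl))
  · have hr' := h.mem_region (mem_exps_of_le β.2 le_self_add)
    have hr : tr α β.1 ∈ region I α := by
      by_cases hn : ∀ j, 0 ≤ tr α β.1 j
      · refine Out.mem_region β.2 ⟨hn, fun he => h.2 ?_⟩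
        rw [shift_add hn]
        exact mem_exps_of_le he le_self_add
      · exact mem_region_of β.2 hn
    have hadj : (G I α).Adj ⟨_, hr⟩ ⟨_, hr'⟩ := by
      show (stepGraph σ).Adj _ _
      simp only [tr_add_single]
      exact stepGraph_adj_single _ _
    have e := SimpleGraph.ConnectedComponent.connectedComponentMk_eq_of_adj hadj
    unfold ofComp
    by_cases hf : ((G I α).connectedComponentMk ⟨_, hr⟩).supp.Finite
    · rw [dif_pos ⟨hr', e ▸ hf⟩, dif_pos ⟨hr, hf⟩]
      exact congrArg f (Subtype.ext e.symm)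
    · rw [dif_neg fun ⟨_, h2⟩ => hf (e.symm ▸ h2), dif_neg fun ⟨_, h2⟩ => hf h2]

/-- A graded piece is the space of functions on the bounded components. -/
def compEquiv (hI : IsMonomial I) [Module.Finite k (MvPolynomial σ k ⧸ I)] :
    Cf I α ≃ₗ[k] (BComp I α → k) where
  toFun c C := C.1.lift (fun γ => c.1 (bof γ)) fun _ _ p _ => Cf.reach c.2 ⟨p⟩
  map_add' c d := funext fun ⟨C, _⟩ => by
    induction C using SimpleGraph.ConnectedComponent.ind; rfl
  map_smul' r c := funext fun ⟨C, _⟩ => by
    induction C using SimpleGraph.ConnectedComponent.ind; rfl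
  invFun f := ⟨ofComp f, ofComp_mem f⟩
  left_inv c := Subtype.ext <| funext fun β => by
    dsimp only
    unfold ofComp
    split_ifs with h
    · exact congrArg c.1 (Subtype.ext (bof_eq (γ := ⟨_, h.choose⟩) rfl))
    · by_cases ho : Out I α β.1
      · have hr := ho.mem_region β.2
        have hinf : ¬ ∀ γ ∈ ((G I α).connectedComponentMk ⟨_, hr⟩).supp, ∀ i, 0 ≤ γ.1 i :=
          fun hh => h ⟨hr, finite_of_nonneg hI _ hh⟩
        simp only [not_forall] at hinf
        obtain ⟨γ, hγ, i, hi⟩ := hinf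
        have := Cf.reach c.2 (SimpleGraph.ConnectedComponent.exact ((SimpleGraph.ConnectedComponent.mem_supp_iff _ _).1 hγ))
        rw [c.2.1 (bof γ) fun hh => hi (by rw [← tr_bof γ]; exact hh.1 i),
          Subtype.ext (bof_eq (γ := ⟨_, hr⟩) rfl) (a2 := β)] at this
        exact this
      · exact (c.2.1 β ho).symm
  right_inv f := funext fun ⟨C, hC⟩ => by
    induction C using SimpleGraph.ConnectedComponent.ind with
    | h γ =>
      show ofComp f (bof γ) = _
      unfold ofComp
      have hr : tr α (bof γ).1 ∈ region I α := (tr_bof γ).symm ▸ γ.2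
      have e : (⟨_, hr⟩ : ↥(region I α)) = γ := Subtype.ext (tr_bof γ)
      rw [dif_pos ⟨hr, e.symm ▸ hC⟩]
      exact congrArg f (Subtype.ext (congrArg (fun x => (G I α).connectedComponentMk x) e))

theorem finrank_tPiece (hI : IsMonomial I) [Module.Finite k (MvPolynomial σ k ⧸ I)] (α : σ → ℤ) :
    Module.finrank k (tPiece I α) = nBddComp I α := by
  haveI : Finite (BComp I α) := by
    haveI := finite_outside hI
    have hne : ∀ C : BComp I α, ∃ γ, γ ∈ C.1.supp := fun C => C.1.nonempty_supp
    choose g hg using hne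
    have ho : ∀ C, Out I α (bof (g C)).1 := fun C => (out_iff ((tr_bof (g C)).symm ▸ (g C).2)).2 (by
      rw [tr_bof]; exact nonneg_of_finite C.1 C.2 (hg C))
    refine Finite.of_injective (fun C => (⟨shift (bof (g C)).1 α, (ho C).2⟩ : {β : σ →₀ ℕ // β ∉ exps I}))
      fun C D h => Subtype.ext ?_
    have hg' : g C = g D := by
      refine Subtype.ext ?_
      rw [← tr_bof (g C), ← tr_bof (g D)]
      funext i
      have h1 := shift_cast (ho C).1 i
      have h2 := shift_cast (ho D).1 i
      have h3 : shift (bof (g C)).1 α i = shift (bof (g D)).1 α i :=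
        DFunLike.congr_fun (congrArg Subtype.val h) i
      show _ + _ = _ + _
      omega
    exact ((hg C).symm.trans (congrArg _ hg')).trans (hg D)
  haveI := Fintype.ofFinite (BComp I α)
  rw [(pieceEquiv hI α).finrank_eq, (compEquiv hI).finrank_eq, Module.finrank_fintype_fun_eq_card,
    ← Nat.card_eq_fintype_card]
  rfl

end Groth.Agent.HilbPt29
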