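import Groth.Agent.Lib.HilbPt29.Pow

/-!
# The tangent space at a power of `(x,y,z)`
-/

set_option autoImplicit false
set_option maxHeartbeats 400000
universe u

open MvPolynomial W4c1hilbpn
open scoped Classical

noncomputable section

namespace Groth.Agent.HilbPt29

/-- An integer vector with prescribed entries at `i, i+1, i+2`. -/
def mk3 (i : Fin 3) (x y z : ℤ) : Fin 3 → ℤ := fun j => if j = i then x else if j = i + 1 then y else z

theorem mk3_apply (i : Fin 3) (x y z : ℤ) :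
    mk3 i x y z i = x ∧ mk3 i x y z (i + 1) = y ∧ mk3 i x y z (i + 2) = z := by
  fin_cases i <;> simp [mk3]

theorem forall_fin3 (i : Fin 3) {P : Fin 3 → Prop} : (∀ j, P j) ↔ P i ∧ P (i + 1) ∧ P (i + 2) := by
  refine ⟨fun h => ⟨h _, h _, h _⟩, fun ⟨h0, h1, h2⟩ j => ?_⟩
  fin_cases i <;> fin_cases j <;> first | exact h0 | exact h1 | exact h2

theorem sum_fin3 {M : Type*} [AddCommMonoid M] (i : Fin 3) (f : Fin 3 → M) :
    ∑ j, f j = f i + f (i + 1) + f (i + 2) := by
  rw [Fin.sum_univ_three]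
  fin_cases i <;> simp <;> abel

/-- Degrees negative exactly at `i`. -/
def degOne (r : ℕ) (i : Fin 3) : Finset (Fin 3 → ℤ) :=
  ((Finset.Icc 1 r).sigma fun w => Finset.range w).image
    fun p => mk3 i (-(p.1 : ℤ)) (p.2 : ℤ) ((p.1 : ℤ) - 1 - p.2)

/-- Degrees negative exactly off `i`. -/
def degTwo (r : ℕ) (i : Fin 3) : Finset (Fin 3 → ℤ) :=
  ((Finset.Icc 1 r).sigma fun w => Finset.Icc 1 (w - 1)).image
    fun p => mk3 i ((p.1 : ℤ) - 1) (-(p.2 : ℤ)) (-((p.1 : ℤ) - p.2))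

theorem mem_degOne {r : ℕ} {i : Fin 3} {α : Fin 3 → ℤ} : α ∈ degOne r i ↔
    (∀ j, α j < 0 ↔ j = i) ∧ ∑ j, α j = -1 ∧ ∑ j, (-α j).toNat ≤ r := by
  constructor
  · intro h
    obtain ⟨⟨w, a⟩, hp, rfl⟩ := Finset.mem_image.1 h
    simp only [Finset.mem_sigma, Finset.mem_Icc, Finset.mem_range] at hp
    obtain ⟨h0, h1, h2⟩ := mk3_apply i (-(w : ℤ)) (a : ℤ) ((w : ℤ) - 1 - a)
    refine ⟨(forall_fin3 i).2 ⟨?_, ?_, ?_⟩, ?_, ?_⟩
    · simp only [h0, iff_true]; omega
    · rw [h1]; fin_cases i <;> simp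
    · rw [h2]; fin_cases i <;> simp <;> omega
    · rw [sum_fin3 i, h0, h1, h2]; ring
    · rw [sum_fin3 i, h0, h1, h2]; omega
  · rintro ⟨hs, hsum, hw⟩
    have h0 : α i < 0 := (hs i).2 rfl
    have h1 : 0 ≤ α (i + 1) := not_lt.1 fun h => by simpa using (hs _).1 h
    have h2 : 0 ≤ α (i + 2) := not_lt.1 fun h => by simpa using (hs _).1 h
    rw [sum_fin3 i] at hsum hw
    refine Finset.mem_image.2 ⟨⟨(-α i).toNat, (α (i + 1)).toNat⟩, ?_, ?_⟩
    · simp only [Finset.mem_sigma, Finset.mem_Icc, Finset.mem_range]; omega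
    · obtain ⟨e0, e1, e2⟩ := mk3_apply i (-((-α i).toNat : ℤ)) ((α (i + 1)).toNat : ℤ)
        (((-α i).toNat : ℤ) - 1 - (α (i + 1)).toNat)
      exact funext ((forall_fin3 i).2 ⟨by rw [e0]; omega, by rw [e1]; omega, by rw [e2]; omega⟩)

theorem mem_degTwo {r : ℕ} {i : Fin 3} {α : Fin 3 → ℤ} : α ∈ degTwo r i ↔
    (∀ j, α j < 0 ↔ j ≠ i) ∧ ∑ j, α j = -1 ∧ ∑ j, (-α j).toNat ≤ r := by
  constructor
  · intro h
    obtain ⟨⟨w, a⟩, hp, rfl⟩ := Finset.mem_image.1 h
    simp only [Finset.mem_sigma, Finset.mem_Icc] at hp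
    obtain ⟨h0, h1, h2⟩ := mk3_apply i ((w : ℤ) - 1) (-(a : ℤ)) (-((w : ℤ) - a))
    refine ⟨(forall_fin3 i).2 ⟨?_, ?_, ?_⟩, ?_, ?_⟩
    · simp only [h0, ne_eq, not_true_eq_false, iff_false, not_lt]; omega
    · rw [h1]; fin_cases i <;> simp <;> omega
    · rw [h2]; fin_cases i <;> simp <;> omega
    · rw [sum_fin3 i, h0, h1, h2]; ring
    · rw [sum_fin3 i, h0, h1, h2]; omega
  · rintro ⟨hs, hsum, hw⟩
    have h0 : 0 ≤ α i := not_lt.1 fun h => (hs i).1 h rfl
    have h1 : α (i + 1) < 0 := (hs _).2 (by simp)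
    have h2 : α (i + 2) < 0 := (hs _).2 (by simp)
    rw [sum_fin3 i] at hsum hw
    refine Finset.mem_image.2 ⟨⟨(α i).toNat + 1, (-α (i + 1)).toNat⟩, ?_, ?_⟩
    · simp only [Finset.mem_sigma, Finset.mem_Icc]; omega
    · obtain ⟨e0, e1, e2⟩ := mk3_apply i ((((α i).toNat + 1 : ℕ) : ℤ) - 1) (-((-α (i + 1)).toNat : ℤ))
        (-((((α i).toNat + 1 : ℕ) : ℤ) - (-α (i + 1)).toNat))
      exact funext ((forall_fin3 i).2 ⟨by rw [e0]; omega, by rw [e1]; omega, by rw [e2]; omega⟩)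

theorem sum_Icc_one {M : Type*} [AddCommMonoid M] (f : ℕ → M) (r : ℕ) :
    ∑ w ∈ Finset.Icc 1 r, f w = ∑ x ∈ Finset.range r, f (1 + x) := by
  rw [← Finset.Ico_add_one_right_eq_Icc, Finset.sum_Ico_eq_sum_range, Nat.add_sub_cancel]

theorem sum_choose_range (r : ℕ) : ∑ x ∈ Finset.range r, (r + 1 - x).choose 2 = (r + 2).choose 3 := by
  induction r with
  | zero => simp [Nat.choose]
  | succ r ih =>
    rw [Finset.sum_range_succ', Finset.sum_congr rfl fun x _ => (by rw [show r + 1 + 1 - (x + 1) = r + 1 - x by omega] :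
      (r + 1 + 1 - (x + 1)).choose 2 = (r + 1 - x).choose 2), ih, show r + 1 + 1 - 0 = r + 2 by omega,
      show r + 1 + 2 = (r + 2) + 1 by omega, Nat.choose_succ_succ' (r + 2) 2]
    simp only [Nat.reduceAdd, add_assoc] at *
    omega

theorem sum_weight_range (r : ℕ) : ∑ x ∈ Finset.range r, (x + 1) * (r + 1 - x).choose 2 = (r + 3).choose 4 := by
  induction r with
  | zero => simp [Nat.choose]
  | succ r ih =>
    rw [Finset.sum_range_succ', Finset.sum_congr rfl fun x _ => (by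
        rw [show r + 1 + 1 - (x + 1) = r + 1 - x by omega]; ring :
      (x + 1 + 1) * (r + 1 + 1 - (x + 1)).choose 2 = (x + 1) * (r + 1 - x).choose 2 + (r + 1 - x).choose 2),
      Finset.sum_add_distrib, ih, sum_choose_range, show r + 1 + 1 - 0 = r + 2 by omega,
      show r + 1 + 3 = (r + 3) + 1 by omega, Nat.choose_succ_succ' (r + 3) 3,
      show r + 3 = (r + 2) + 1 by omega, Nat.choose_succ_succ' (r + 2) 2]
    simp only [Nat.reduceAdd, add_assoc] at *
    omega

theorem sum_weight (r : ℕ) : ∑ w ∈ Finset.Icc 1 r, w * (r + 2 - w).choose 2 = (r + 3).choose 4 := by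
  rw [sum_Icc_one, ← sum_weight_range]
  exact Finset.sum_congr rfl fun x _ => by rw [show r + 2 - (1 + x) = r + 1 - x by omega, add_comm]

theorem sum_weight_sub (r : ℕ) : ∑ w ∈ Finset.Icc 1 r, (w - 1) * (r + 2 - w).choose 2 = (r + 2).choose 4 := by
  rcases r with _ | r
  · simp [Nat.choose]
  rw [sum_Icc_one, Finset.sum_range_succ', show r + 1 + 2 = r + 3 by omega, ← sum_weight_range]
  simp only [Nat.add_sub_cancel_left, Nat.sub_self, zero_mul, add_zero]
  exact Finset.sum_congr rfl fun x _ => by rw [show r + 3 - (1 + (x + 1)) = r + 1 - x by omega]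

theorem choose_identity (r : ℕ) : 3 * (r + 3).choose 4 + 3 * (r + 2).choose 4 =
    (r + 2).choose 2 * (r + 1).choose 2 := by
  induction r with
  | zero => simp [Nat.choose]
  | succ r ih =>
    have a1 := Nat.choose_succ_succ' (r + 3) 3
    have a2 := Nat.choose_succ_succ' (r + 2) 3
    have b1 := Nat.choose_succ_succ' (r + 2) 1
    have b2 := Nat.choose_succ_succ' (r + 1) 1
    have c1 := Nat.choose_succ_succ' (r + 2) 2
    rw [Nat.choose_one_right] at b1 b2
    have key : ∀ r : ℕ, 6 * (r + 2).choose 3 = (r + 2) * (r + 1) * r ∧ 2 * (r + 2).choose 2 = (r + 2) * (r + 1) ∧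
        2 * (r + 1).choose 2 = (r + 1) * r := by
      intro r
      induction r with
      | zero => simp [Nat.choose]
      | succ r ih =>
        have d1 := Nat.choose_succ_succ' (r + 2) 2
        have d2 := Nat.choose_succ_succ' (r + 2) 1
        rw [Nat.choose_one_right] at d2
        refine ⟨?_, ?_, ?_⟩ <;> nlinarith
    obtain ⟨k1, k2, k3⟩ := key r
    show 3 * (r + 3 + 1).choose 4 + 3 * (r + 2 + 1).choose 4 = (r + 2 + 1).choose 2 * (r + 1 + 1).choose 2
    nlinarith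

variable {k : Type u} [Field k]

/-- The dimension of a piece. -/
def pieceDim (r : ℕ) (α : Fin 3 → ℤ) : ℕ := (3 + r - (∑ i, (-α i).toNat) - 1).choose 2

theorem piece_facts (r : ℕ) (α : Fin 3 → ℤ) :
    Module.Finite k (tPiece (mPow k 3 r) α) ∧
      ((∑ i, α i = -1 ∧ ∑ i, (-α i).toNat ≤ r) → Module.finrank k (tPiece (mPow k 3 r) α) = pieceDim r α) ∧
      (tPiece (mPow k 3 r) α ≠ ⊥ → ∑ i, α i = -1 ∧ ∑ i, (-α i).toNat ≤ r) := by
  haveI : Finite (BComp (mPow k 3 r) α) := by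
    by_contra h
    haveI := not_finite_iff_infinite.1 h
    haveI := finite_outside (isMonomial_mPow (k := k) (n := 3) r)
    have hne : ∀ C : BComp (mPow k 3 r) α, ∃ γ, γ ∈ C.1.supp := fun C => C.1.nonempty_supp
    choose g hg using hne
    have ho : ∀ C, Out (mPow k 3 r) α (bof (g C)).1 := fun C => (out_iff ((tr_bof (g C)).symm ▸ (g C).2)).2 (by
      rw [tr_bof]; exact nonneg_of_finite C.1 C.2 (hg C))
    refine not_finite_iff_infinite.2 (Infinite.of_injective
      (fun C => (⟨shift (bof (g C)).1 α, (ho C).2⟩ : {β : Fin 3 →₀ ℕ // β ∉ exps (mPow k 3 r)}))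
      fun C D h => Subtype.ext ?_) inferInstance
    have hg' : g C = g D := by
      refine Subtype.ext ?_
      rw [← tr_bof (g C), ← tr_bof (g D)]
      funext i
      have h1 := shift_cast (ho C).1 i
      have h2 := shift_cast (ho D).1 i
      have h3 : shift (bof (g C)).1 α i = shift (bof (g D)).1 α i := DFunLike.congr_fun (congrArg Subtype.val h) i
      show _ + _ = _ + _
      omega
    exact ((hg C).symm.trans (congrArg _ hg')).trans (hg D)
  haveI : Module.Finite k (tPiece (mPow k 3 r) α) :=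
    Module.Finite.equiv ((pieceEquiv (isMonomial_mPow r) α).trans (compEquiv (isMonomial_mPow r))).symm
  have h := finrank_tPiece_mPow (k := k) (by norm_num : 2 ≤ 3) r α
  refine ⟨inferInstance, fun hh => ?_, fun hne => ?_⟩
  · rw [h, if_pos hh]; rfl
  · by_contra hh
    rw [if_neg hh] at h
    exact hne (Submodule.finrank_eq_zero.1 h)

theorem sum_degOne (r : ℕ) (i : Fin 3) : ∑ α ∈ degOne r i, pieceDim r α = (r + 3).choose 4 := by
  rw [degOne, Finset.sum_image, Finset.sum_sigma, ← sum_weight]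
  · refine Finset.sum_congr rfl fun w hw => ?_
    rw [Finset.sum_congr rfl fun a ha => ?_, Finset.sum_const, Finset.card_range, smul_eq_mul]
    simp only [Finset.mem_range] at ha
    simp only [Finset.mem_Icc] at hw
    obtain ⟨h0, h1, h2⟩ := mk3_apply i (-(w : ℤ)) (a : ℤ) ((w : ℤ) - 1 - a)
    simp only [pieceDim, sum_fin3 i, h0, h1, h2]
    congr 1; omega
  · rintro ⟨w, a⟩ - ⟨w', a'⟩ - h
    obtain ⟨h0, h1, -⟩ := mk3_apply i (-(w : ℤ)) (a : ℤ) ((w : ℤ) - 1 - a)
    obtain ⟨e0, e1, -⟩ := mk3_apply i (-(w' : ℤ)) (a' : ℤ) ((w' : ℤ) - 1 - a')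
    have x0 := congrFun h i
    have x1 := congrFun h (i + 1)
    simp only [h0, e0, h1, e1] at x0 x1
    obtain rfl : w = w' := by omega
    obtain rfl : a = a' := by omega
    rfl

theorem sum_degTwo (r : ℕ) (i : Fin 3) : ∑ α ∈ degTwo r i, pieceDim r α = (r + 2).choose 4 := by
  rw [degTwo, Finset.sum_image, Finset.sum_sigma, ← sum_weight_sub]
  · refine Finset.sum_congr rfl fun w hw => ?_
    rw [Finset.sum_congr rfl fun a ha => ?_, Finset.sum_const, Nat.card_Icc, Nat.add_sub_cancel, smul_eq_mul]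
    simp only [Finset.mem_Icc] at ha hw
    obtain ⟨h0, h1, h2⟩ := mk3_apply i ((w : ℤ) - 1) (-(a : ℤ)) (-((w : ℤ) - a))
    simp only [pieceDim, sum_fin3 i, h0, h1, h2]
    congr 1; omega
  · rintro ⟨w, a⟩ - ⟨w', a'⟩ - h
    obtain ⟨h0, h1, -⟩ := mk3_apply i ((w : ℤ) - 1) (-(a : ℤ)) (-((w : ℤ) - a))
    obtain ⟨e0, e1, -⟩ := mk3_apply i ((w' : ℤ) - 1) (-(a' : ℤ)) (-((w' : ℤ) - a'))
    have x0 := congrFun h i
    have x1 := congrFun h (i + 1)
    simp only [h0, e0, h1, e1] at x0 x1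
    obtain rfl : w = w' := by omega
    obtain rfl : a = a' := by omega
    rfl

/-- S13442. -/
theorem finrank_sigPiece_mPow (r : ℕ) (i : Fin 3) :
    Module.finrank k ↥(sigPiece (mPow k 3 r) {i}) = Nat.choose (r + 3) 4 ∧
      Module.finrank k ↥(sigPiece (mPow k 3 r) ({i}ᶜ : Set (Fin 3))) = Nat.choose (r + 2) 4 ∧
        Module.finrank k (Tgt (mPow k 3 r)) = Nat.choose (r + 2) 2 * Nat.choose (r + 1) 2 := by
  have hI : IsMonomial (mPow k 3 r) := isMonomial_mPow r
  have h1 : ∀ i : Fin 3, Module.finrank k ↥(sigPiece (mPow k 3 r) {i}) = (r + 3).choose 4 := fun i => by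
    rw [sigPiece, finrank_iSup_tPiece hI _ (degOne r i)
      (fun a ha => mem_degOne.2 ⟨fun j => by simpa using a.2 j, (piece_facts r a.1).2.2 ha⟩)
      (fun a ha => ⟨⟨a, fun j => by simpa using (mem_degOne.1 ha).1 j⟩, rfl⟩)
      (fun a _ => (piece_facts r a).1)]
    exact (Finset.sum_congr rfl fun a ha => (piece_facts r a).2.1 (mem_degOne.1 ha).2).trans (sum_degOne r i)
  have h2 : ∀ i : Fin 3, Module.finrank k ↥(sigPiece (mPow k 3 r) ({i}ᶜ : Set (Fin 3))) = (r + 2).choose 4 := fun i => by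
    rw [sigPiece, finrank_iSup_tPiece hI _ (degTwo r i)
      (fun a ha => mem_degTwo.2 ⟨fun j => by simpa using a.2 j, (piece_facts r a.1).2.2 ha⟩)
      (fun a ha => ⟨⟨a, fun j => by simpa using (mem_degTwo.1 ha).1 j⟩, rfl⟩)
      (fun a _ => (piece_facts r a).1)]
    exact (Finset.sum_congr rfl fun a ha => (piece_facts r a).2.1 (mem_degTwo.1 ha).2).trans (sum_degTwo r i)
  refine ⟨h1 i, h2 i, ?_⟩
  let A : Finset (Fin 3 → ℤ) := Finset.univ.biUnion (degOne r) ∪ Finset.univ.biUnion (degTwo r)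
  have hA : ∀ a : Fin 3 → ℤ, tPiece (mPow k 3 r) a ≠ ⊥ → a ∈ A := by
    intro a ha
    have hs := (piece_facts r a).2.2 ha
    have hv := (vanishing hI).1 a
    rw [Finset.mem_union, Finset.mem_biUnion, Finset.mem_biUnion]
    have hn : ¬ ∀ j, 0 ≤ a j := fun h => ha (hv (Or.inl h))
    have hp : ¬ ∀ j, a j < 0 := fun h => ha (hv (Or.inr h))
    simp only [Fin.forall_fin_succ, Fin.forall_fin_two] at hn hp
    simp only [mem_degOne, mem_degTwo, hs, and_true, Finset.mem_univ, true_and, Fin.exists_fin_succ,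
      Fin.forall_fin_succ, Fin.exists_fin_two, Fin.forall_fin_two] at *
    rcases lt_or_ge (a 0) 0 with g0 | g0 <;> rcases lt_or_ge (a 1) 0 with g1 | g1 <;>
      rcases lt_or_ge (a 2) 0 with g2 | g2 <;> simp_all [not_lt.2]
  have hfin : ∀ a ∈ A, Module.Finite k (tPiece (mPow k 3 r) a) := fun a _ => (piece_facts r a).1
  rw [← finrank_top k (Tgt (mPow k 3 r)), ← iSup_tPiece_eq_top hI,
    finrank_iSup_tPiece hI (fun a => a) A hA (fun a _ => ⟨a, rfl⟩) hfin]
  have hdim : ∀ a ∈ A, Module.finrank k (tPiece (mPow k 3 r) a) = pieceDim r a := by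
    intro a ha
    rcases Finset.mem_union.1 ha with h | h <;> obtain ⟨j, -, hj⟩ := Finset.mem_biUnion.1 h
    · exact (piece_facts r a).2.1 (mem_degOne.1 hj).2
    · exact (piece_facts r a).2.1 (mem_degTwo.1 hj).2
  rw [Finset.sum_congr rfl hdim, Finset.sum_union, Finset.sum_biUnion, Finset.sum_biUnion]
  · simp only [sum_degOne, sum_degTwo, Finset.sum_const, Finset.card_univ, Fintype.card_fin, smul_eq_mul]
    exact choose_identity r
  · intro x _ y _ hxy
    exact Finset.disjoint_left.2 fun a hx hy => hxy (by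
      by_contra hne
      exact ((mem_degTwo.1 hy).1 x).not.1 ((mem_degTwo.1 hx).1 x |>.not.2 (by simp)) hne)
  · intro x _ y _ hxy
    exact Finset.disjoint_left.2 fun a hx hy => hxy (((mem_degOne.1 hy).1 x).1 (((mem_degOne.1 hx).1 x).2 rfl))
  · refine Finset.disjoint_left.2 fun a hx hy => ?_
    obtain ⟨x, -, hx⟩ := Finset.mem_biUnion.1 hx
    obtain ⟨y, -, hy⟩ := Finset.mem_biUnion.1 hy
    have e := fun j => ((mem_degOne.1 hx).1 j).symm.trans ((mem_degTwo.1 hy).1 j)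
    revert e; fin_cases x <;> fin_cases y <;> simp [Fin.forall_fin_succ]

end Groth.Agent.HilbPt29
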