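import Groth.Agent.Lib.HilbPt29.Pow
import Mathlib.LinearAlgebra.Dimension.Constructions

/-!
# Slices of strongly stable ideals of bounded colength
-/

set_option autoImplicit false
set_option maxHeartbeats 400000
universe u

open MvPolynomial W4c1hilbpn
open scoped Classical

noncomputable section

namespace Groth.Agent.HilbPt29

/-- The colength of a monomial ideal is the number of monomials outside. -/
theorem finrank_quot {σ : Type} [Finite σ] {k : Type u} [Field k] {I : Ideal (MvPolynomial σ k)} (hI : IsMonomial I) :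
    Module.finrank k (MvPolynomial σ k ⧸ I) = Nat.card {β : σ →₀ ℕ // β ∉ exps I} := by
  refine Module.finrank_eq_nat_card_basis (Module.Basis.mk (linearIndependent_outside hI) ?_)
  intro z _
  obtain ⟨p, rfl⟩ := Ideal.Quotient.mk_surjective z
  rw [p.as_sum, map_sum]
  refine Submodule.sum_mem _ fun β _ => ?_
  by_cases hβ : β ∈ exps I
  · rw [Ideal.Quotient.eq_zero_iff_mem.2 (monomial_mem hβ _)]; exact zero_mem _
  · rw [← mk_smul_monomial]
    exact Submodule.smul_mem _ _ (Submodule.subset_span ⟨⟨β, hβ⟩, rfl⟩)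

/-- The triangular numbers as a count. -/
theorem card_simplex_le (H : ℕ) : ((Finset.range H).biUnion fun s => Finset.antidiagonal s).card ≤ (H + 1).choose 2 := by
  refine Finset.card_biUnion_le.trans (le_of_eq ?_)
  simp only [Finset.Nat.card_antidiagonal]
  induction H with
  | zero => simp
  | succ H ih =>
    rw [Finset.sum_range_succ, ih, Nat.choose_succ_succ' (H + 1) 1, Nat.choose_one_right]
    ring

theorem tri_succ (H : ℕ) : (H + 2).choose 2 = (H + 1).choose 2 + (H + 1) := by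
  rw [Nat.choose_succ_succ' (H + 1) 1, Nat.choose_one_right]; ring

theorem tri_mono {a b : ℕ} (h : a ≤ b) : (a + 1).choose 2 ≤ (b + 1).choose 2 :=
  Nat.choose_le_choose 2 (by omega)

theorem sum_tri (r : ℕ) : ∑ i ∈ Finset.range r, (r - i + 1).choose 2 = (r + 2).choose 3 := by
  induction r with
  | zero => simp [Nat.choose]
  | succ r ih =>
    rw [Finset.sum_range_succ', Finset.sum_congr rfl fun x _ => (by rw [show r + 1 - (x + 1) = r - x by omega] :
      (r + 1 - (x + 1) + 1).choose 2 = (r - x + 1).choose 2), ih, Nat.sub_zero,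
      show r + 1 + 2 = (r + 2) + 1 by omega, Nat.choose_succ_succ' (r + 2) 2]
    simp only [Nat.reduceAdd, add_assoc] at *
    omega

/-- Tail domination for sequences with slice growth. -/
theorem tail_le (r : ℕ) (N H : ℕ → ℕ) (h1 : ∀ i, N (i + 1) + H i ≤ N i)
    (h2 : ∀ i, N i ≤ (H i + 1).choose 2) (h3 : ∑ i ∈ Finset.range r, N i ≤ (r + 2).choose 3) :
    ∀ j, j ≤ r → ∑ i ∈ Finset.Ico j r, N i ≤ ∑ i ∈ Finset.Ico j r, (r - i + 1).choose 2 := by
  have step : ∀ i, i + 1 ≤ r → (r - (i + 1) + 1).choose 2 < N (i + 1) → (r - i + 1).choose 2 < N i := by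
    intro i hi hN
    have hH : r - i ≤ H i := by
      by_contra hlt
      have := tri_mono (show H i ≤ r - (i + 1) by omega)
      have := h1 i
      have := h2 i
      omega
    have e := tri_succ (r - (i + 1))
    rw [show r - (i + 1) + 2 = r - i + 1 by omega] at e
    have := h1 i
    omega
  intro j hj
  by_contra hlt
  rw [not_le] at hlt
  obtain ⟨i, hi, hNi⟩ := Finset.exists_lt_of_sum_lt hlt
  rw [Finset.mem_Ico] at hi
  have hall : ∀ t, t ≤ i → (r - (i - t) + 1).choose 2 < N (i - t) := by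
    intro t
    induction t with
    | zero => intro _; simpa using hNi
    | succ t iht =>
      intro ht
      have e : i - (t + 1) + 1 = i - t := by omega
      exact step (i - (t + 1)) (by omega) (by rw [e]; exact iht (by omega))
  have hle : ∑ l ∈ Finset.range j, (r - l + 1).choose 2 ≤ ∑ l ∈ Finset.range j, N l :=
    Finset.sum_le_sum fun l hl => by
      have := hall (i - l) (Nat.sub_le _ _)
      rw [show i - (i - l) = l by simp at hl; omega] at this
      omega
  have s1 := Finset.sum_range_add_sum_Ico N hj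
  have s2 := Finset.sum_range_add_sum_Ico (fun l => (r - l + 1).choose 2) hj
  rw [sum_tri] at s2
  omega

variable {k : Type u} [Field k] {I : Ideal (MvPolynomial (Fin 3) k)}

theorem up_mem_iff (γ : Fin 3 →₀ ℕ) : e3 (γ 0) (γ 1) (γ 2) = γ :=
  Finsupp.ext fun i => by fin_cases i <;> rfl

theorem exps_le_of (hI : IsStronglyStable I) (i s : ℕ) (h : e3 i 0 s ∈ exps I) :
    ∀ b, b ≤ s → e3 i b (s - b) ∈ exps I := by
  intro b
  induction b with
  | zero => intro _; simpa using h
  | succ b ih =>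
    intro hb
    have := hI.2 _ (ih (by omega)) 1 2 (by decide) (by simp [e3]; omega)
    rwa [(e3_sub' i b (s - b)), (e3_add' i b (s - b - 1)), show s - b - 1 = s - (b + 1) by omega] at this
where
  e3_sub' (a b c : ℕ) : e3 a b c - Finsupp.single 2 1 = e3 a b (c - 1) := Finsupp.ext fun i => by
    rw [Finsupp.tsub_apply]; fin_cases i <;> simp [e3, Finsupp.single_apply]
  e3_add' (a b c : ℕ) : e3 a b c + Finsupp.single 1 1 = e3 a (b + 1) c := Finsupp.ext fun i => by
    rw [Finsupp.add_apply]; fin_cases i <;> simp [e3, Finsupp.single_apply]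

theorem slice_stats (hI : IsStronglyStable I) [Module.Finite k (MvPolynomial (Fin 3) k ⧸ I)] :
    ∃ (N H : ℕ → ℕ), (∀ i, N (i + 1) + H i ≤ N i) ∧ (∀ i, N i ≤ (H i + 1).choose 2) ∧
      (∀ r, ∑ i ∈ Finset.range r, N i ≤ Module.finrank k (MvPolynomial (Fin 3) k ⧸ I)) ∧
      (∀ i, Module.finrank k (MvPolynomial (Fin 2) k ⧸ sliceX I i) = N i) ∧
      (∀ γ : Fin 3 →₀ ℕ, γ ∉ exps I → γ 1 + γ 2 < H (γ 0) ∧ 0 < N (γ 0)) := by
  haveI := finite_outside hI.1
  haveI := Fintype.ofFinite {β : Fin 3 →₀ ℕ // β ∉ exps I}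
  let O : Finset (Fin 3 →₀ ℕ) := (Finset.univ : Finset {β : Fin 3 →₀ ℕ // β ∉ exps I}).map (Function.Embedding.subtype _)
  have hO : ∀ γ, γ ∈ O ↔ γ ∉ exps I := fun γ => by simp [O]
  let N : ℕ → ℕ := fun i => (O.filter fun γ => γ 0 = i).card
  let H : ℕ → ℕ := fun i => (O.filter fun γ => γ 0 = i ∧ γ 1 = 0).card
  have hH : ∀ γ, γ ∉ exps I → γ 1 + γ 2 < H (γ 0) := by
    intro γ hγ
    have hmax : e3 (γ 0) 0 (γ 1 + γ 2) ∉ exps I := fun h => hγ (by
      have := exps_le_of hI _ _ h (γ 1) (Nat.le_add_right _ _)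
      rwa [Nat.add_sub_cancel_left, up_mem_iff] at this)
    have hsub : (Finset.range (γ 1 + γ 2 + 1)).map ⟨fun s => e3 (γ 0) 0 s, e3_injective_z _ _⟩ ⊆
        O.filter fun δ => δ 0 = γ 0 ∧ δ 1 = 0 := by
      intro δ hδ
      simp only [Finset.mem_map, Finset.mem_range, Function.Embedding.coeFn_mk] at hδ
      obtain ⟨s, hs, rfl⟩ := hδ
      refine Finset.mem_filter.2 ⟨(hO _).2 fun h => hmax (mem_exps_of_le h fun l => ?_), (e3_apply _ _ _).1, (e3_apply _ _ _).2.1⟩
      fin_cases l <;> simp [e3] <;> omega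
    have := Finset.card_le_card hsub
    rw [Finset.card_map, Finset.card_range] at this
    show _ < (O.filter fun δ => δ 0 = γ 0 ∧ δ 1 = 0).card
    omega
  refine ⟨N, H, fun i => ?_, fun i => ?_, fun r => ?_, fun i => ?_, fun γ hγ => ⟨hH γ hγ, ?_⟩⟩
  · let f : (Fin 3 →₀ ℕ) → (Fin 3 →₀ ℕ) := fun γ => γ - Finsupp.single 0 1 + Finsupp.single 1 1
    have hsub : (O.filter fun γ => γ 0 = i + 1).image f ⊆
        (O.filter fun γ => γ 0 = i) \ (O.filter fun γ => γ 0 = i ∧ γ 1 = 0) := by
      intro δ hδ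
      obtain ⟨γ, hγ, rfl⟩ := Finset.mem_image.1 hδ
      obtain ⟨h1, h2⟩ := Finset.mem_filter.1 hγ
      have e0 : f γ 0 = i := by simp [f, h2]
      have e1 : f γ 1 = γ 1 + 1 := by simp [f]
      rw [Finset.mem_sdiff, Finset.mem_filter, Finset.mem_filter, hO]
      refine ⟨⟨fun h => (hO γ).1 h1 ?_, e0⟩, fun h => by omega⟩
      have := hI.2 _ h 0 1 (by decide) (by omega)
      convert this using 1
      refine Finsupp.ext fun l => ?_
      simp only [f, Finsupp.add_apply, Finsupp.tsub_apply]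
      fin_cases l <;> simp [Finsupp.single_apply] <;> omega
    have hinj : Set.InjOn f (O.filter fun γ => γ 0 = i + 1) := by
      intro a ha b hb hab
      simp only [Finset.coe_filter, Set.mem_setOf_eq] at ha hb
      refine Finsupp.ext fun l => ?_
      have := DFunLike.congr_fun hab l
      simp only [f, Finsupp.add_apply, Finsupp.tsub_apply] at this
      fin_cases l <;> simp [Finsupp.single_apply, ha.2, hb.2] at this ⊢ <;> omega
    have h1 := Finset.card_le_card hsub
    rw [Finset.card_image_of_injOn hinj, Finset.card_sdiff_of_subset (fun x hx => by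
      simp only [Finset.mem_filter] at hx ⊢; exact ⟨hx.1, hx.2.1⟩)] at h1
    have h2 : H i ≤ N i := Finset.card_le_card fun x hx => by
      simp only [Finset.mem_filter] at hx ⊢; exact ⟨hx.1, hx.2.1⟩
    show (O.filter fun γ => γ 0 = i + 1).card + H i ≤ N i
    simp only [N, H] at h1 h2 ⊢
    omega
  · refine le_trans ?_ (card_simplex_le (H i))
    refine Finset.card_le_card_of_injOn (fun γ => (γ 1, γ 2)) (fun γ hγ => ?_) (fun a ha b hb hab => ?_)
    · obtain ⟨h1, h2⟩ := Finset.mem_filter.1 hγ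
      have := hH γ ((hO γ).1 h1)
      rw [h2] at this
      exact Finset.mem_biUnion.2 ⟨γ 1 + γ 2, Finset.mem_range.2 this, Finset.mem_antidiagonal.2 rfl⟩
    · simp only [Finset.coe_filter, Set.mem_setOf_eq] at ha hb
      obtain ⟨e1, e2⟩ := Prod.ext_iff.1 hab
      rw [← up_mem_iff a, ← up_mem_iff b]
      simp only at e1 e2
      rw [ha.2, hb.2, e1, e2]
  · rw [finrank_quot hI.1, Nat.card_eq_fintype_card, ← Finset.card_univ,
      ← Finset.card_map (Function.Embedding.subtype fun β => β ∉ exps I)]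
    show ∑ i ∈ Finset.range r, (O.filter fun γ => γ 0 = i).card ≤ O.card
    rw [← Finset.card_biUnion fun x _ y _ hxy => Finset.disjoint_filter.2 fun γ _ hx hy => hxy (hx.symm.trans hy)]
    exact Finset.card_le_card fun γ hγ => by
      simp only [Finset.mem_biUnion, Finset.mem_filter] at hγ; obtain ⟨_, _, h, _⟩ := hγ; exact h
  · rw [finrank_quot (isMonomial_sliceX hI.1 i)]
    refine (Nat.card_congr ?_).trans (Nat.card_eq_finsetCard (O.filter fun γ => γ 0 = i))
    refine Equiv.ofBijective (fun β => ⟨up i β.1, Finset.mem_filter.2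
      ⟨(hO _).2 fun h => β.2 ((mem_exps_sliceX i β.1).2 h), up_zero i β.1⟩⟩) ⟨fun a b h => ?_, fun γ => ?_⟩
    · refine Subtype.ext (Finsupp.ext fun l => ?_)
      rw [← up_succ i a.1 l, ← up_succ i b.1 l]
      exact DFunLike.congr_fun (Subtype.ext_iff.1 h) l.succ
    · obtain ⟨h1, h2⟩ := Finset.mem_filter.1 γ.2
      let β : Fin 2 →₀ ℕ := Finsupp.equivFunOnFinite.symm fun l => γ.1 l.succ
      have e : up i β = γ.1 := Finsupp.ext fun l => Fin.cases (by rw [up_zero, h2]) (fun l => by rw [up_succ]; rfl) l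
      exact ⟨⟨β, fun h => (hO _).1 h1 (e ▸ (mem_exps_sliceX i β).1 h)⟩, Subtype.ext e⟩
  · exact Finset.card_pos.2 ⟨γ, Finset.mem_filter.2 ⟨(hO γ).2 hγ, rfl⟩⟩

/-- S13454. -/
theorem slices_le (r : ℕ) (hI : IsStronglyStable I) [Module.Finite k (MvPolynomial (Fin 3) k ⧸ I)]
    (hd : Module.finrank k (MvPolynomial (Fin 3) k ⧸ I) ≤ Nat.choose (r + 2) 3) :
    (∀ j, j ≤ r → ∑ i ∈ Finset.Ico j r, Module.finrank k (MvPolynomial (Fin 2) k ⧸ sliceX I i) ≤
        ∑ i ∈ Finset.Ico j r, Nat.choose (r - i + 1) 2) ∧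
    ((∀ j, j < r → ∑ i ∈ Finset.Ico j r, Module.finrank k (MvPolynomial (Fin 2) k ⧸ sliceX I i) =
        ∑ i ∈ Finset.Ico j r, Nat.choose (r - i + 1) 2) → I = mPow k 3 r) := by
  obtain ⟨N, H, h1, h2, h3, h4, h5⟩ := slice_stats hI
  simp only [h4]
  have htail := tail_le r N H h1 h2 ((h3 r).trans hd)
  refine ⟨htail, fun heq => ?_⟩
  have hN : ∀ i, i < r → N i = (r - i + 1).choose 2 := by
    intro i hi
    have e1 := heq i hi
    rw [Finset.sum_eq_sum_Ico_succ_bot hi, Finset.sum_eq_sum_Ico_succ_bot hi] at e1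
    rcases (Nat.succ_le_of_lt hi).lt_or_eq with h | h
    · have := heq (i + 1) h
      omega
    · rw [show i + 1 = r from h] at e1
      simpa using e1
  have htot : ∑ i ∈ Finset.range r, N i = (r + 2).choose 3 := by
    rw [← sum_tri]; exact Finset.sum_congr rfl fun i hi => hN i (Finset.mem_range.1 hi)
  have hz : ∀ i, r ≤ i → N i = 0 := by
    intro i hi
    have := h3 (i + 1)
    rw [← Finset.sum_range_add_sum_Ico N (show r ≤ i + 1 by omega), htot] at this
    have hs : N i ≤ ∑ l ∈ Finset.Ico r (i + 1), N l :=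
      Finset.single_le_sum (fun l _ => Nat.zero_le (N l)) (Finset.mem_Ico.2 ⟨hi, Nat.lt_succ_self i⟩)
    omega
  have hH : ∀ i, i < r → H i ≤ r - i := by
    intro i hi
    have := h1 i
    have := hN i hi
    have hnext : (r - (i + 1) + 1).choose 2 ≤ N (i + 1) := by
      rcases lt_or_ge (i + 1) r with h | h
      · exact (hN _ h).ge
      · rw [show r - (i + 1) = 0 by omega]; simp [Nat.choose]
    have e := tri_succ (r - (i + 1))
    rw [show r - (i + 1) + 2 = r - i + 1 by omega] at e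
    omega
  have hsub : ∀ γ : Fin 3 →₀ ℕ, γ ∉ exps I → γ.degree < r := by
    intro γ hγ
    obtain ⟨hs, hp⟩ := h5 γ hγ
    have h0 : γ 0 < r := not_le.1 fun h => by rw [hz _ h] at hp; exact lt_irrefl 0 hp
    have := hH _ h0
    rw [Finsupp.degree_eq_sum, Fin.sum_univ_three]
    omega
  haveI := finite_outside hI.1
  haveI := finite_outside (isMonomial_mPow (k := k) (n := 3) r)
  have hcard : Nat.card {β : Fin 3 →₀ ℕ // β ∉ exps I} = (r + 2).choose 3 := by
    rw [← finrank_quot hI.1]; exact le_antisymm hd (htot ▸ h3 r)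
  let f : {β : Fin 3 →₀ ℕ // β ∉ exps I} → {β : Fin 3 →₀ ℕ // β ∉ exps (mPow k 3 r)} :=
    fun β => ⟨β.1, fun h => not_lt.2 ((mem_exps_mPow β.1).1 h) (hsub β.1 β.2)⟩
  have hf : Function.Surjective f := by
    have hle : Nat.card {β : Fin 3 →₀ ℕ // β ∉ exps (mPow k 3 r)} ≤ (r + 2).choose 3 := by
      rw [← sum_tri r, ← finrank_quot (isMonomial_mPow r)]
      have hA : ∀ β : Fin 3 →₀ ℕ, β ∉ exps (mPow k 3 r) → β 0 < r ∧ β 1 + β 2 < r - β 0 := fun β h => by
        rw [mem_exps_mPow, Finsupp.degree_eq_sum, Fin.sum_univ_three] at h; omega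
      let T : Finset ((_ : ℕ) × ℕ × ℕ) := (Finset.range r).sigma fun i =>
        (Finset.range (r - i)).biUnion fun s => Finset.antidiagonal s
      rw [finrank_quot (isMonomial_mPow r)]
      refine le_trans ?_ (le_trans (Finset.card_sigma _ _).le (Finset.sum_le_sum fun i _ => card_simplex_le (r - i)))
      rw [← Nat.card_eq_finsetCard]
      refine Nat.card_le_card_of_injective (fun β => (⟨⟨β.1 0, β.1 1, β.1 2⟩, Finset.mem_sigma.2
        ⟨Finset.mem_range.2 (hA _ β.2).1, Finset.mem_biUnion.2 ⟨β.1 1 + β.1 2,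
          Finset.mem_range.2 (hA _ β.2).2, Finset.mem_antidiagonal.2 rfl⟩⟩⟩ : T)) fun a b h => ?_
      simp only [Subtype.mk.injEq, Sigma.mk.inj_iff, heq_eq_eq, Prod.mk.injEq] at h
      refine Subtype.ext ?_
      rw [← up_mem_iff a.1, ← up_mem_iff b.1, h.1, h.2.1, h.2.2]
    refine (Function.Injective.bijective_of_nat_card_le (f := f) (fun a b h => Subtype.ext (Subtype.mk.inj h :)) ?_).2
    rw [hcard]; exact hle
  refine Submodule.ext fun p => ?_
  rw [mem_iff hI.1, mem_iff (isMonomial_mPow r)]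
  refine forall₂_congr fun β _ => ?_
  constructor
  · intro h
    by_contra hn
    obtain ⟨γ, hγ⟩ := hf ⟨β, hn⟩
    exact γ.2 (by rw [show γ.1 = β from Subtype.ext_iff.1 hγ]; exact h)
  · intro h
    by_contra hn
    exact not_lt.2 ((mem_exps_mPow β).1 h) (hsub β hn)

end Groth.Agent.HilbPt29
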