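import Groth.Agent.Lib.HilbPt29.Stairs
import Groth.Agent.Lib.HilbPt29.Pow3
import Groth.Agent.Lib.HilbPt29.Slices
import Mathlib.Algebra.BigOperators.Finprod

/-!
# Duality for the tangent space at a monomial ideal in three variables
-/

set_option autoImplicit false
set_option maxHeartbeats 400000
universe u

open MvPolynomial W4c1hilbpn
open scoped Classical

noncomputable section

namespace Groth.Agent.HilbPt29.Duality

variable {k : Type u} [Field k] {I : Ideal (MvPolynomial (Fin 3) k)}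

/-- The exponent with entry `m` at `i` and `p` at the two others. -/
def pt (i : Fin 3) (p : ℕ × ℕ) (m : ℕ) : Fin 3 →₀ ℕ :=
  Finsupp.equivFunOnFinite.symm fun j => if j = i then m else if j = i + 1 then p.1 else p.2

theorem pt_apply (i : Fin 3) (p : ℕ × ℕ) (m : ℕ) :
    pt i p m i = m ∧ pt i p m (i + 1) = p.1 ∧ pt i p m (i + 2) = p.2 := by
  fin_cases i <;> simp [pt]

theorem eq_pt (i : Fin 3) (β : Fin 3 →₀ ℕ) : β = pt i (β (i + 1), β (i + 2)) (β i) := by
  have h := pt_apply i (β (i + 1), β (i + 2)) (β i)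
  refine Finsupp.ext ((forall_fin3 i).2 ⟨h.1.symm, h.2.1.symm, h.2.2.symm⟩)

theorem pt_le (i : Fin 3) {p q : ℕ × ℕ} {m n : ℕ} (h1 : p.1 ≤ q.1) (h2 : p.2 ≤ q.2) (h3 : m ≤ n) :
    pt i p m ≤ pt i q n := by
  have a := pt_apply i p m
  have b := pt_apply i q n
  exact (forall_fin3 i (P := fun j => pt i p m j ≤ pt i q n j)).2 ⟨by omega, by omega, by omega⟩

theorem pt_add_i (i : Fin 3) (p : ℕ × ℕ) (m : ℕ) : pt i p m + Finsupp.single i 1 = pt i p (m + 1) := by
  refine Finsupp.ext fun j => ?_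
  fin_cases i <;> fin_cases j <;> simp [pt]

variable (I) in
/-- The staircase in direction `i`. -/
def b (i : Fin 3) (p : ℕ × ℕ) : ℕ := sInf {m | pt i p m ∈ exps I}

variable (hI : IsMonomial I) [Module.Finite k (MvPolynomial (Fin 3) k ⧸ I)] {i : Fin 3}

include hI

theorem pt_b_mem (i : Fin 3) (p : ℕ × ℕ) : pt i p (b I i p) ∈ exps I := by
  obtain ⟨n, hn⟩ := exists_single_mem hI i
  refine Nat.sInf_mem (s := {m | pt i p m ∈ exps I}) ⟨n, mem_exps_of_le hn ?_⟩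
  rw [Finsupp.single_le_iff, (pt_apply i p n).1]

theorem mem_iff_b {p : ℕ × ℕ} {m : ℕ} : pt i p m ∈ exps I ↔ b I i p ≤ m :=
  ⟨fun h => Nat.sInf_le h, fun h => mem_exps_of_le (pt_b_mem hI i p) (pt_le i le_rfl le_rfl h)⟩

theorem exists_bd : ∃ N, ∀ i, Stairs.Bd (b I i) N := by
  choose n hn using exists_single_mem hI
  refine ⟨n 0 + n 1 + n 2, fun i => ⟨fun p q h1 h2 => ?_, fun p hp => ?_, fun p => ?_⟩⟩
  · exact (mem_iff_b hI).1 (mem_exps_of_le (pt_b_mem hI i p) (pt_le i h1 h2 le_rfl))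
  · have hmem : ∀ j, n j ≤ pt i p 0 j → False := fun j hj => by
      have := (mem_iff_b hI (i := i)).1 (mem_exps_of_le (hn j) (Finsupp.single_le_iff.2 hj))
      omega
    have a := pt_apply i p 0
    have h1 := fun hj => hmem (i + 1) hj
    have h2 := fun hj => hmem (i + 2) hj
    rw [a.2.1] at h1
    rw [a.2.2] at h2
    constructor
    · by_contra hh
      exact h1 (by fin_cases i <;> simp at * <;> omega)
    · by_contra hh
      exact h2 (by fin_cases i <;> simp at * <;> omega)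
  · have h1 := (mem_iff_b hI (i := i)).1 (mem_exps_of_le (hn i) (Finsupp.single_le_iff.2 (pt_apply i p (n i)).1.ge))
    fin_cases i <;> simp at * <;> omega

theorem out_pt {α : Fin 3 → ℤ} {p : ℕ × ℕ} {m : ℕ} :
    Out I α (pt i p m) ↔ 0 ≤ (p.1 : ℤ) + α (i + 1) ∧ 0 ≤ (p.2 : ℤ) + α (i + 2) ∧ 0 ≤ (m : ℤ) + α i ∧
      (m : ℤ) + α i < b I i (Stairs.r (α (i + 1)) (α (i + 2)) p) := by
  obtain ⟨a0, a1, a2⟩ := pt_apply i p m
  have hs : shift (pt i p m) α = pt i (Stairs.r (α (i + 1)) (α (i + 2)) p) ((m : ℤ) + α i).toNat := by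
    obtain ⟨b0, b1, b2⟩ := pt_apply i (Stairs.r (α (i + 1)) (α (i + 2)) p) ((m : ℤ) + α i).toNat
    refine Finsupp.ext ((forall_fin3 i).2 ⟨?_, ?_, ?_⟩)
    · rw [b0, shift_apply, a0]
    · rw [b1, shift_apply, a1]; rfl
    · rw [b2, shift_apply, a2]; rfl
  rw [Out, hs, mem_iff_b hI, forall_fin3 i, a0, a1, a2]
  omega

theorem out_self {α : Fin 3 → ℤ} {p : ℕ × ℕ} :
    Out I α (pt i p (b I i p)) ↔ Stairs.Slot (b I i) (α (i + 1)) (α (i + 2)) (α i) p p := out_pt hI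

theorem cf_climb {α : Fin 3 → ℤ} {c : exps I → k} (hc : c ∈ Cf I α) (p : ℕ × ℕ) :
    ∀ (t : ℕ) (h : pt i p (b I i p + t) ∈ exps I), Out I α (pt i p (b I i p + t)) →
      c ⟨_, h⟩ = c ⟨_, pt_b_mem hI i p⟩ := by
  intro t
  induction t with
  | zero => intro h _; rfl
  | succ t ih =>
    intro h ho
    have e : pt i p (b I i p + t) + Finsupp.single i 1 = pt i p (b I i p + (t + 1)) := by rw [pt_add_i]; rfl
    have h' : pt i p (b I i p + t) ∈ exps I := (mem_iff_b hI).2 (Nat.le_add_right _ _)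
    have h2 := hc.2 ⟨_, h'⟩ i (by rw [e]; exact ho)
    simp only [e] at h2
    rw [h2]
    by_cases ho' : Out I α (pt i p (b I i p + t))
    · exact ih h' ho'
    · rw [hc.1 _ ho', hc.1 _ fun hh => ho' ?_]
      rw [out_pt hI] at ho hh ⊢
      push_cast at ho ⊢
      omega

/-- A graded piece read on the staircase. -/
theorem finrank_tPiece (i : Fin 3) (α : Fin 3 → ℤ) :
    Module.Finite k (tPiece I α) ∧
      Module.finrank k (tPiece I α) = Module.finrank k (Stairs.K k (b I i) (α (i + 1)) (α (i + 2)) (α i)) := by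
  obtain ⟨N, hN⟩ := exists_bd hI
  have B := hN i
  set x := α (i + 1) with hx
  set y := α (i + 2) with hy
  let K := Stairs.K k (b I i) x y (α i)
  have hedge : ∀ {p q : ℕ × ℕ} {j : Fin 3}, q.1 ≥ p.1 → q.2 ≥ p.2 → pt i p (b I i p) + Finsupp.single j 1 = pt i q (b I i p) →
      Stairs.Slot (b I i) x y (α i) p q → ∀ c ∈ Cf I α, c ⟨_, pt_b_mem hI i p⟩ = c ⟨_, pt_b_mem hI i q⟩ := by
    intro p q j h1 h2 e hs c hc
    have hle := B.anti p q h1 h2
    have ho : Out I α (pt i q (b I i p)) := (out_pt hI).2 hs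
    have h3 := hc.2 ⟨_, pt_b_mem hI i p⟩ j (by rw [e]; exact ho)
    simp only [e] at h3
    rw [← h3]
    obtain ⟨t, ht⟩ := Nat.le.dest hle
    have := cf_climb hI hc q t ((mem_iff_b hI).2 (Nat.le_add_right _ _)) (by rw [ht]; exact ho)
    simpa only [ht] using this
  have he1 : ∀ (p : ℕ × ℕ) (m : ℕ), pt i p m + Finsupp.single (i + 1) 1 = pt i (p.1 + 1, p.2) m := fun p m =>
    Finsupp.ext fun j => by fin_cases i <;> fin_cases j <;> simp [pt]
  have he2 : ∀ (p : ℕ × ℕ) (m : ℕ), pt i p m + Finsupp.single (i + 2) 1 = pt i (p.1, p.2 + 1) m := fun p m =>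
    Finsupp.ext fun j => by fin_cases i <;> fin_cases j <;> simp [pt]
  let fwd : Cf I α →ₗ[k] (ℕ × ℕ → k) :=
    { toFun := fun c p => c.1 ⟨_, pt_b_mem hI i p⟩
      map_add' := fun _ _ => rfl
      map_smul' := fun _ _ => rfl }
  have hmem : ∀ c, fwd c ∈ K := fun c =>
    ⟨fun p hp => c.2.1 _ fun h => hp ((out_self hI).1 h),
      fun p hp => hedge (p := p) (q := (p.1 + 1, p.2)) (Nat.le_succ _) le_rfl (he1 p _) hp c.1 c.2,
      fun p hp => hedge (p := p) (q := (p.1, p.2 + 1)) le_rfl (Nat.le_succ _) (he2 p _) hp c.1 c.2⟩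
  have hbij : Function.Bijective (fwd.codRestrict K hmem) := by
    constructor
    · rw [injective_iff_map_eq_zero]
      intro c hc
      refine Subtype.ext (funext fun β => ?_)
      show c.1 β = 0
      by_cases ho : Out I α β.1
      · obtain ⟨β, hβ⟩ := β
        obtain ⟨p, m, rfl⟩ : ∃ p m, β = pt i p m := ⟨_, _, eq_pt i β⟩
        obtain ⟨t, rfl⟩ := Nat.le.dest ((mem_iff_b hI).1 hβ)
        rw [cf_climb hI c.2 p t hβ ho]
        exact congrFun (congrArg Subtype.val hc) p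
      · exact c.2.1 _ ho
    · intro φ
      let c : exps I → k := fun β => if Out I α β.1 then φ.1 (β.1 (i + 1), β.1 (i + 2)) else 0
      have hc : c ∈ Cf I α := by
        refine ⟨fun β h => if_neg h, fun β j ho => ?_⟩
        obtain ⟨β, hβ⟩ := β
        show (if _ then _ else _) = (if _ then _ else _)
        rw [if_pos ho]
        obtain ⟨p, m, rfl⟩ : ∃ p m, β = pt i p m := ⟨_, _, eq_pt i β⟩
        have hm := (mem_iff_b hI).1 hβ
        obtain ⟨a0, a1, a2⟩ := pt_apply i p m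
        simp only [a1, a2, Finsupp.add_apply]
        have key : ∀ (q : ℕ × ℕ), q.1 ≥ p.1 → q.2 ≥ p.2 → Out I α (pt i q m) →
            (Stairs.Slot (b I i) x y (α i) p q → φ.1 p = φ.1 q) →
            φ.1 q = if Out I α (pt i p m) then φ.1 p else 0 := by
          intro q h1 h2 hoq hedge
          have hle := B.anti p q h1 h2
          rw [out_pt hI, ← hx, ← hy] at hoq
          by_cases hneg : (b I i p : ℤ) + α i < 0
          · have z : ∀ q : ℕ × ℕ, (b I i q : ℤ) + α i < 0 → φ.1 q = 0 := fun q hq =>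
              φ.2.1 q fun hs => by have := hs.2.2.1; omega
            rw [z q (by omega), z p hneg]; simp
          · have hs : Stairs.Slot (b I i) x y (α i) p q := ⟨hoq.1, hoq.2.1, by omega, by omega⟩
            rw [← hedge hs]
            split_ifs with hop
            · rfl
            · refine φ.2.1 p fun hsp => hop ((out_pt hI).2 ⟨hsp.1, hsp.2.1, by omega, ?_⟩)
              have := B.anti (Stairs.r x y p) (Stairs.r x y q) (by simp only [Stairs.r]; omega) (by simp only [Stairs.r]; omega)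
              rw [← hx, ← hy]; omega
        have hcases : ∀ j : Fin 3, j = i ∨ j = i + 1 ∨ j = i + 2 :=
          (forall_fin3 i).2 ⟨Or.inl rfl, Or.inr (Or.inl rfl), Or.inr (Or.inr rfl)⟩
        rcases hcases j with rfl | rfl | rfl
        · rw [Finsupp.single_eq_of_ne (by fin_cases j <;> simp), Finsupp.single_eq_of_ne (by fin_cases j <;> simp),
            add_zero, add_zero]
          rw [pt_add_i, out_pt hI] at ho
          push_cast at ho
          split_ifs with hop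
          · rfl
          · refine φ.2.1 p fun hsp => hop ((out_pt hI).2 ⟨hsp.1, hsp.2.1, ?_, ?_⟩)
            · have := hsp.2.2.1; omega
            · omega
        · rw [Finsupp.single_eq_same, Finsupp.single_eq_of_ne (by fin_cases i <;> simp), add_zero]
          rw [he1] at ho
          exact key (p.1 + 1, p.2) (Nat.le_succ _) le_rfl ho (φ.2.2.1 p)
        · rw [Finsupp.single_eq_same, Finsupp.single_eq_of_ne (by fin_cases i <;> simp), add_zero]
          rw [he2] at ho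
          exact key (p.1, p.2 + 1) le_rfl (Nat.le_succ _) ho (φ.2.2.2 p)
      refine ⟨⟨c, hc⟩, Subtype.ext (funext fun p => ?_)⟩
      show (if _ then _ else _) = φ.1 p
      simp only [(pt_apply i p (b I i p)).2.1, (pt_apply i p (b I i p)).2.2]
      split_ifs with h
      · rfl
      · exact (φ.2.1 p fun hs => h ((out_self hI).2 hs)).symm
  let E := (pieceEquiv hI α).trans (LinearEquiv.ofBijective _ hbij)
  haveI : Module.Finite k K := by
    refine Module.Finite.of_injective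
      (LinearMap.pi fun p : ↥(Stairs.box (N + x.natAbs + y.natAbs)) => (LinearMap.proj p.1).comp K.subtype) fun u v h => ?_
    refine Subtype.ext (funext fun p => ?_)
    by_cases hs : Stairs.Slot (b I i) x y (α i) p p
    · obtain ⟨h1, h2, h3, h4⟩ := id hs
      have := B.box (Stairs.r x y p) (by omega)
      simp only [Stairs.r] at this
      exact congrFun h ⟨p, by simp [Stairs.box]; omega⟩
    · rw [u.2.1 p hs, v.2.1 p hs]
  exact ⟨Module.Finite.equiv E.symm, E.finrank_eq⟩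

omit hI in
theorem vanish (hI : IsMonomial I) (α : Fin 3 → ℤ) (h : (∀ j, 0 ≤ α j) ∨ ∀ j, α j < 0) : tPiece I α = ⊥ :=
  (vanishing hI).1 α h

omit hI in
theorem mk3_range (i : Fin 3) (α : Fin 3 → ℤ) : α = mk3 i (α i) (α (i + 1)) (α (i + 2)) := by
  obtain ⟨a0, a1, a2⟩ := mk3_apply i (α i) (α (i + 1)) (α (i + 2))
  exact funext ((forall_fin3 i).2 ⟨a0.symm, a1.symm, a2.symm⟩)

/-- The multidegrees over `a`. -/
abbrev dn (i : Fin 3) (z : (ℕ × ℕ) × ℕ) : Fin 3 → ℤ := mk3 i (-(z.2 : ℤ) - 1) z.1.1 z.1.2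

/-- The multidegrees dual to `dn`. -/
abbrev up' (i : Fin 3) (z : (ℕ × ℕ) × ℕ) : Fin 3 → ℤ := mk3 i z.2 (-(z.1.1 : ℤ) - 1) (-(z.1.2 : ℤ) - 1)

omit hI in
theorem dn_injective (i : Fin 3) : Function.Injective (dn i) := fun z w h => by
  obtain ⟨a0, a1, a2⟩ := mk3_apply i (-(z.2 : ℤ) - 1) z.1.1 z.1.2
  obtain ⟨c0, c1, c2⟩ := mk3_apply i (-(w.2 : ℤ) - 1) w.1.1 w.1.2
  have h0 := congrFun h i
  have h1 := congrFun h (i + 1)
  have h2 := congrFun h (i + 2)
  simp only [dn, a0, a1, a2, c0, c1, c2] at h0 h1 h2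
  refine Prod.ext (Prod.ext ?_ ?_) ?_ <;> omega

omit hI in
theorem up_injective (i : Fin 3) : Function.Injective (up' i) := fun z w h => by
  obtain ⟨a0, a1, a2⟩ := mk3_apply i (z.2 : ℤ) (-(z.1.1 : ℤ) - 1) (-(z.1.2 : ℤ) - 1)
  obtain ⟨c0, c1, c2⟩ := mk3_apply i (w.2 : ℤ) (-(w.1.1 : ℤ) - 1) (-(w.1.2 : ℤ) - 1)
  have h0 := congrFun h i
  have h1 := congrFun h (i + 1)
  have h2 := congrFun h (i + 2)
  simp only [up', a0, a1, a2, c0, c1, c2] at h0 h1 h2
  refine Prod.ext (Prod.ext ?_ ?_) ?_ <;> omega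

theorem piece_dn (i : Fin 3) (a : ℕ × ℕ) (e : ℕ) :
    Module.Finite k (tPiece I (dn i (a, e))) ∧ Module.finrank k (tPiece I (dn i (a, e))) =
      Module.finrank k (Stairs.K k (b I i) (a.1 : ℤ) (a.2 : ℤ) (-(e : ℤ) - 1)) := by
  have h := finrank_tPiece hI i (dn i (a, e))
  obtain ⟨a0, a1, a2⟩ := mk3_apply i (-(e : ℤ) - 1) a.1 a.2
  rwa [show dn i (a, e) i = _ from a0, show dn i (a, e) (i + 1) = _ from a1, show dn i (a, e) (i + 2) = _ from a2] at h

theorem piece_up (i : Fin 3) (a : ℕ × ℕ) (e : ℕ) :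
    Module.Finite k (tPiece I (up' i (a, e))) ∧ Module.finrank k (tPiece I (up' i (a, e))) =
      Module.finrank k (Stairs.K k (b I i) (-(a.1 : ℤ) - 1) (-(a.2 : ℤ) - 1) (e : ℤ)) := by
  have h := finrank_tPiece hI i (up' i (a, e))
  obtain ⟨a0, a1, a2⟩ := mk3_apply i (e : ℤ) (-(a.1 : ℤ) - 1) (-(a.2 : ℤ) - 1)
  rwa [show up' i (a, e) i = _ from a0, show up' i (a, e) (i + 1) = _ from a1, show up' i (a, e) (i + 2) = _ from a2] at h

variable {N : ℕ}

theorem exists_dn (hN : ∀ i, Stairs.Bd (b I i) N) (i : Fin 3) {α : Fin 3 → ℤ} (hne : tPiece I α ≠ ⊥)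
    (h1 : 0 ≤ α (i + 1)) (h2 : 0 ≤ α (i + 2)) :
    ∃ a e, a ∈ Stairs.box N ∧ e < N ∧ α = dn i (a, e) := by
  have h0 : α i < 0 := not_le.1 fun h0 => hne (vanish hI α (Or.inl ((forall_fin3 i).2 ⟨h0, h1, h2⟩)))
  refine ⟨((α (i + 1)).toNat, (α (i + 2)).toNat), (-α i - 1).toNat, ?_⟩
  have he : α = dn i (((α (i + 1)).toNat, (α (i + 2)).toNat), (-α i - 1).toNat) := by
    conv_lhs => rw [mk3_range i α]
    simp only [dn, Int.toNat_of_nonneg h1, Int.toNat_of_nonneg h2,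
      Int.toNat_of_nonneg (show 0 ≤ -α i - 1 by omega)]
    congr 1; omega
  refine and_assoc.1 ⟨?_, he⟩
  obtain ⟨hf, hr⟩ := finrank_tPiece hI i α
  have hK : ∃ φ ∈ Stairs.K k (b I i) (α (i + 1)) (α (i + 2)) (α i), φ ≠ 0 := by
    refine Submodule.exists_mem_ne_zero_of_ne_bot fun hb => hne ?_
    haveI := hf
    rw [hb, finrank_bot] at hr
    exact Submodule.finrank_eq_zero.1 hr
  obtain ⟨φ, hφ, hφ0⟩ := hK
  obtain ⟨p, hp⟩ := Function.ne_iff.1 hφ0
  obtain ⟨s1, s2, s3, s4⟩ : Stairs.Slot (b I i) (α (i + 1)) (α (i + 2)) (α i) p p :=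
    not_not.1 fun h => hp (hφ.1 p h)
  have := (hN i).le p
  have := (hN i).box (Stairs.r (α (i + 1)) (α (i + 2)) p) (by omega)
  simp only [Stairs.r] at this
  simp only [Stairs.box, Finset.mem_product, Finset.mem_range]
  omega

theorem exists_up (hN : ∀ i, Stairs.Bd (b I i) N) (i : Fin 3) {α : Fin 3 → ℤ} (hne : tPiece I α ≠ ⊥)
    (h1 : α (i + 1) < 0) (h2 : α (i + 2) < 0) :
    ∃ a e, a ∈ Stairs.box N ∧ e < N ∧ α = up' i (a, e) := by
  have h0 : 0 ≤ α i := not_lt.1 fun h0 => hne (vanish hI α (Or.inr ((forall_fin3 i).2 ⟨h0, h1, h2⟩)))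
  refine ⟨((-α (i + 1) - 1).toNat, (-α (i + 2) - 1).toNat), (α i).toNat, ?_⟩
  have he : α = up' i (((-α (i + 1) - 1).toNat, (-α (i + 2) - 1).toNat), (α i).toNat) := by
    conv_lhs => rw [mk3_range i α]
    simp only [up', Int.toNat_of_nonneg h0, Int.toNat_of_nonneg (show 0 ≤ -α (i + 1) - 1 by omega),
      Int.toNat_of_nonneg (show 0 ≤ -α (i + 2) - 1 by omega)]
    congr 1 <;> omega
  refine and_assoc.1 ⟨?_, he⟩
  obtain ⟨hf, hr⟩ := finrank_tPiece hI i α
  haveI := hf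
  have hpos : 0 < Module.finrank k (tPiece I α) := by
    rw [pos_iff_ne_zero]; exact fun h => hne (Submodule.finrank_eq_zero.1 h)
  set a : ℕ × ℕ := ((-α (i + 1) - 1).toNat, (-α (i + 2) - 1).toNat)
  have heN : (α i).toNat < N := by
    obtain ⟨φ, hφ, hφ0⟩ : ∃ φ ∈ Stairs.K k (b I i) (α (i + 1)) (α (i + 2)) (α i), φ ≠ 0 := by
      refine Submodule.exists_mem_ne_zero_of_ne_bot fun hb => ?_
      rw [hr, hb, finrank_bot] at hpos
      omega
    obtain ⟨p, hp⟩ := Function.ne_iff.1 hφ0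
    obtain ⟨s1, s2, s3, s4⟩ : Stairs.Slot (b I i) (α (i + 1)) (α (i + 2)) (α i) p p :=
      not_not.1 fun h => hp (hφ.1 p h)
    have := (hN i).le (Stairs.r (α (i + 1)) (α (i + 2)) p)
    omega
  refine ⟨?_, heN⟩
  by_contra ha
  simp only [Stairs.box, Finset.mem_product, Finset.mem_range, not_and_or, not_lt] at ha
  have key := Stairs.finrank_K_add k a (α i).toNat (hN i)
  have hz : ∀ d : ℕ × ℕ, (Stairs.T a (α i).toNat (b I i) N d).card = 0 := fun d => by
    rw [Finset.card_eq_zero, Finset.eq_empty_iff_forall_notMem]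
    intro p hp
    rw [Stairs.mem_T a (α i).toNat (hN i)] at hp
    have := (hN i).box (p.1 + d.1 + a.1, p.2 + d.2 + a.2) (by omega)
    dsimp only at this
    omega
  have hup := (piece_up hI i a (α i).toNat).2
  rw [← he] at hup
  have hdn : Module.finrank k (Stairs.K k (b I i) (a.1 : ℤ) (a.2 : ℤ) (-((α i).toNat : ℤ) - 1)) = 0 := by
    have := Stairs.finrank_K_le (k := k) a (α i).toNat (hN i)
    have := Finset.card_le_card (Finset.sdiff_subset (s := Stairs.T a (α i).toNat (b I i) N (0, 0))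
      (t := Stairs.T a (α i).toNat (b I i) N (1, 0) ∪ Stairs.T a (α i).toNat (b I i) N (0, 1)))
    have := hz (0, 0)
    omega
  rw [hz, hz, hz, hz, hdn, ← hup] at key
  omega

theorem finrank_fix (hN : ∀ i, Stairs.Bd (b I i) N) (i : Fin 3) {ι : Type} (f : ι → Fin 3 → ℤ) (a : ℕ × ℕ)
    (hf : ∀ s, f s (i + 1) = a.1 ∧ f s (i + 2) = a.2)
    (hP : ∀ e, ∃ s, f s = dn i (a, e)) :
    Module.finrank k ↥(⨆ s, tPiece I (f s)) =
      ∑ e ∈ Finset.range N, Module.finrank k (Stairs.K k (b I i) (a.1 : ℤ) (a.2 : ℤ) (-(e : ℤ) - 1)) := by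
  rw [finrank_iSup_tPiece hI f ((Finset.range N).image fun e => dn i (a, e))]
  · rw [Finset.sum_image fun x _ y _ h => (Prod.ext_iff.1 (dn_injective i h)).2]
    exact Finset.sum_congr rfl fun e _ => (piece_dn hI i a e).2
  · intro s hs
    obtain ⟨a', e, -, he, hα⟩ := exists_dn hI hN i hs (by rw [(hf s).1]; omega) (by rw [(hf s).2]; omega)
    refine Finset.mem_image.2 ⟨e, Finset.mem_range.2 he, ?_⟩
    obtain ⟨-, a1, a2⟩ := mk3_apply i (-(e : ℤ) - 1) a'.1 a'.2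
    have h1 := (hf s).1
    have h2 := (hf s).2
    rw [hα, dn] at h1 h2
    simp only [a1, a2] at h1 h2
    rw [hα]
    congr 2
    exact Prod.ext (by omega) (by omega)
  · intro α hα
    obtain ⟨e, -, rfl⟩ := Finset.mem_image.1 hα
    exact hP e
  · intro α hα
    obtain ⟨e, -, rfl⟩ := Finset.mem_image.1 hα
    exact (piece_dn hI i a e).1

theorem finrank_fix_up (hN : ∀ i, Stairs.Bd (b I i) N) (i : Fin 3) {ι : Type} (f : ι → Fin 3 → ℤ) (a : ℕ × ℕ)
    (hf : ∀ s, f s (i + 1) = -(a.1 : ℤ) - 1 ∧ f s (i + 2) = -(a.2 : ℤ) - 1)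
    (hP : ∀ e, ∃ s, f s = up' i (a, e)) :
    Module.finrank k ↥(⨆ s, tPiece I (f s)) =
      ∑ e ∈ Finset.range N, Module.finrank k (Stairs.K k (b I i) (-(a.1 : ℤ) - 1) (-(a.2 : ℤ) - 1) (e : ℤ)) := by
  rw [finrank_iSup_tPiece hI f ((Finset.range N).image fun e => up' i (a, e))]
  · rw [Finset.sum_image fun x _ y _ h => (Prod.ext_iff.1 (up_injective i h)).2]
    exact Finset.sum_congr rfl fun e _ => (piece_up hI i a e).2
  · intro s hs
    obtain ⟨a', e, -, he, hα⟩ := exists_up hI hN i hs (by rw [(hf s).1]; omega) (by rw [(hf s).2]; omega)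
    refine Finset.mem_image.2 ⟨e, Finset.mem_range.2 he, ?_⟩
    obtain ⟨-, a1, a2⟩ := mk3_apply i (e : ℤ) (-(a'.1 : ℤ) - 1) (-(a'.2 : ℤ) - 1)
    have h1 := (hf s).1
    have h2 := (hf s).2
    rw [hα, up'] at h1 h2
    simp only [a1, a2] at h1 h2
    rw [hα]
    congr 2
    exact Prod.ext (by omega) (by omega)
  · intro α hα
    obtain ⟨e, -, rfl⟩ := Finset.mem_image.1 hα
    exact hP e
  · intro α hα
    obtain ⟨e, -, rfl⟩ := Finset.mem_image.1 hα
    exact (piece_up hI i a e).1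

theorem stairZ_eq (p : ℕ × ℕ) : stairZ I p.1 p.2 = b I 2 p := by
  have h : ∀ c, e3 p.1 p.2 c = pt 2 p c := fun c => by
    refine Finsupp.ext fun j => ?_
    fin_cases j <;> simp [pt, e3]
  rw [stairZ, Nat.card_congr (Equiv.subtypeEquivRight fun c => show e3 p.1 p.2 c ∉ exps I ↔ c ∈ Finset.range (b I 2 p) by
    rw [h, mem_iff_b hI, Finset.mem_range, not_le])]
  rw [Nat.card_eq_finsetCard, Finset.card_range]

theorem finrank_quot_eq (hN : ∀ i, Stairs.Bd (b I i) N) (i : Fin 3) :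
    Module.finrank k (MvPolynomial (Fin 3) k ⧸ I) = ∑ p ∈ Stairs.box N, b I i p := by
  rw [finrank_quot hI]
  let F := (Stairs.box N).sigma fun p => Finset.range (b I i p)
  have hmap : ∀ z : ↥F, pt i z.1.1 z.1.2 ∉ exps I := fun z => by
    rw [mem_iff_b hI, not_le]; exact Finset.mem_range.1 (Finset.mem_sigma.1 z.2).2
  rw [← Nat.card_congr (Equiv.ofBijective (fun z : ↥F => (⟨_, hmap z⟩ : {β : Fin 3 →₀ ℕ // β ∉ exps I})) ⟨?_, ?_⟩),
    Nat.card_eq_fintype_card, Fintype.card_coe, Finset.card_sigma]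
  · simp
  · rintro ⟨⟨p, m⟩, hz⟩ ⟨⟨p', m'⟩, hz'⟩ h
    have h' : pt i p m = pt i p' m' := Subtype.ext_iff.1 h
    obtain ⟨a0, a1, a2⟩ := pt_apply i p m
    obtain ⟨c0, c1, c2⟩ := pt_apply i p' m'
    rw [h'] at a0 a1 a2
    have : p = p' := Prod.ext (a1.symm.trans c1) (a2.symm.trans c2)
    subst this
    have : m = m' := a0.symm.trans c0
    subst this
    rfl
  · rintro ⟨β, hβ⟩
    obtain ⟨p, m, rfl⟩ : ∃ p m, β = pt i p m := ⟨_, _, eq_pt i β⟩
    rw [mem_iff_b hI, not_le] at hβ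
    have := (hN i).box p (by omega)
    exact ⟨⟨⟨p, m⟩, Finset.mem_sigma.2 ⟨by simpa [Stairs.box] using this, Finset.mem_range.2 hβ⟩⟩, rfl⟩

theorem mem_sig_dn (i : Fin 3) (a : ℕ × ℕ) (e : ℕ) : ∀ j, dn i (a, e) j < 0 ↔ j ∈ ({i} : Set (Fin 3)) := by
  obtain ⟨a0, a1, a2⟩ := mk3_apply i (-(e : ℤ) - 1) a.1 a.2
  refine (forall_fin3 i).2 ⟨?_, ?_, ?_⟩
  · simp [dn, a0]; omega
  · simp [dn, a1]
  · simp [dn, a2]

theorem mem_sig_up (i : Fin 3) (a : ℕ × ℕ) (e : ℕ) : ∀ j, up' i (a, e) j < 0 ↔ j ∈ ({i}ᶜ : Set (Fin 3)) := by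
  obtain ⟨a0, a1, a2⟩ := mk3_apply i (e : ℤ) (-(a.1 : ℤ) - 1) (-(a.2 : ℤ) - 1)
  refine (forall_fin3 i).2 ⟨?_, ?_, ?_⟩
  · simp [up', a0]
  · simp [up', a1]; omega
  · simp [up', a2]
    first | omega | (fin_cases i <;> simp)

/-- The six families of multidegrees. -/
abbrev degs (N : ℕ) (dir : Fin 3 → (ℕ × ℕ) × ℕ → Fin 3 → ℤ) (i : Fin 3) : Finset (Fin 3 → ℤ) :=
  (Stairs.box N ×ˢ Finset.range N).image (dir i)

theorem sum_dn (hN : ∀ i, Stairs.Bd (b I i) N) (i : Fin 3) :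
    ∑ α ∈ degs N dn i, Module.finrank k (tPiece I α) =
      ∑ α ∈ degs N up' i, Module.finrank k (tPiece I α) + Module.finrank k (MvPolynomial (Fin 3) k ⧸ I) := by
  rw [Finset.sum_image fun x _ y _ h => dn_injective i h, Finset.sum_image fun x _ y _ h => up_injective i h,
    finrank_quot_eq hI hN i, Finset.sum_product (Stairs.box N) (Finset.range N),
    Finset.sum_product (Stairs.box N) (Finset.range N), ← Finset.sum_add_distrib]
  refine Finset.sum_congr rfl fun a _ => ?_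
  simp only [(piece_dn hI i _ _).2, (piece_up hI i _ _).2]
  rw [Stairs.sum_finrank_K k a (hN i), add_comm]

theorem sig_dn (hN : ∀ i, Stairs.Bd (b I i) N) (i : Fin 3) :
    Module.finrank k ↥(sigPiece I {i}) = ∑ α ∈ degs N dn i, Module.finrank k (tPiece I α) := by
  rw [sigPiece, finrank_iSup_tPiece hI _ (degs N dn i)]
  · intro s hs
    have h1 : ¬ s.1 (i + 1) < 0 := by rw [s.2]; fin_cases i <;> simp
    have h2 : ¬ s.1 (i + 2) < 0 := by rw [s.2]; fin_cases i <;> simp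
    obtain ⟨a, e, ha, he, hα⟩ := exists_dn hI hN i hs (not_lt.1 h1) (not_lt.1 h2)
    exact Finset.mem_image.2 ⟨(a, e), Finset.mem_product.2 ⟨ha, Finset.mem_range.2 he⟩, hα.symm⟩
  · intro α hα
    obtain ⟨⟨a, e⟩, -, rfl⟩ := Finset.mem_image.1 hα
    exact ⟨⟨_, mem_sig_dn hI i a e⟩, rfl⟩
  · intro α hα
    obtain ⟨⟨a, e⟩, -, rfl⟩ := Finset.mem_image.1 hα
    exact (piece_dn hI i a e).1

theorem sig_up (hN : ∀ i, Stairs.Bd (b I i) N) (i : Fin 3) :
    Module.finrank k ↥(sigPiece I ({i}ᶜ : Set (Fin 3))) = ∑ α ∈ degs N up' i, Module.finrank k (tPiece I α) := by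
  rw [sigPiece, finrank_iSup_tPiece hI _ (degs N up' i)]
  · intro s hs
    have h1 : s.1 (i + 1) < 0 := (s.2 _).2 (by fin_cases i <;> simp)
    have h2 : s.1 (i + 2) < 0 := (s.2 _).2 (by fin_cases i <;> simp)
    obtain ⟨a, e, ha, he, hα⟩ := exists_up hI hN i hs h1 h2
    exact Finset.mem_image.2 ⟨(a, e), Finset.mem_product.2 ⟨ha, Finset.mem_range.2 he⟩, hα.symm⟩
  · intro α hα
    obtain ⟨⟨a, e⟩, -, rfl⟩ := Finset.mem_image.1 hα
    exact ⟨⟨_, mem_sig_up hI i a e⟩, rfl⟩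
  · intro α hα
    obtain ⟨⟨a, e⟩, -, rfl⟩ := Finset.mem_image.1 hα
    exact (piece_up hI i a e).1

theorem singleton_eq (i : Fin 3) :
    Module.finrank k ↥(sigPiece I {i}) =
      Module.finrank k ↥(sigPiece I ({i}ᶜ : Set (Fin 3))) + Module.finrank k (MvPolynomial (Fin 3) k ⧸ I) := by
  obtain ⟨N, hN⟩ := exists_bd hI
  rw [sig_dn hI hN, sig_up hI hN, sum_dn hI hN]

theorem mod_two :
    Module.finrank k (Tgt I) % 2 = Module.finrank k (MvPolynomial (Fin 3) k ⧸ I) % 2 := by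
  obtain ⟨N, hN⟩ := exists_bd hI
  let A1 := Finset.univ.biUnion (degs N dn)
  let A2 := Finset.univ.biUnion (degs N up')
  have hA : ∀ α : Fin 3 → ℤ, tPiece I α ≠ ⊥ → α ∈ A1 ∪ A2 := by
    intro α hα
    have case1 : ∀ i : Fin 3, 0 ≤ α (i + 1) → 0 ≤ α (i + 2) → α ∈ A1 ∪ A2 := fun i h1 h2 => by
      obtain ⟨a, e, ha, he, he'⟩ := exists_dn hI hN i hα h1 h2
      exact Finset.mem_union_left _ (Finset.mem_biUnion.2 ⟨i, Finset.mem_univ i,
        Finset.mem_image.2 ⟨(a, e), Finset.mem_product.2 ⟨ha, Finset.mem_range.2 he⟩, he'.symm⟩⟩)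
    have case2 : ∀ i : Fin 3, α (i + 1) < 0 → α (i + 2) < 0 → α ∈ A1 ∪ A2 := fun i h1 h2 => by
      obtain ⟨a, e, ha, he, he'⟩ := exists_up hI hN i hα h1 h2
      exact Finset.mem_union_right _ (Finset.mem_biUnion.2 ⟨i, Finset.mem_univ i,
        Finset.mem_image.2 ⟨(a, e), Finset.mem_product.2 ⟨ha, Finset.mem_range.2 he⟩, he'.symm⟩⟩)
    rcases lt_or_ge (α 0) 0 with g0 | g0 <;> rcases lt_or_ge (α 1) 0 with g1 | g1
    · exact case2 2 g0 g1
    · rcases lt_or_ge (α 2) 0 with g2 | g2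
      · exact case2 1 g2 g0
      · exact case1 0 g1 g2
    · rcases lt_or_ge (α 2) 0 with g2 | g2
      · exact case2 0 g1 g2
      · exact case1 1 g2 g0
    · exact case1 2 g0 g1
  have hfin : ∀ α ∈ A1 ∪ A2, Module.Finite k (tPiece I α) := by
    intro α hα
    rcases Finset.mem_union.1 hα with h | h <;> obtain ⟨j, -, hj⟩ := Finset.mem_biUnion.1 h <;>
      obtain ⟨⟨a, e⟩, -, rfl⟩ := Finset.mem_image.1 hj
    · exact (piece_dn hI j a e).1
    · exact (piece_up hI j a e).1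
  have s1 : ∀ {j α}, α ∈ degs N dn j → ∀ l, α l < 0 ↔ l ∈ ({j} : Set (Fin 3)) := fun {j α} h => by
    obtain ⟨⟨a, e⟩, -, rfl⟩ := Finset.mem_image.1 h; exact mem_sig_dn hI j a e
  have s2 : ∀ {j α}, α ∈ degs N up' j → ∀ l, α l < 0 ↔ l ∈ ({j}ᶜ : Set (Fin 3)) := fun {j α} h => by
    obtain ⟨⟨a, e⟩, -, rfl⟩ := Finset.mem_image.1 h; exact mem_sig_up hI j a e
  rw [← finrank_top k (Tgt I), ← iSup_tPiece_eq_top hI,
    finrank_iSup_tPiece hI (fun α => α) (A1 ∪ A2) hA (fun α _ => ⟨α, rfl⟩) hfin,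
    Finset.sum_union, Finset.sum_biUnion, Finset.sum_biUnion]
  · simp only [sum_dn hI hN, Fin.sum_univ_three]
    omega
  · intro x _ y _ hxy
    exact Finset.disjoint_left.2 fun α hx hy => hxy (by
      have := ((s2 hy x).symm.trans (s2 hx x)).1
      by_contra hne
      exact this hne rfl)
  · intro x _ y _ hxy
    exact Finset.disjoint_left.2 fun α hx hy => hxy (((s1 hy x).symm.trans (s1 hx x)).2 rfl)
  · refine Finset.disjoint_left.2 fun α hx hy => ?_
    obtain ⟨x, -, hx⟩ := Finset.mem_biUnion.1 hx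
    obtain ⟨y, -, hy⟩ := Finset.mem_biUnion.1 hy
    have e := fun l => (s1 hx l).symm.trans (s2 hy l)
    revert e; fin_cases x <;> fin_cases y <;> simp [Fin.forall_fin_succ]

theorem fix_xy (i j : ℕ) :
    Module.finrank k ↥(⨆ α : {α : Fin 3 → ℤ // α 0 = (i : ℤ) ∧ α 1 = (j : ℤ)}, tPiece I α.1) =
      stairZ I i j +
        Module.finrank k ↥(⨆ α : {α : Fin 3 → ℤ // α 0 = -(i : ℤ) - 1 ∧ α 1 = -(j : ℤ) - 1}, tPiece I α.1) := by
  obtain ⟨N, hN⟩ := exists_bd hI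
  rw [finrank_fix hI hN 2 _ (i, j) (fun s => ⟨s.2.1, s.2.2⟩) (fun e => ⟨⟨dn 2 ((i, j), e), by simp [dn, mk3]⟩, rfl⟩),
    finrank_fix_up hI hN 2 _ (i, j) (fun s => ⟨s.2.1, s.2.2⟩) (fun e => ⟨⟨up' 2 ((i, j), e), by simp [up', mk3]⟩, rfl⟩),
    Stairs.sum_finrank_K k (i, j) (hN 2), stairZ_eq hI (i, j)]

theorem ppn_le (a1 a2 : ℕ) :
    Module.finrank k ↥(⨆ α : {α : Fin 3 → ℤ // α 0 = (a1 : ℤ) ∧ α 1 = (a2 : ℤ) ∧ α 2 < 0}, tPiece I α.1) ≤
      ∑ᶠ p : ℕ × ℕ, (if a1 ≤ p.1 ∧ a2 ≤ p.2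
        then stairZ I p.1 p.2 - max (stairZ I (p.1 + 1) p.2) (stairZ I p.1 (p.2 + 1)) else 0) := by
  obtain ⟨N, hN⟩ := exists_bd hI
  rw [finrank_fix hI hN 2 _ (a1, a2) (fun s => ⟨s.2.1, s.2.2.1⟩)
    (fun e => ⟨⟨dn 2 ((a1, a2), e), by simp [dn, mk3]; omega⟩, rfl⟩)]
  refine (Finset.sum_le_sum fun e _ => Stairs.finrank_K_le (a1, a2) e (hN 2)).trans (le_of_eq ?_)
  rw [Stairs.sum_card_corners (a1, a2) (hN 2)]
  rw [finsum_eq_sum_of_support_subset _ (s := (Stairs.box N).image fun p => (p.1 + a1, p.2 + a2)) ?_,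
    Finset.sum_image fun p _ q _ h => ?_]
  · refine Finset.sum_congr rfl fun p _ => ?_
    rw [if_pos ⟨Nat.le_add_left _ _, Nat.le_add_left _ _⟩]
    simp only [← stairZ_eq hI]
  · simp only [Prod.mk.injEq] at h
    exact Prod.ext (by omega) (by omega)
  · intro p hp
    rw [Function.mem_support] at hp
    split_ifs at hp with h
    · have := (hN 2).box p (by rw [← stairZ_eq hI p]; omega)
      refine Finset.mem_coe.2 (Finset.mem_image.2 ⟨(p.1 - a1, p.2 - a2), ?_, Prod.ext (by dsimp; omega) (by dsimp; omega)⟩)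
      simp [Stairs.box]; omega
    · exact absurd rfl hp

end Groth.Agent.HilbPt29.Duality
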