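import Groth.Prelude.Def_W4c1hilbpnTgt
import Mathlib.RingTheory.Finiteness.Basic
import Mathlib.LinearAlgebra.Dimension.Finite
import Mathlib.LinearAlgebra.Dimension.Constructions
import Mathlib.RingTheory.MvPolynomial.Basic
import Mathlib.Algebra.MvPolynomial.Rename
import Mathlib.Tactic

/-!
# Exponents of monomial ideals; staircases and slices of strongly stable ideals
-/

set_option autoImplicit false
set_option maxHeartbeats 400000
universe u

open MvPolynomial W4c1hilbpn

namespace Groth.Agent.HilbPt29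

variable {σ : Type*} {k : Type*} [Field k] {I : Ideal (MvPolynomial σ k)}

theorem monomial_mem {β : σ →₀ ℕ} (h : β ∈ exps I) (c : k) : monomial β c ∈ I := by
  have : monomial β c = C c * monomial β 1 := by rw [C_mul_monomial, mul_one]
  rw [this]
  exact I.mul_mem_left _ h

theorem mem_exps_of_le {β γ : σ →₀ ℕ} (h : β ∈ exps I) (hle : β ≤ γ) : γ ∈ exps I := by
  obtain ⟨δ, rfl⟩ := exists_add_of_le hle
  show monomial (β + δ) (1 : k) ∈ I
  have : monomial (β + δ) (1 : k) = monomial δ 1 * monomial β 1 := by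
    rw [monomial_mul, one_mul, add_comm]
  rw [this]
  exact I.mul_mem_left _ h

theorem mem_iff (hI : IsMonomial I) (p : MvPolynomial σ k) :
    p ∈ I ↔ ∀ β ∈ p.support, β ∈ exps I := by
  refine ⟨fun h => hI p h, fun h => ?_⟩
  rw [p.as_sum]
  exact I.sum_mem fun β hβ => monomial_mem (h β hβ) _

theorem coeff_eq_zero_of_mem (hI : IsMonomial I) {p : MvPolynomial σ k} (hp : p ∈ I) {β : σ →₀ ℕ}
    (hβ : β ∉ exps I) : coeff β p = 0 := by
  by_contra h
  exact hβ ((mem_iff hI p).1 hp β (mem_support_iff.2 h))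

/-- Classes of monomials outside a monomial ideal are linearly independent. -/
theorem linearIndependent_outside (hI : IsMonomial I) :
    LinearIndependent k fun β : {β : σ →₀ ℕ // β ∉ exps I} =>
      Ideal.Quotient.mk I (monomial β.1 (1 : k)) := by
  classical
  refine linearIndependent_iff'.2 fun s g hg i hi => ?_
  have h1 : ∑ β ∈ s, monomial β.1 (g β) ∈ I := by
    rw [← Ideal.Quotient.eq_zero_iff_mem, map_sum]
    refine Eq.trans (Finset.sum_congr rfl fun β _ => ?_) hg
    rw [← Ideal.Quotient.mkₐ_eq_mk k, ← map_smul, smul_monomial, smul_eq_mul, mul_one]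
  have h2 := coeff_eq_zero_of_mem hI h1 i.2
  rw [coeff_sum, Finset.sum_eq_single i (fun b _ hb => by
    rw [coeff_monomial, if_neg]; exact fun h => hb (Subtype.ext h)) (fun h => absurd hi h)] at h2
  simpa using h2

theorem finite_outside (hI : IsMonomial I) [Module.Finite k (MvPolynomial σ k ⧸ I)] :
    Finite {β : σ →₀ ℕ // β ∉ exps I} :=
  (linearIndependent_outside hI).finite

theorem exists_single_mem (hI : IsMonomial I) [Module.Finite k (MvPolynomial σ k ⧸ I)] (i : σ) :
    ∃ n : ℕ, Finsupp.single i n ∈ exps I := by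
  haveI := finite_outside hI
  by_contra h
  simp only [not_exists] at h
  exact not_finite_iff_infinite.2 (Infinite.of_injective
    (fun n => (⟨Finsupp.single i n, h n⟩ : {β : σ →₀ ℕ // β ∉ exps I}))
    fun a b hab => Finsupp.single_injective i (Subtype.ext_iff.1 hab)) inferInstance

theorem e3_apply (a b c : ℕ) : e3 a b c 0 = a ∧ e3 a b c 1 = b ∧ e3 a b c 2 = c := ⟨rfl, rfl, rfl⟩

theorem e3_injective_z (a b : ℕ) : Function.Injective fun c => e3 a b c := fun c c' h =>
  (e3_apply a b c).2.2.symm.trans ((DFunLike.congr_fun h 2).trans (e3_apply a b c').2.2)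

theorem e3_injective_y (a c : ℕ) : Function.Injective fun b => e3 a b c := fun b b' h =>
  (e3_apply a b c).2.1.symm.trans ((DFunLike.congr_fun h 1).trans (e3_apply a b' c).2.1)

theorem stair_le {K : Type u} [Field K] {J : Ideal (MvPolynomial (Fin 3) K)}
    (hJ : IsStronglyStable J) [Module.Finite K (MvPolynomial (Fin 3) K ⧸ J)] (i j : ℕ) :
    stairZ J (i + 1) j ≤ stairZ J i (j + 1) ∧ stairY J (i + 1) j ≤ stairY J i (j + 1) := by
  haveI := finite_outside hJ.1
  constructor
  · haveI : Finite {c : ℕ // e3 i (j + 1) c ∉ exps J} :=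
      Finite.of_injective (fun c => (⟨e3 i (j + 1) c.1, c.2⟩ : {β : Fin 3 →₀ ℕ // β ∉ exps J}))
        fun a b h => Subtype.ext (e3_injective_z _ _ (Subtype.ext_iff.1 h))
    refine Nat.card_le_card_of_injective (Subtype.map id fun c hc h => hc ?_)
      (Subtype.map_injective _ Function.injective_id)
    have h' := hJ.2 _ h 0 1 (by decide) (by simp [e3])
    convert h' using 1
    refine Finsupp.ext fun l => ?_
    rw [Finsupp.add_apply, Finsupp.tsub_apply]
    fin_cases l <;> simp [e3, Finsupp.single_apply]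
  · haveI : Finite {b : ℕ // e3 i b (j + 1) ∉ exps J} :=
      Finite.of_injective (fun b => (⟨e3 i b.1 (j + 1), b.2⟩ : {β : Fin 3 →₀ ℕ // β ∉ exps J}))
        fun a b h => Subtype.ext (e3_injective_y _ _ (Subtype.ext_iff.1 h))
    refine Nat.card_le_card_of_injective (Subtype.map id fun b hb h => hb ?_)
      (Subtype.map_injective _ Function.injective_id)
    have h' := hJ.2 _ h 0 2 (by decide) (by simp [e3])
    convert h' using 1
    refine Finsupp.ext fun l => ?_
    rw [Finsupp.add_apply, Finsupp.tsub_apply]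
    fin_cases l <;> simp [e3, Finsupp.single_apply]

/-- The exponent `(a, β)`. -/
noncomputable def up (a : ℕ) (β : Fin 2 →₀ ℕ) : Fin 3 →₀ ℕ :=
  Finsupp.single 0 a + Finsupp.mapDomain Fin.succ β

theorem up_zero (a : ℕ) (β : Fin 2 →₀ ℕ) : up a β 0 = a := by
  rw [up, Finsupp.add_apply, Finsupp.single_eq_same, Finsupp.mapDomain_notin_range]
  · simp
  · rintro ⟨x, hx⟩; exact Fin.succ_ne_zero x hx

theorem up_succ (a : ℕ) (β : Fin 2 →₀ ℕ) (l : Fin 2) : up a β l.succ = β l := by
  rw [up, Finsupp.add_apply, Finsupp.single_eq_of_ne (Fin.succ_ne_zero l),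
    Finsupp.mapDomain_apply (Fin.succ_injective 2), zero_add]

variable {K : Type u} [Field K] {J : Ideal (MvPolynomial (Fin 3) K)}

theorem mul_rename (a : ℕ) (f : MvPolynomial (Fin 2) K) (β : Fin 2 →₀ ℕ) :
    coeff (up a β) (X 0 ^ a * rename Fin.succ f) = coeff β f := by
  rw [X_pow_eq_monomial, up, coeff_monomial_mul, one_mul,
    coeff_rename_mapDomain _ (Fin.succ_injective 2)]

theorem mem_sliceX (a : ℕ) (f : MvPolynomial (Fin 2) K) :
    f ∈ sliceX J a ↔ X 0 ^ a * rename Fin.succ f ∈ J := by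
  rw [sliceX, Ideal.mem_comap, Submodule.mem_colon_singleton, smul_eq_mul, mul_comm]
  rfl

theorem mem_exps_sliceX (a : ℕ) (β : Fin 2 →₀ ℕ) : β ∈ exps (sliceX J a) ↔ up a β ∈ exps J := by
  show monomial β (1 : K) ∈ sliceX J a ↔ monomial (up a β) (1 : K) ∈ J
  rw [mem_sliceX, rename_monomial, X_pow_eq_monomial, monomial_mul, one_mul, up]

theorem isMonomial_sliceX (hJ : IsMonomial J) (a : ℕ) : IsMonomial (sliceX J a) := by
  intro f hf β hβ
  refine (mem_exps_sliceX a β).2 (hJ _ ((mem_sliceX a f).1 hf) _ (mem_support_iff.2 ?_))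
  rw [mul_rename]
  exact mem_support_iff.1 hβ

theorem sliceX_stable (hJ : IsStronglyStable J) (a : ℕ) :
    IsStronglyStable (sliceX J a) ∧
      (sliceX J a).colon {(X 0 : MvPolynomial (Fin 2) K)} ≤ sliceX J (a + 1) := by
  refine ⟨⟨isMonomial_sliceX hJ.1 a, fun β hβ i j hij hj => ?_⟩, fun f hf => ?_⟩
  · rw [mem_exps_sliceX] at hβ ⊢
    have hs := hJ.2 _ hβ i.succ j.succ (Fin.succ_lt_succ_iff.2 hij) (by rw [up_succ]; exact hj)
    convert hs using 1
    refine Finsupp.ext fun l => Fin.cases ?_ (fun l => ?_) l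
    · simp [up_zero, (Fin.succ_ne_zero _).symm]
    · simp [up_succ, Finsupp.single_apply]
  · rw [Submodule.mem_colon_singleton, smul_eq_mul] at hf
    rw [mem_iff (isMonomial_sliceX hJ.1 (a + 1))]
    intro β hβ
    have h1 : β + Finsupp.single 0 1 ∈ exps (sliceX J a) := by
      refine (mem_iff (isMonomial_sliceX hJ.1 a) _).1 hf _ (mem_support_iff.2 ?_)
      rw [coeff_mul_X]
      exact mem_support_iff.1 hβ
    rw [mem_exps_sliceX] at h1 ⊢
    have hs := hJ.2 _ h1 0 (Fin.succ 0) (by decide) (by rw [up_succ]; simp)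
    convert hs using 1
    refine Finsupp.ext fun l => Fin.cases ?_ (fun l => ?_) l
    · simp [up_zero]
    · rw [Finsupp.add_apply, Finsupp.tsub_apply, up_succ, up_succ]
      fin_cases l <;> simp [Finsupp.single_apply]

end Groth.Agent.HilbPt29
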