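import Groth.Agent.Lib.HilbPt29.Piece

/-!
# Pieces from a generator and a socle monomial
-/

set_option autoImplicit false
set_option maxHeartbeats 400000
universe u

open MvPolynomial W4c1hilbpn
open scoped Classical

noncomputable section

namespace Groth.Agent.HilbPt29

section general

variable {σ : Type} [Finite σ] {k : Type u} [Field k] {I : Ideal (MvPolynomial σ k)}

/-- The multidegree carrying `g` to `γ`. -/
def diffDeg (g γ : σ →₀ ℕ) : σ → ℤ := fun i => (γ i : ℤ) - g i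

theorem tPiece_ne_bot_of_gen (hI : IsMonomial I) {g γ : σ →₀ ℕ} (hg : g ∈ exps I)
    (hmin : ∀ l, 0 < g l → g - Finsupp.single l 1 ∉ exps I) (hγ : γ ∉ exps I)
    (hsoc : ∀ l, γ + Finsupp.single l 1 ∈ exps I) : tPiece I (diffDeg g γ) ≠ ⊥ := by
  have hs : shift g (diffDeg g γ) = γ := Finsupp.ext fun i => by simp [shift_apply, diffDeg]
  have hn : ∀ i, 0 ≤ (g i : ℤ) + diffDeg g γ i := fun i => by simp [diffDeg]
  let c : exps I → k := fun β => if β.1 = g then 1 else 0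
  have hc : c ∈ Cf I (diffDeg g γ) := by
    refine ⟨fun β h => if_neg fun (e : β.1 = g) => h ⟨e ▸ hn, by rw [e, hs]; exact hγ⟩, fun β i h => ?_⟩
    show (if _ then _ else _) = (if _ then _ else _)
    have h1 : β.1 + Finsupp.single i 1 ≠ g := fun e => hmin i (by rw [← e]; simp) (by
      rw [← e, add_tsub_cancel_right]; exact β.2)
    have h2 : β.1 ≠ g := fun e => h.2 (by rw [e, shift_add hn, hs]; exact hsoc i)
    rw [if_neg h1, if_neg h2]
  intro hbot
  have h := homOf_mem hI hc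
  rw [hbot, Submodule.mem_bot] at h
  have h' := congrArg (cof hI (diffDeg g γ)) h
  rw [cof_homOf, map_zero] at h'
  have h'' := congrFun h' ⟨g, hg⟩
  simp [c] at h''

theorem sigPiece_ne_bot {N : Set σ} {α : σ → ℤ} (hα : ∀ i, α i < 0 ↔ i ∈ N) (h : tPiece I α ≠ ⊥) :
    sigPiece I N ≠ ⊥ := fun hb => h (le_bot_iff.1 (hb ▸
    le_iSup (fun a : {a : σ → ℤ // ∀ i, a i < 0 ↔ i ∈ N} => tPiece I a.1) ⟨α, hα⟩))

theorem exists_socle (hI : IsMonomial I) [Module.Finite k (MvPolynomial σ k ⧸ I)] {γ₀ : σ →₀ ℕ}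
    (h : γ₀ ∉ exps I) : ∃ γ, γ₀ ≤ γ ∧ γ ∉ exps I ∧ ∀ l, γ + Finsupp.single l 1 ∈ exps I := by
  haveI := finite_outside hI
  have hfin : {γ : σ →₀ ℕ | γ ∉ exps I ∧ γ₀ ≤ γ}.Finite :=
    (Set.finite_coe_iff.1 ‹Finite {β : σ →₀ ℕ // β ∉ exps I}›).subset fun γ hγ => hγ.1
  obtain ⟨γ, hle, hmax⟩ := hfin.exists_le_maximal (show γ₀ ∈ {γ : σ →₀ ℕ | γ ∉ exps I ∧ γ₀ ≤ γ} from ⟨h, le_rfl⟩)
  refine ⟨γ, hle, hmax.1.1, fun l => ?_⟩
  by_contra hl
  have := hmax.2 (show _ ∈ {γ : σ →₀ ℕ | γ ∉ exps I ∧ γ₀ ≤ γ} from ⟨hl, hle.trans le_self_add⟩) le_self_add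
  simpa using this l

/-- If `x_x ∈ I`, pieces negative at `x` and elsewhere vanish. -/
theorem eq_zero_of_var_mem {α : σ → ℤ} {x j : σ} (hx : Finsupp.single x 1 ∈ exps I)
    (hαx : α x < 0) (hαj : α j < 0) (hxj : j ≠ x) {c : exps I → k} (hc : c ∈ Cf I α) : c = 0 := by
  suffices H : ∀ (m : ℕ) (β : exps I), β.1.degree ≤ m → c β = 0 from
    funext fun β => H _ β le_rfl
  intro m
  induction m with
  | zero =>
    intro β h
    refine hc.1 β fun ho => ?_
    have := ho.1 x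
    have h0 : β.1 = 0 := (Finsupp.degree_eq_zero_iff _).1 (Nat.le_zero.1 h)
    simp [h0] at this
    omega
  | succ m ih =>
    intro β hm
    by_cases ho : Out I α β.1
    swap
    · exact hc.1 β ho
    have hx1 : 1 ≤ β.1 x := by have := ho.1 x; omega
    have hj1 : 1 ≤ β.1 j := by have := ho.1 j; omega
    have hle : Finsupp.single j 1 ≤ β.1 := Finsupp.single_le_iff.2 hj1
    have heq : β.1 - Finsupp.single j 1 + Finsupp.single j 1 = β.1 := tsub_add_cancel_of_le hle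
    have hmem : β.1 - Finsupp.single j 1 ∈ exps I := mem_exps_of_le hx (Finsupp.single_le_iff.2 (by
      simp [Finsupp.single_eq_of_ne hxj.symm]; omega))
    have h2 := hc.2 ⟨_, hmem⟩ j (by simp only [heq]; exact ho)
    simp only [heq] at h2
    rw [h2]
    refine ih _ ?_
    have := congrArg Finsupp.degree heq
    rw [map_add, Finsupp.degree_single] at this
    show Finsupp.degree (β.1 - Finsupp.single j 1) ≤ m
    omega

end general

variable {k : Type u} [Field k] {I : Ideal (MvPolynomial (Fin 3) k)}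

theorem le_e3 {γ : Fin 3 →₀ ℕ} {a b c : ℕ} (h0 : a ≤ γ 0) (h1 : b ≤ γ 1) (h2 : c ≤ γ 2) :
    e3 a b c ≤ γ := fun i => by fin_cases i <;> assumption

theorem e3_sub (a b c : ℕ) :
    e3 a b c - Finsupp.single 0 1 = e3 (a - 1) b c ∧ e3 a b c - Finsupp.single 1 1 = e3 a (b - 1) c ∧
      e3 a b c - Finsupp.single 2 1 = e3 a b (c - 1) := by
  refine ⟨?_, ?_, ?_⟩ <;> refine Finsupp.ext fun i => ?_ <;> rw [Finsupp.tsub_apply] <;>
    fin_cases i <;> simp [e3, Finsupp.single_apply]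

theorem e3_add (a b c : ℕ) :
    e3 a b c + Finsupp.single 0 1 = e3 (a + 1) b c ∧ e3 a b c + Finsupp.single 1 1 = e3 a (b + 1) c ∧
      e3 a b c + Finsupp.single 2 1 = e3 a b (c + 1) := by
  refine ⟨?_, ?_, ?_⟩ <;> refine Finsupp.ext fun i => ?_ <;> rw [Finsupp.add_apply] <;>
    fin_cases i <;> simp [e3, Finsupp.single_apply]

theorem single_e3 (t : ℕ) : Finsupp.single (0 : Fin 3) t = e3 t 0 0 ∧ Finsupp.single (1 : Fin 3) t = e3 0 t 0 ∧
    Finsupp.single (2 : Fin 3) t = e3 0 0 t := by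
  refine ⟨?_, ?_, ?_⟩ <;> refine Finsupp.ext fun i => ?_ <;> fin_cases i <;> simp [e3, Finsupp.single_apply]

theorem ne_bot_of_three (hI : IsMonomial I) [Module.Finite k (MvPolynomial (Fin 3) k ⧸ I)]
    (a1 a2 b1 b3 c2 c3 : ℕ) (ha1 : 0 < a1) (ha2 : 0 < a2) (hb1 : 0 < b1) (hb3 : 0 < b3)
    (hc2 : 0 < c2) (hc3 : 0 < c3)
    (hA : e3 a1 a2 0 ∈ exps I ∧ e3 (a1 - 1) a2 0 ∉ exps I ∧ e3 a1 (a2 - 1) 0 ∉ exps I)
    (hB : e3 b1 0 b3 ∈ exps I ∧ e3 (b1 - 1) 0 b3 ∉ exps I ∧ e3 b1 0 (b3 - 1) ∉ exps I)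
    (hC : e3 0 c2 c3 ∈ exps I ∧ e3 0 (c2 - 1) c3 ∉ exps I ∧ e3 0 c2 (c3 - 1) ∉ exps I)
    (hcase : (b1 ≤ a1 ∧ c2 ≤ a2) ∨ (a1 ≤ b1 ∧ c3 ≤ b3) ∨ (a2 ≤ c2 ∧ b3 ≤ c3)) :
    sigPiece I ({0, 1} : Set (Fin 3)) ≠ ⊥ ∨ sigPiece I ({0, 2} : Set (Fin 3)) ≠ ⊥ ∨
      sigPiece I ({1, 2} : Set (Fin 3)) ≠ ⊥ := by
  rcases hcase with ⟨h1, h2⟩ | ⟨h1, h2⟩ | ⟨h1, h2⟩
  · refine Or.inl ?_
    obtain ⟨γ, hγ, hs, hx, hy⟩ : ∃ γ, γ ∉ exps I ∧ (∀ l, γ + Finsupp.single l 1 ∈ exps I) ∧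
        γ 0 < a1 ∧ γ 1 < a2 := by
      rcases le_total c3 b3 with h | h
      · obtain ⟨γ, hle, hγ, hs⟩ := exists_socle hI hB.2.1
        have : b3 ≤ γ 2 := hle 2
        refine ⟨γ, hγ, hs, ?_, ?_⟩
        · by_contra hh; exact hγ (mem_exps_of_le hB.1 (le_e3 (by omega) (Nat.zero_le _) (by omega)))
        · by_contra hh; exact hγ (mem_exps_of_le hC.1 (le_e3 (Nat.zero_le _) (by omega) (by omega)))
      · obtain ⟨γ, hle, hγ, hs⟩ := exists_socle hI hC.2.1
        have : c3 ≤ γ 2 := hle 2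
        refine ⟨γ, hγ, hs, ?_, ?_⟩
        · by_contra hh; exact hγ (mem_exps_of_le hB.1 (le_e3 (by omega) (Nat.zero_le _) (by omega)))
        · by_contra hh; exact hγ (mem_exps_of_le hC.1 (le_e3 (Nat.zero_le _) (by omega) (by omega)))
    refine sigPiece_ne_bot (fun i => ?_) (tPiece_ne_bot_of_gen hI hA.1 (fun l hl => ?_) hγ hs)
    · fin_cases i <;> simp [diffDeg, e3] <;> omega
    · fin_cases l
      · exact (e3_sub a1 a2 0).1 ▸ hA.2.1
      · exact (e3_sub a1 a2 0).2.1 ▸ hA.2.2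
      · simp [e3] at hl
  · refine Or.inr (Or.inl ?_)
    obtain ⟨γ, hγ, hs, hx, hz⟩ : ∃ γ, γ ∉ exps I ∧ (∀ l, γ + Finsupp.single l 1 ∈ exps I) ∧
        γ 0 < b1 ∧ γ 2 < b3 := by
      rcases le_total c2 a2 with h | h
      · obtain ⟨γ, hle, hγ, hs⟩ := exists_socle hI hA.2.1
        have : a2 ≤ γ 1 := hle 1
        refine ⟨γ, hγ, hs, ?_, ?_⟩
        · by_contra hh; exact hγ (mem_exps_of_le hA.1 (le_e3 (by omega) (by omega) (Nat.zero_le _)))
        · by_contra hh; exact hγ (mem_exps_of_le hC.1 (le_e3 (Nat.zero_le _) (by omega) (by omega)))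
      · obtain ⟨γ, hle, hγ, hs⟩ := exists_socle hI hC.2.2
        have : c2 ≤ γ 1 := hle 1
        refine ⟨γ, hγ, hs, ?_, ?_⟩
        · by_contra hh; exact hγ (mem_exps_of_le hA.1 (le_e3 (by omega) (by omega) (Nat.zero_le _)))
        · by_contra hh; exact hγ (mem_exps_of_le hC.1 (le_e3 (Nat.zero_le _) (by omega) (by omega)))
    refine sigPiece_ne_bot (fun i => ?_) (tPiece_ne_bot_of_gen hI hB.1 (fun l hl => ?_) hγ hs)
    · fin_cases i <;> simp [diffDeg, e3] <;> omega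
    · fin_cases l
      · exact (e3_sub b1 0 b3).1 ▸ hB.2.1
      · simp [e3] at hl
      · exact (e3_sub b1 0 b3).2.2 ▸ hB.2.2
  · refine Or.inr (Or.inr ?_)
    obtain ⟨γ, hγ, hs, hy, hz⟩ : ∃ γ, γ ∉ exps I ∧ (∀ l, γ + Finsupp.single l 1 ∈ exps I) ∧
        γ 1 < c2 ∧ γ 2 < c3 := by
      rcases le_total b1 a1 with h | h
      · obtain ⟨γ, hle, hγ, hs⟩ := exists_socle hI hA.2.2
        have : a1 ≤ γ 0 := hle 0
        refine ⟨γ, hγ, hs, ?_, ?_⟩
        · by_contra hh; exact hγ (mem_exps_of_le hA.1 (le_e3 (by omega) (by omega) (Nat.zero_le _)))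
        · by_contra hh; exact hγ (mem_exps_of_le hB.1 (le_e3 (by omega) (Nat.zero_le _) (by omega)))
      · obtain ⟨γ, hle, hγ, hs⟩ := exists_socle hI hB.2.2
        have : b1 ≤ γ 0 := hle 0
        refine ⟨γ, hγ, hs, ?_, ?_⟩
        · by_contra hh; exact hγ (mem_exps_of_le hA.1 (le_e3 (by omega) (by omega) (Nat.zero_le _)))
        · by_contra hh; exact hγ (mem_exps_of_le hB.1 (le_e3 (by omega) (Nat.zero_le _) (by omega)))
    refine sigPiece_ne_bot (fun i => ?_) (tPiece_ne_bot_of_gen hI hC.1 (fun l hl => ?_) hγ hs)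
    · fin_cases i <;> simp [diffDeg, e3] <;> omega
    · fin_cases l
      · simp [e3] at hl
      · exact (e3_sub 0 c2 c3).2.1 ▸ hC.2.1
      · exact (e3_sub 0 c2 c3).2.2 ▸ hC.2.2

theorem sigPiece_eq_bot (hI : IsMonomial I) {N : Set (Fin 3)}
    (h : ∀ α : Fin 3 → ℤ, (∀ i, α i < 0 ↔ i ∈ N) → ∀ c ∈ Cf I α, c = 0) : sigPiece I N = ⊥ :=
  le_bot_iff.1 (iSup_le fun α => (tPiece_eq_bot hI α.1 (h α.1 α.2)).le)

/-- S13439. -/
theorem X_zero_mem_iff (hI : IsStronglyStable I) [Module.Finite k (MvPolynomial (Fin 3) k ⧸ I)] :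
    (X 0 : MvPolynomial (Fin 3) k) ∈ I ↔
      (sigPiece I ({1, 2} : Set (Fin 3)) = ⊥ ∧ sigPiece I ({0, 2} : Set (Fin 3)) = ⊥ ∧
        sigPiece I ({0, 1} : Set (Fin 3)) = ⊥) := by
  refine ⟨fun hX => ?_, fun h => ?_⟩
  · have hx : Finsupp.single (0 : Fin 3) 1 ∈ exps I := hX
    refine ⟨sigPiece_eq_bot hI.1 fun α hα c hc => ?_, sigPiece_eq_bot hI.1 fun α hα c hc => ?_,
      sigPiece_eq_bot hI.1 fun α hα c hc => ?_⟩
    · have h0 : 0 ≤ α 0 := not_lt.1 fun h => by simpa using (hα 0).1 h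
      rcases h0.lt_or_eq with hpos | hzero
      · refine funext fun β => hc.1 β fun ho => ho.2 (mem_exps_of_le hx (Finsupp.single_le_iff.2 ?_))
        rw [shift_apply]; omega
      · refine eq_zero_of_nonpos hI.1 (fun i => ?_) ((hα 1).2 (by simp)) ((hα 2).2 (by simp)) (by decide) hc
        fin_cases i
        · exact hzero.symm.le
        · exact ((hα 1).2 (by simp)).le
        · exact ((hα 2).2 (by simp)).le
    · exact eq_zero_of_var_mem hx ((hα 0).2 (by simp)) ((hα 2).2 (by simp)) (by decide) hc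
    · exact eq_zero_of_var_mem hx ((hα 0).2 (by simp)) ((hα 1).2 (by simp)) (by decide) hc
  · obtain ⟨-, -, h01⟩ := h
    by_contra hx
    replace hx : e3 1 0 0 ∉ exps I := fun h => hx (show monomial (Finsupp.single (0 : Fin 3) 1) (1 : k) ∈ I from
      (single_e3 1).1.symm ▸ h)
    have hexy : ∃ t, e3 0 t 0 ∈ exps I := by
      obtain ⟨t, ht⟩ := exists_single_mem hI.1 (1 : Fin 3)
      exact ⟨t, (single_e3 t).2.1 ▸ ht⟩
    have hexz : ∃ t, e3 0 0 t ∈ exps I := by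
      obtain ⟨t, ht⟩ := exists_single_mem hI.1 (2 : Fin 3)
      exact ⟨t, (single_e3 t).2.2 ▸ ht⟩
    have hb := Nat.find_spec hexy
    have hc := Nat.find_spec hexz
    generalize hbdef : Nat.find hexy = b at hb
    generalize hcdef : Nat.find hexz = c at hc
    have hb2 : 2 ≤ b := by
      by_contra h
      have hle := mem_exps_of_le hb (le_e3 (γ := e3 0 1 0) (by simp [e3]) (by simp [e3]; omega) (by simp [e3]))
      have := hI.2 _ hle 0 1 (by decide) (by simp [e3])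
      rw [(e3_sub 0 1 0).2.1, (e3_add 0 (1 - 1) 0).1] at this
      exact hx this
    have hc1 : 1 ≤ c := by
      by_contra h
      exact hx (mem_exps_of_le hc (le_e3 (by simp [e3]) (by simp [e3]) (by simp [e3]; omega)))
    have hb' : e3 1 (b - 1) 0 ∈ exps I := by
      have := hI.2 _ hb 0 1 (by decide) (by simp [e3]; omega)
      rwa [(e3_sub 0 b 0).2.1, (e3_add 0 (b - 1) 0).1] at this
    have hext : ∃ t, e3 1 t 0 ∈ exps I := ⟨_, hb'⟩
    have ht := Nat.find_spec hext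
    generalize htdef : Nat.find hext = t at ht
    have ht1 : 1 ≤ t := by
      by_contra h
      exact hx (by rwa [show t = 0 by omega] at ht)
    have htb : t ≤ b - 1 := htdef ▸ Nat.find_min' hext hb'
    refine sigPiece_ne_bot (I := I) (fun i => ?_) (tPiece_ne_bot_of_gen hI.1 ht (γ := e3 0 0 (c - 1)) (fun l hl => ?_)
      (fun h => Nat.find_min hexz (m := c - 1) (by omega) h) (fun l => ?_)) h01
    · fin_cases i <;> simp [diffDeg, e3] <;> omega
    · fin_cases l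
      · show e3 1 t 0 - Finsupp.single 0 1 ∉ exps I
        rw [(e3_sub 1 t 0).1]
        exact Nat.find_min hexy (m := t) (by omega)
      · show e3 1 t 0 - Finsupp.single 1 1 ∉ exps I
        rw [(e3_sub 1 t 0).2.1]
        exact Nat.find_min hext (m := t - 1) (by omega)
      · simp [e3] at hl
    · have h2 : ∀ i : Fin 3, i < 2 → e3 0 0 (c - 1) + Finsupp.single i 1 ∈ exps I := fun i hi => by
        have := hI.2 _ hc i 2 hi (by simp [e3]; omega)
        rwa [(e3_sub 0 0 c).2.2] at this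
      fin_cases l
      · exact h2 0 (by decide)
      · exact h2 1 (by decide)
      · show e3 0 0 (c - 1) + Finsupp.single 2 1 ∈ exps I
        rwa [(e3_add 0 0 (c - 1)).2.2, Nat.sub_add_cancel hc1]

end Groth.Agent.HilbPt29
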