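import Groth.Agent.Lib.HilbPt29.Pow

/-!
# Degree zero homomorphisms from components of generators
-/

set_option autoImplicit false
set_option maxHeartbeats 400000
universe u

open MvPolynomial W4c1hilbpn
open scoped Classical

noncomputable section

namespace Groth.Agent.HilbPt29

variable {σ : Type} [Fintype σ] {k : Type u} [Field k] {I : Ideal (MvPolynomial σ k)}
  {G : Set (σ →₀ ℕ)} (hG : ∀ β, β ∈ exps I ↔ ∃ g ∈ G, g ≤ β)

include hG in
theorem gen_mem {g : σ →₀ ℕ} (h : g ∈ G) : g ∈ exps I := (hG g).2 ⟨g, h, le_rfl⟩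

theorem isMonomial_span (G : Set (σ →₀ ℕ)) :
    IsMonomial (Ideal.span ((fun β => monomial β (1 : k)) '' G)) ∧
      ∀ β, β ∈ exps (Ideal.span ((fun β => monomial β (1 : k)) '' G)) ↔ ∃ g ∈ G, g ≤ β := by
  have h : ∀ β, β ∈ exps (Ideal.span ((fun β => monomial β (1 : k)) '' G)) ↔ ∃ g ∈ G, g ≤ β := fun β => by
    show monomial β (1 : k) ∈ Ideal.span _ ↔ _
    rw [mem_ideal_span_monomial_image]
    simp [support_monomial]
  refine ⟨fun p hp β hβ => ?_, h⟩
  rw [mem_ideal_span_monomial_image] at hp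
  exact (h β).2 (hp β hβ)

include hG in
/-- A closed set of generators gives coefficients. -/
theorem exists_cf {α : σ → ℤ} (S : Set (σ →₀ ℕ)) (hS : ∀ g ∈ S, g ∈ G ∧ Out I α g)
    (hcl : ∀ g ∈ S, ∀ g' ∈ G, Out I α (g ⊔ g') → g' ∈ S) :
    ∃ c ∈ Cf I α, ∀ g (hg : g ∈ G),
      (g ∈ S → c ⟨g, gen_mem hG hg⟩ = (1 : k)) ∧ (g ∉ S → c ⟨g, gen_mem hG hg⟩ = 0) := by
  let c : exps I → k := fun β => if Out I α β.1 ∧ ∃ g ∈ S, g ≤ β.1 then 1 else 0
  refine ⟨c, ⟨fun β h => if_neg fun h' => h h'.1, fun β i hi => ?_⟩, fun g hg => ⟨fun h => ?_, fun h => ?_⟩⟩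
  · obtain ⟨g', hg', hle'⟩ := (hG β.1).1 β.2
    show (if _ then _ else _) = (if _ then _ else _)
    by_cases hex : ∃ g ∈ S, g ≤ β.1 + Finsupp.single i 1
    · obtain ⟨g, hg, hle⟩ := hex
      have hsup : g ⊔ g' ≤ β.1 + Finsupp.single i 1 := sup_le hle (hle'.trans le_self_add)
      obtain ⟨δ, hδ⟩ := exists_add_of_le (le_sup_left : g ≤ g ⊔ g')
      have hn : ∀ j, 0 ≤ ((g ⊔ g') j : ℤ) + α j := hδ ▸ Out.nonneg_add (hS g hg).2.1 δ
      obtain ⟨ε, hε⟩ := exists_add_of_le hsup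
      have hL : Out I α (g ⊔ g') := ⟨hn, fun he => hi.2 (by
        rw [hε, shift_add hn]; exact mem_exps_of_le he le_self_add)⟩
      have hg'S := hcl g hg g' hg' hL
      have hβ : Out I α β.1 := by
        obtain ⟨δ', hδ'⟩ := exists_add_of_le hle'
        have hn' : ∀ j, 0 ≤ (β.1 j : ℤ) + α j := hδ' ▸ Out.nonneg_add (hS g' hg'S).2.1 δ'
        refine ⟨hn', fun he => hi.2 ?_⟩
        rw [shift_add hn']
        exact mem_exps_of_le he le_self_add
      rw [if_pos ⟨hi, g, hg, hle⟩, if_pos ⟨hβ, g', hg'S, hle'⟩]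
    · rw [if_neg fun h => hex h.2, if_neg fun ⟨_, g, hg, hle⟩ => hex ⟨g, hg, hle.trans le_self_add⟩]
  · exact if_pos ⟨(hS g h).2, g, h, le_rfl⟩
  · refine if_neg fun ⟨ho, g', hg', hle⟩ => h (hcl g' hg' g hg ?_)
    rwa [sup_of_le_right hle]

include hG in
/-- Coefficients at two linked generators agree. -/
theorem Cf.eq_of_link {α : σ → ℤ} {c : exps I → k} (hc : c ∈ Cf I α) {g g' : σ →₀ ℕ} (hg : g ∈ G)
    (hg' : g' ∈ G) (ho : Out I α g) (hL : Out I α (g ⊔ g')) :
    c ⟨g, gen_mem hG hg⟩ = c ⟨g', gen_mem hG hg'⟩ := by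
  have key : ∀ (b : exps I) (δ : σ →₀ ℕ), Out I α (b.1 + δ) →
      c ⟨b.1 + δ, mem_exps_of_le b.2 le_self_add⟩ = c b := by
    intro b δ
    induction δ using Finsupp.induction with
    | zero => intro _; exact congrArg c (Subtype.ext (add_zero b.1))
    | single_add i m δ hm1 hm2 ih =>
      clear hm1 hm2
      induction m with
      | zero => intro h; simp only [Finsupp.single_zero, zero_add] at h ⊢; exact ih h
      | succ m ihm =>
        intro h
        have e : b.1 + (Finsupp.single i (m + 1) + δ) = b.1 + (Finsupp.single i m + δ) + Finsupp.single i 1 := by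
          rw [Finsupp.single_add]; abel
        simp only [e] at h ⊢
        rw [hc.2 ⟨_, mem_exps_of_le b.2 le_self_add⟩ i h]
        by_cases ho : Out I α (b.1 + (Finsupp.single i m + δ))
        · exact ihm ho
        · rw [hc.1 _ ho, hc.1 b fun hb => ho ⟨Out.nonneg_add hb.1 _, fun he => h.2 (by
            rw [shift_add (Out.nonneg_add hb.1 _)]; exact mem_exps_of_le he le_self_add)⟩]
  obtain ⟨δ, hδ⟩ := exists_add_of_le (le_sup_left : g ≤ g ⊔ g')
  obtain ⟨δ', hδ'⟩ := exists_add_of_le (le_sup_right : g' ≤ g ⊔ g')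
  rw [← key ⟨g, gen_mem hG hg⟩ δ (hδ ▸ hL), ← key ⟨g', gen_mem hG hg'⟩ δ' (hδ' ▸ hL)]
  exact congrArg c (Subtype.ext (hδ.symm.trans hδ'))

include hG in
/-- Dimension count by representatives. -/
theorem finrank_hom0_eq_card (hI : IsMonomial I) {ι : Type} [Fintype ι] (g : ι → σ →₀ ℕ)
    (hg : ∀ i, g i ∈ G) (a : ι → σ → ℤ) (ha : ∀ i, ∑ l, a i l = 0)
    (h1 : ∀ (α : σ → ℤ), ∑ l, α l = 0 → ∀ (c : exps I → k), c ∈ Cf I α →
      (∀ i, a i = α → c ⟨g i, gen_mem hG (hg i)⟩ = 0) → ∀ h (hh : h ∈ G), c ⟨h, gen_mem hG hh⟩ = 0)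
    (h2 : ∀ i, ∃ c ∈ Cf I (a i), ∀ j, a j = a i → c ⟨g j, gen_mem hG (hg j)⟩ = if j = i then (1 : k) else 0) :
    Module.finrank k ↥(⨆ α : {α : σ → ℤ // ∑ l, α l = 0}, tPiece I α.1) = Fintype.card ι := by
  have main : ∀ α : σ → ℤ, ∑ l, α l = 0 → Module.Finite k (tPiece I α) ∧
      Module.finrank k (tPiece I α) = Fintype.card {i // a i = α} := by
    intro α hα
    let L : Cf I α →ₗ[k] ({i // a i = α} → k) :=
      { toFun := fun c i => c.1 ⟨g i.1, gen_mem hG (hg i.1)⟩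
        map_add' := fun _ _ => rfl
        map_smul' := fun _ _ => rfl }
    have hinj : Function.Injective L := by
      rw [injective_iff_map_eq_zero]
      intro c hc0
      refine Subtype.ext (funext fun β => ?_)
      show c.1 β = 0
      by_contra hne
      obtain ⟨h, hh, hle⟩ := (hG β.1).1 β.2
      refine Cf.eq_of_le c.2 (β.1 - h) ⟨h, gen_mem hG hh⟩
        (by simpa only [add_tsub_cancel_of_le hle] using hne) ?_
      exact h1 α hα c.1 c.2 (fun i hi => congrFun hc0 ⟨i, hi⟩) h hh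
    have hsurj : Function.Surjective L := by
      intro f
      choose c hc hcv using h2
      refine ⟨∑ i : {i // a i = α}, f i • ⟨c i.1, by have h := hc i.1; rwa [i.2] at h⟩, funext fun j => ?_⟩
      rw [map_sum, Finset.sum_apply, Finset.sum_eq_single j]
      · show f j • c j.1 ⟨g j.1, _⟩ = f j
        rw [hcv j.1 j.1 rfl, if_pos rfl, smul_eq_mul, mul_one]
      · intro i _ hij
        show f i • c i.1 ⟨g j.1, _⟩ = 0
        rw [hcv i.1 j.1 (j.2.trans i.2.symm), if_neg fun e => hij (Subtype.ext e.symm), smul_zero]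
      · intro h; exact absurd (Finset.mem_univ _) h
    let e := (pieceEquiv hI α).trans (LinearEquiv.ofBijective L ⟨hinj, hsurj⟩)
    exact ⟨Module.Finite.equiv e.symm, e.finrank_eq.trans (Module.finrank_fintype_fun_eq_card k)⟩
  rw [finrank_iSup_tPiece hI (fun α : {α : σ → ℤ // ∑ l, α l = 0} => α.1) (Finset.univ.image a)]
  · rw [Finset.sum_congr rfl fun α hα => ?_]
    · exact (Finset.card_eq_sum_card_image a Finset.univ).symm.trans Finset.card_univ
    · obtain ⟨i, -, rfl⟩ := Finset.mem_image.1 hα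
      rw [(main _ (ha i)).2, Fintype.card_subtype]
  · intro α hne
    by_contra hn
    haveI := (main α.1 α.2).1
    refine hne (Submodule.finrank_eq_zero.1 ?_)
    rw [(main α.1 α.2).2, Fintype.card_eq_zero_iff]
    exact ⟨fun i => hn (Finset.mem_image.2 ⟨i.1, Finset.mem_univ _, i.2⟩)⟩
  · intro α hα
    obtain ⟨i, -, rfl⟩ := Finset.mem_image.1 hα
    exact ⟨⟨a i, ha i⟩, rfl⟩
  · intro α hα
    obtain ⟨i, -, rfl⟩ := Finset.mem_image.1 hα
    exact (main _ (ha i)).1

end Groth.Agent.HilbPt29
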