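import Groth.Agent.Lib.HilbPt29.Pow
import Mathlib.RingTheory.MvPolynomial.Ideal

/-!
# Degree zero tangent space at two transversal coordinate planes
-/

set_option autoImplicit false
set_option maxHeartbeats 400000
universe u

open MvPolynomial W4c1hilbpn
open scoped Classical

noncomputable section

namespace Groth.Agent.HilbPt29

section general

variable {σ : Type} [Fintype σ] {k : Type u} [Field k] {I : Ideal (MvPolynomial σ k)}
  (P Q : Finset σ)

/-- `β` meets `P`. -/
def Meets (β : σ →₀ ℕ) : Prop := ∃ i ∈ P, 1 ≤ β i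

/-- The two transversal planes. -/
def IsPlanes (I : Ideal (MvPolynomial σ k)) : Prop :=
  IsMonomial I ∧ Disjoint P Q ∧ 2 ≤ P.card ∧ 2 ≤ Q.card ∧ ∀ β, β ∈ exps I ↔ Meets P β ∧ Meets Q β

/-- Unit translation from `q` to `m`. -/
def mv (q m : σ) : σ → ℤ := Pi.single m 1 - Pi.single q 1

variable {P Q}

theorem IsPlanes.symm (h : IsPlanes P Q I) : IsPlanes Q P I :=
  ⟨h.1, h.2.1.symm, h.2.2.2.1, h.2.2.1, fun β => (h.2.2.2.2 β).trans And.comm⟩

theorem IsPlanes.gen (h : IsPlanes P Q I) {a b : σ} (ha : a ∈ P) (hb : b ∈ Q) :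
    Finsupp.single a 1 + Finsupp.single b 1 ∈ exps I :=
  (h.2.2.2.2 _).2 ⟨⟨a, ha, by simp⟩, ⟨b, hb, by simp⟩⟩

theorem IsPlanes.ne (h : IsPlanes P Q I) {a b : σ} (ha : a ∈ P) (hb : b ∈ Q) : a ≠ b :=
  fun e => Finset.disjoint_left.1 h.2.1 ha (e ▸ hb)

theorem IsPlanes.exists_gen (h : IsPlanes P Q I) {α : σ → ℤ} {c : exps I → k} (hc : c ∈ Cf I α)
    {β : exps I} (hne : c β ≠ 0) : ∃ (a : σ) (b : σ) (ha : a ∈ P) (hb : b ∈ Q),
      c ⟨_, h.gen ha hb⟩ ≠ 0 ∧ Finsupp.single a 1 + Finsupp.single b 1 ≤ β.1 := by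
  obtain ⟨⟨a, ha, ha1⟩, ⟨b, hb, hb1⟩⟩ := (h.2.2.2.2 β.1).1 β.2
  have hle : Finsupp.single a 1 + Finsupp.single b 1 ≤ β.1 := fun i => by
    by_cases hia : i = a
    · subst hia; simp [Finsupp.single_eq_of_ne (h.ne ha hb)]; omega
    · by_cases hib : i = b
      · subst hib; simp [Finsupp.single_eq_of_ne hia]; omega
      · simp [Finsupp.single_eq_of_ne hia, Finsupp.single_eq_of_ne hib]
  refine ⟨a, b, ha, hb, Cf.eq_of_le hc (β.1 - (Finsupp.single a 1 + Finsupp.single b 1)) ⟨_, h.gen ha hb⟩ ?_, hle⟩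
  simpa only [add_tsub_cancel_of_le hle] using hne

theorem IsPlanes.eq_zero_of_misses (h : IsPlanes P Q I) {α : σ → ℤ} {c : exps I → k} (hc : c ∈ Cf I α)
    {a b : σ} (ha : a ∈ P) (hb : b ∈ Q)
    (ho : Out I α (Finsupp.single a 1 + Finsupp.single b 1))
    (hQ : ∀ q ∈ Q, shift (Finsupp.single a 1 + Finsupp.single b 1) α q = 0)
    (haz : shift (Finsupp.single a 1 + Finsupp.single b 1) α a = 0) :
    c ⟨_, h.gen ha hb⟩ = 0 := by
  obtain ⟨a', ha', hne⟩ := Finset.exists_mem_ne h.2.2.1 a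
  let g := Finsupp.single a 1 + Finsupp.single b 1
  let g' := Finsupp.single a' 1 + Finsupp.single b 1
  have ho1 : Out I α (g + Finsupp.single a' 1) := by
    refine ⟨Out.nonneg_add ho.1 _, fun he => ?_⟩
    obtain ⟨q, hq, hq1⟩ := ((h.2.2.2.2 _).1 he).2
    rw [shift_add ho.1, Finsupp.add_apply, hQ q hq, Finsupp.single_eq_of_ne (h.ne ha' hq).symm] at hq1
    omega
  have e : g + Finsupp.single a' 1 = g' + Finsupp.single a 1 := by simp only [g, g']; abel
  have h1 := hc.2 ⟨g, h.gen ha hb⟩ a' ho1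
  have h2 := hc.2 ⟨g', h.gen ha' hb⟩ a (e ▸ ho1)
  show c ⟨g, h.gen ha hb⟩ = 0
  rw [← h1]
  simp only [e]
  rw [h2]
  refine hc.1 _ fun ho2 => ?_
  have h3 := ho2.1 a
  have h4 := ho.1 a
  rw [shift_apply] at haz
  simp [g', Finsupp.single_eq_of_ne hne.symm, Finsupp.single_eq_of_ne (h.ne ha hb)] at h3 h4 haz
  omega

theorem IsPlanes.cases (h : IsPlanes P Q I) {α : σ → ℤ} (hsum : ∑ i, α i = 0) {c : exps I → k}
    (hc : c ∈ Cf I α) (hne : c ≠ 0) :
    (∃ q ∈ Q, ∃ m ∈ Qᶜ, α = mv q m) ∨ (∃ q ∈ P, ∃ m ∈ Pᶜ, α = mv q m) := by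
  obtain ⟨β, hβ⟩ := Function.ne_iff.1 hne
  obtain ⟨a, b, ha, hb, hg, -⟩ := h.exists_gen hc hβ
  let g := Finsupp.single a 1 + Finsupp.single b 1
  have ho : Out I α g := by_contra fun hn => hg (hc.1 _ hn)
  have hab := h.ne ha hb
  let γ := shift g α
  have hγ : ∀ i, (γ i : ℤ) = (g i : ℤ) + α i := fun i => shift_cast ho.1 i
  have hdeg : γ.degree = 2 := by
    have : (γ.degree : ℤ) = 2 := by
      simp only [Finsupp.degree_eq_sum, Nat.cast_sum, hγ, Finset.sum_add_distrib, hsum, add_zero]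
      rw [← Nat.cast_sum, ← Finsupp.degree_eq_sum]
      simp [g, Finsupp.degree_single]
    exact_mod_cast this
  have key : ∀ (x y : σ), x ≠ y → g = Finsupp.single x 1 + Finsupp.single y 1 → 1 ≤ γ x →
      ∃ m, γ = Finsupp.single x 1 + Finsupp.single m 1 ∧ α = mv y m := by
    intro x y hxy hg' hx1
    have hle : Finsupp.single x 1 ≤ γ := Finsupp.single_le_iff.2 hx1
    have hd1 : (γ - Finsupp.single x 1).degree = 1 := by
      have := congrArg Finsupp.degree (tsub_add_cancel_of_le hle)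
      rw [map_add, Finsupp.degree_single, hdeg] at this
      omega
    obtain ⟨m, hm⟩ : ∃ m, Finsupp.single m 1 = γ - Finsupp.single x 1 := by
      obtain ⟨m, hm⟩ := Finsupp.ne_iff.1 (fun h0 : γ - Finsupp.single x 1 = 0 => by simp [h0] at hd1)
      have hle' : Finsupp.single m 1 ≤ γ - Finsupp.single x 1 :=
        Finsupp.single_le_iff.2 (Nat.one_le_iff_ne_zero.2 (by simpa using hm))
      have hd := congrArg Finsupp.degree (tsub_add_cancel_of_le hle')
      rw [map_add, Finsupp.degree_single, hd1] at hd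
      have h0 := (Finsupp.degree_eq_zero_iff _).1 (show (γ - Finsupp.single x 1 - Finsupp.single m 1).degree = 0 by omega)
      exact ⟨m, le_antisymm hle' (tsub_eq_zero_iff_le.1 h0)⟩
    have hγ' : γ = Finsupp.single x 1 + Finsupp.single m 1 := by
      rw [← tsub_add_cancel_of_le hle, ← hm, add_comm]
    refine ⟨m, hγ', funext fun i => ?_⟩
    have := hγ i
    rw [hg', hγ'] at this
    simp [mv, Finsupp.single_apply, Pi.single_apply, eq_comm] at this ⊢
    split_ifs at * <;> omega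
  by_cases hga : 1 ≤ γ a
  · obtain ⟨m, hm, hα⟩ := key a b hab rfl hga
    refine Or.inl ⟨b, hb, m, Finset.mem_compl.2 fun hmQ => ho.2 ?_, hα⟩
    rw [show shift g α = γ from rfl, hm]
    exact h.gen ha hmQ
  by_cases hgb : 1 ≤ γ b
  · obtain ⟨m, hm, hα⟩ := key b a hab.symm (add_comm _ _) hgb
    refine Or.inr ⟨a, ha, m, Finset.mem_compl.2 fun hmP => ho.2 ?_, hα⟩
    rw [show shift g α = γ from rfl, hm, add_comm]
    exact h.gen hmP hb
  exfalso
  have hnot : ¬ Meets P γ ∨ ¬ Meets Q γ := not_and_or.1 fun hh => ho.2 ((h.2.2.2.2 _).2 hh)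
  rcases hnot with hP | hQ
  · refine hg ?_
    have := h.symm.eq_zero_of_misses hc hb ha (by rw [add_comm]; exact ho)
      (fun q hq => by rw [add_comm]; by_contra hh; exact hP ⟨q, hq, Nat.one_le_iff_ne_zero.2 hh⟩)
      (by rw [add_comm]; show γ b = 0; omega)
    convert this using 2
    exact Subtype.ext (add_comm _ _)
  · exact hg (h.eq_zero_of_misses hc ha hb ho
      (fun q hq => by by_contra hh; exact hQ ⟨q, hq, Nat.one_le_iff_ne_zero.2 hh⟩)
      (by show γ a = 0; omega))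

theorem IsPlanes.finrank_cf (h : IsPlanes P Q I) {q m : σ} (hq : q ∈ Q) (hm : m ∈ Qᶜ) :
    Module.Finite k (Cf I (mv q m)) ∧ Module.finrank k (Cf I (mv q m)) = 1 := by
  have hmq : m ≠ q := fun e => Finset.mem_compl.1 hm (e ▸ hq)
  obtain ⟨a0, ha0⟩ := Finset.card_pos.1 (lt_of_lt_of_le (by norm_num) h.2.2.1 : 0 < P.card)
  have hout : ∀ a ∈ P, Out I (mv q m) (Finsupp.single a 1 + Finsupp.single q 1) ∧
      shift (Finsupp.single a 1 + Finsupp.single q 1) (mv q m) = Finsupp.single a 1 + Finsupp.single m 1 := by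
    intro a ha
    have hn : ∀ i, 0 ≤ (((Finsupp.single a 1 + Finsupp.single q 1 : σ →₀ ℕ) i : ℕ) : ℤ) + mv q m i := fun i => by
      simp [mv, Finsupp.single_apply, Pi.single_apply, eq_comm]
      split_ifs <;> omega
    have hs : shift (Finsupp.single a 1 + Finsupp.single q 1) (mv q m) = Finsupp.single a 1 + Finsupp.single m 1 := by
      refine Finsupp.ext fun i => ?_
      rw [shift_apply]
      simp [mv, Finsupp.single_apply, Pi.single_apply, eq_comm]
      split_ifs <;> omega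
    refine ⟨⟨hn, fun he => ?_⟩, hs⟩
    rw [hs] at he
    obtain ⟨r, hr, hr1⟩ := ((h.2.2.2.2 _).1 he).2
    rw [Finsupp.add_apply, Finsupp.single_eq_of_ne (h.ne ha hr).symm,
      Finsupp.single_eq_of_ne (fun e : r = m => Finset.mem_compl.1 hm (e ▸ hr))] at hr1
    omega
  let L : Cf I (mv q m) →ₗ[k] k :=
    { toFun := fun c => c.1 ⟨_, h.gen ha0 hq⟩, map_add' := fun _ _ => rfl, map_smul' := fun _ _ => rfl }
  have hinj : Function.Injective L := by
    rw [injective_iff_map_eq_zero]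
    intro c hc0
    replace hc0 : c.1 ⟨_, h.gen ha0 hq⟩ = 0 := hc0
    refine Subtype.ext (funext fun β => ?_)
    show c.1 β = 0
    by_contra hne
    obtain ⟨a, b, ha, hb, hg, -⟩ := h.exists_gen c.2 hne
    have ho : Out I (mv q m) (Finsupp.single a 1 + Finsupp.single b 1) := by_contra fun hn => hg (c.2.1 _ hn)
    obtain rfl : b = q := by
      by_contra hbq
      have := ho.1 q
      simp [mv, Finsupp.single_eq_of_ne (h.ne ha hq).symm, Finsupp.single_eq_of_ne (Ne.symm hbq),
        Pi.single_eq_of_ne hmq.symm] at this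
    rcases eq_or_ne a a0 with rfl | haa
    · exact hg hc0
    have ho1 : Out I (mv b m) (Finsupp.single a 1 + Finsupp.single b 1 + Finsupp.single a0 1) := by
      refine ⟨Out.nonneg_add ho.1 _, fun he => ?_⟩
      rw [shift_add ho.1, (hout a ha).2] at he
      obtain ⟨r, hr, hr1⟩ := ((h.2.2.2.2 _).1 he).2
      simp only [Finsupp.add_apply, Finsupp.single_eq_of_ne (h.ne ha hr).symm,
        Finsupp.single_eq_of_ne (h.ne ha0 hr).symm,
        Finsupp.single_eq_of_ne (fun e : r = m => Finset.mem_compl.1 hm (e ▸ hr))] at hr1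
      omega
    have e : Finsupp.single a 1 + Finsupp.single b 1 + Finsupp.single a0 1 =
        Finsupp.single a0 1 + Finsupp.single b 1 + Finsupp.single a 1 := by abel
    have h1 := c.2.2 ⟨_, h.gen ha hb⟩ a0 ho1
    have h2 := c.2.2 ⟨_, h.gen ha0 hb⟩ a (e ▸ ho1)
    refine hg ?_
    rw [← h1]
    simp only [e]
    rw [h2, hc0]
  have hsurj : Function.Surjective L := fun r => by
    refine ⟨⟨fun β => if Out I (mv q m) β.1 then r else 0, fun β hn => if_neg hn, fun β i hi => ?_⟩, ?_⟩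
    · show (if _ then r else 0) = (if _ then r else 0)
      rw [if_pos hi]
      by_cases hb : Out I (mv q m) β.1
      · rw [if_pos hb]
      · exfalso
        by_cases hn : ∀ j, 0 ≤ (β.1 j : ℤ) + mv q m j
        · refine hi.2 ?_
          rw [shift_add hn]
          exact mem_exps_of_le (not_not.1 fun hh => hb ⟨hn, hh⟩) le_self_add
        · simp only [not_forall, not_le] at hn
          obtain ⟨j, hj⟩ := hn
          have hji : j = q := by
            by_contra hjq
            simp [mv, Pi.single_apply, hjq] at hj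
            split_ifs at hj <;> omega
          subst hji
          refine hi.2 (mem_exps_of_le β.2 fun l => ?_)
          have h1 := hi.1 l
          have h2 := hi.1 j
          rw [shift_apply]
          simp [mv, Finsupp.single_apply, Pi.single_apply, eq_comm] at h1 h2 hj ⊢
          split_ifs at * <;> subst_vars <;> omega
    · show (if _ then r else 0) = r
      rw [if_pos (hout a0 ha0).1]
  exact ⟨Module.Finite.equiv (LinearEquiv.ofBijective L ⟨hinj, hsurj⟩).symm,
    (LinearEquiv.ofBijective L ⟨hinj, hsurj⟩).finrank_eq.trans (Module.finrank_self k)⟩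

theorem mv_inj {q m q' m' : σ} (h : q ≠ m) (he : mv q m = mv q' m') : q = q' ∧ m = m' := by
  have h1 := congrFun he q
  have h2 := congrFun he m
  simp [mv, Pi.single_apply, h, h.symm] at h1 h2
  constructor
  · split_ifs at h1 <;> subst_vars <;> first | rfl | omega
  · split_ifs at h2 <;> subst_vars <;> first | rfl | omega

/-- Degree zero tangent space dimension. -/
theorem IsPlanes.finrank_hom0 (h : IsPlanes P Q I) :
    Module.finrank k ↥(⨆ α : {α : σ → ℤ // ∑ i, α i = 0}, tPiece I α.1) =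
      P.card * (Fintype.card σ - P.card) + Q.card * (Fintype.card σ - Q.card) := by
  let T : Finset σ → Finset (σ → ℤ) := fun R => (R ×ˢ Rᶜ).image fun p => mv p.1 p.2
  have hT : ∀ {R : Finset σ} {α : σ → ℤ}, α ∈ T R ↔ ∃ q ∈ R, ∃ m ∈ Rᶜ, α = mv q m := by
    intro R α
    simp [T, Finset.mem_image, eq_comm, and_assoc]
  have hdim : ∀ {R R' : Finset σ}, IsPlanes R' R I → ∀ α ∈ T R,
      Module.Finite k (tPiece I α) ∧ Module.finrank k (tPiece I α) = 1 := by
    intro R R' hR α hα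
    obtain ⟨q, hq, m, hm, rfl⟩ := hT.1 hα
    obtain ⟨h1, h2⟩ := hR.finrank_cf hq hm
    exact ⟨Module.Finite.equiv (pieceEquiv h.1 _).symm, (pieceEquiv h.1 _).finrank_eq.trans h2⟩
  have hcard : ∀ R : Finset σ, (T R).card = R.card * Rᶜ.card := by
    intro R
    rw [Finset.card_image_of_injOn, Finset.card_product]
    rintro ⟨q, m⟩ hp ⟨q', m'⟩ - he
    simp only [Finset.coe_product, Set.mem_prod, Finset.mem_coe, Finset.mem_compl] at hp
    obtain ⟨rfl, rfl⟩ := mv_inj (fun e : q = m => hp.2 (e ▸ hp.1)) he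
    rfl
  rw [finrank_iSup_tPiece h.1 (fun a : {α : σ → ℤ // ∑ i, α i = 0} => a.1) (T Q ∪ T P)]
  · rw [Finset.sum_union, Finset.sum_congr rfl fun a ha => (hdim h a ha).2,
      Finset.sum_congr rfl fun a ha => (hdim h.symm a ha).2]
    · simp only [Finset.sum_const, smul_eq_mul, mul_one, hcard, Finset.card_compl]; ring
    · refine Finset.disjoint_left.2 fun a ha hb => ?_
      obtain ⟨q, hq, m, hm, rfl⟩ := hT.1 ha
      obtain ⟨q', hq', m', hm', he⟩ := hT.1 hb
      obtain ⟨rfl, -⟩ := mv_inj (fun e : q = m => Finset.mem_compl.1 hm (e ▸ hq)) he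
      exact h.ne hq' hq rfl
  · intro a ha
    obtain ⟨c, hc, hne⟩ : ∃ c ∈ Cf I a.1, c ≠ 0 := by
      by_contra hh
      simp only [not_exists, not_and, not_not] at hh
      exact ha (tPiece_eq_bot h.1 _ hh)
    rw [Finset.mem_union]
    exact (h.cases a.2 hc hne).imp hT.2 hT.2
  · intro a ha
    refine ⟨⟨a, ?_⟩, rfl⟩
    rcases Finset.mem_union.1 ha with hh | hh <;> obtain ⟨q, -, m, -, rfl⟩ := hT.1 hh <;>
      simp [mv, Finset.sum_sub_distrib, Fintype.sum_pi_single']
  · intro a ha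
    rcases Finset.mem_union.1 ha with hh | hh
    · exact (hdim h a hh).1
    · exact (hdim h.symm a hh).1

end general

/-- S13451. -/
theorem finrank_hom0_two_planes (k : Type u) [Field k] (n c d : ℕ) (hc : 2 ≤ c) (hcd : c ≤ d) (hn : c + d ≤ n) :
    Module.finrank k ↥(⨆ α : {α : Fin (n + 1) → ℤ // ∑ i, α i = 0},
      tPiece (Ideal.span {f : MvPolynomial (Fin (n + 1)) k | ∃ i j : Fin (n + 1), i.val + 1 ≤ c ∧ n + 1 ≤ j.val + d ∧
        f = MvPolynomial.X i * MvPolynomial.X j}) α.1) = c * (n - c + 1) + d * (n - d + 1) := by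
  set I := Ideal.span {f : MvPolynomial (Fin (n + 1)) k | ∃ i j : Fin (n + 1), i.val + 1 ≤ c ∧ n + 1 ≤ j.val + d ∧
        f = MvPolynomial.X i * MvPolynomial.X j} with hIdef
  let P : Finset (Fin (n + 1)) := Finset.univ.filter fun i => i.val + 1 ≤ c
  let Q : Finset (Fin (n + 1)) := Finset.univ.filter fun j => n + 1 ≤ j.val + d
  have hP : P.card = c := by
    have : P = (Finset.univ : Finset (Fin c)).map (Fin.castLEEmb (by omega)) := by
      refine Finset.ext fun i => ?_
      simp only [P, Finset.mem_filter, Finset.mem_univ, true_and, Finset.mem_map]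
      exact ⟨fun hi => ⟨⟨i.val, by omega⟩, Fin.ext rfl⟩, fun ⟨j, hj⟩ => by subst hj; simp⟩
    rw [this, Finset.card_map, Finset.card_univ, Fintype.card_fin]
  have hQ : Q.card = d := by
    refine (Finset.card_bij' (t := (Finset.range d)) (fun j _ => j.val + d - (n + 1))
      (fun x hx => ⟨x + (n + 1) - d, by simp at hx; omega⟩) (fun j hj => ?_) (fun x hx => ?_)
      (fun j hj => ?_) (fun x hx => ?_)).trans (Finset.card_range d)
    · simp [Q] at hj ⊢; omega
    · simp [Q] at hx ⊢; omega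
    · simp [Q] at hj; exact Fin.ext (by simp; omega)
    · simp at hx ⊢; omega
  let S0 : Set (Fin (n + 1) →₀ ℕ) := {β | ∃ i ∈ P, ∃ j ∈ Q, β = Finsupp.single i 1 + Finsupp.single j 1}
  have hspan : I = Ideal.span ((fun β => monomial β (1 : k)) '' S0) := by
    rw [hIdef]; congr 1; ext f
    constructor
    · rintro ⟨i, j, hi, hj, rfl⟩
      exact ⟨_, ⟨i, by simpa [P] using hi, j, by simpa [Q] using hj, rfl⟩, by simp [X, monomial_mul]⟩
    · rintro ⟨_, ⟨i, hi, j, hj, rfl⟩, rfl⟩
      exact ⟨i, j, by simpa [P] using hi, by simpa [Q] using hj, by simp [X, monomial_mul]⟩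
  have hexps : ∀ β, β ∈ exps I ↔ ∃ s ∈ S0, s ≤ β := fun β => by
    show monomial β (1 : k) ∈ I ↔ _
    rw [hspan, mem_ideal_span_monomial_image]
    simp [support_monomial]
  have hmono : IsMonomial I := fun p hp β hβ => by
    rw [hspan, mem_ideal_span_monomial_image] at hp
    exact (hexps β).2 (hp β hβ)
  have hdisj : Disjoint P Q := Finset.disjoint_left.2 fun i hi hj => by simp [P, Q] at hi hj; omega
  have h : IsPlanes P Q I := by
    refine ⟨hmono, hdisj, by omega, by omega, fun β => (hexps β).trans ⟨?_, ?_⟩⟩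
    · rintro ⟨_, ⟨i, hi, j, hj, rfl⟩, hle⟩
      exact ⟨⟨i, hi, le_trans (by simp) (hle i)⟩, ⟨j, hj, le_trans (by simp) (hle j)⟩⟩
    · rintro ⟨⟨i, hi, h1⟩, ⟨j, hj, h2⟩⟩
      refine ⟨_, ⟨i, hi, j, hj, rfl⟩, fun l => ?_⟩
      have hij : i ≠ j := fun e => Finset.disjoint_left.1 hdisj hi (e ▸ hj)
      simp [Finsupp.single_apply]
      split_ifs <;> subst_vars <;> omega
  rw [h.finrank_hom0, hP, hQ, Fintype.card_fin]
  rw [show n + 1 - c = n - c + 1 by omega, show n + 1 - d = n - d + 1 by omega]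

end Groth.Agent.HilbPt29
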