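import Groth.Agent.Lib.HilbPt29.Hom0
import Groth.Agent.Lib.HilbPt29.Gens
import Groth.Agent.Lib.HilbPt29.Planes

/-!
# Degree zero tangent space at the ideal `(x_p, x_q)(all variables but x_N)`
-/

set_option autoImplicit false
set_option maxHeartbeats 400000
universe u

open MvPolynomial W4c1hilbpn
open scoped Classical

noncomputable section

namespace Groth.Agent.HilbPt29.N11

variable {σ : Type} [Fintype σ] {k : Type u} [Field k] (p q N j0 : σ)

/-- Generators. -/
def Gen : Set (σ →₀ ℕ) :=
  {β | ∃ x y, (x = p ∨ x = q) ∧ y ≠ N ∧ β = Finsupp.single x 1 + Finsupp.single y 1}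

/-- Entries away from `N`. -/
def low (β : σ →₀ ℕ) : ℕ := ∑ i ∈ Finset.univ.erase N, β i

theorem le_low {β : σ →₀ ℕ} {i : σ} (h : i ≠ N) : β i ≤ low N β :=
  Finset.single_le_sum (fun l _ => Nat.zero_le (β l)) (Finset.mem_erase.2 ⟨h, Finset.mem_univ i⟩)

theorem low_mono {β γ : σ →₀ ℕ} (h : β ≤ γ) : low N β ≤ low N γ := Finset.sum_le_sum fun i _ => h i

theorem low_add (β γ : σ →₀ ℕ) : low N (β + γ) = low N β + low N γ := by
  simp [low, Finset.sum_add_distrib]

theorem low_single {i : σ} (h : i ≠ N) (m : ℕ) : low N (Finsupp.single i m) = m := by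
  simp [low, Finsupp.single_apply, h]

theorem low_single_self (m : ℕ) : low N (Finsupp.single N m) = 0 := by
  simp [low, Finsupp.single_apply]

theorem degree_eq (β : σ →₀ ℕ) : β.degree = β N + low N β := by
  rw [Finsupp.degree_eq_sum, low, Finset.add_sum_erase _ _ (Finset.mem_univ N)]

structure Data : Prop where
  pq : p ≠ q
  pN : p ≠ N
  qN : q ≠ N
  j0p : j0 ≠ p
  j0q : j0 ≠ q
  j0N : j0 ≠ N

variable {p q N j0}

theorem exists_le_iff (D : Data p q N j0) (β : σ →₀ ℕ) :
    (∃ g ∈ Gen p q N, g ≤ β) ↔ (1 ≤ β p ∨ 1 ≤ β q) ∧ 2 ≤ low N β := by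
  constructor
  · rintro ⟨_, ⟨x, y, hx, hy, rfl⟩, hle⟩
    have hxN : x ≠ N := by rcases hx with rfl | rfl; exacts [D.pN, D.qN]
    have h2 := low_mono N hle
    rw [low_add, low_single N hxN, low_single N hy] at h2
    refine ⟨?_, by omega⟩
    have h1 := hle x
    simp at h1
    rcases hx with rfl | rfl
    · exact Or.inl (by omega)
    · exact Or.inr (by omega)
  · rintro ⟨hP, h2⟩
    obtain ⟨x, hx, hx1⟩ : ∃ x, (x = p ∨ x = q) ∧ 1 ≤ β x :=
      hP.elim (fun h => ⟨p, Or.inl rfl, h⟩) fun h => ⟨q, Or.inr rfl, h⟩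
    have hxN : x ≠ N := by rcases hx with rfl | rfl; exacts [D.pN, D.qN]
    have hle : Finsupp.single x 1 ≤ β := Finsupp.single_le_iff.2 hx1
    have e := congrArg (low N) (tsub_add_cancel_of_le hle)
    rw [low_add, low_single N hxN] at e
    obtain ⟨y, hy, hy1⟩ := Finset.exists_ne_zero_of_sum_ne_zero
      (show ∑ i ∈ Finset.univ.erase N, (β - Finsupp.single x 1 : σ →₀ ℕ) i ≠ 0 by
        show low N (β - Finsupp.single x 1) ≠ 0; omega)
    refine ⟨_, ⟨x, y, hx, (Finset.mem_erase.1 hy).1, rfl⟩, ?_⟩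
    rw [add_comm, ← le_tsub_iff_right hle]
    exact Finsupp.single_le_iff.2 (Nat.one_le_iff_ne_zero.2 hy1)

variable (p q N) in
/-- The ideal. -/
abbrev J : Ideal (MvPolynomial σ k) := Ideal.span ((fun β => monomial β (1 : k)) '' Gen p q N)

theorem mem_exps (D : Data p q N j0) {β : σ →₀ ℕ} :
    β ∈ exps (J p q N : Ideal (MvPolynomial σ k)) ↔ (1 ≤ β p ∨ 1 ≤ β q) ∧ 2 ≤ low N β :=
  ((isMonomial_span (Gen p q N)).2 β).trans (exists_le_iff D β)

theorem degree_gen {g : σ →₀ ℕ} (h : g ∈ Gen p q N) : g.degree = 2 := by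
  obtain ⟨x, y, -, -, rfl⟩ := h; simp [Finsupp.degree_single]

theorem exists_lt_of_ne {g g' : σ →₀ ℕ} (h : g.degree = g'.degree) (hne : g ≠ g') : ∃ l, g l < g' l := by
  by_contra hh
  simp only [not_exists, not_lt] at hh
  refine hne ?_
  have hle : g' ≤ g := hh
  have e := congrArg Finsupp.degree (tsub_add_cancel_of_le hle)
  rw [map_add] at e
  have h0 := (Finsupp.degree_eq_zero_iff _).1 (show (g - g').degree = 0 by omega)
  exact le_antisymm (tsub_eq_zero_iff_le.1 h0) hle

theorem le_sup_of_lt {g g' : σ →₀ ℕ} {l : σ} (h : g l < g' l) : g + Finsupp.single l 1 ≤ g ⊔ g' := fun i => by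
  by_cases hi : i = l
  · subst hi; simp; omega
  · simp [Finsupp.single_eq_of_ne hi]

variable (p q) in
/-- The chosen element of the pair. -/
def pb (b : Bool) : σ := if b then p else q

theorem pb_mem (b : Bool) : pb p q b = p ∨ pb p q b = q := by cases b <;> simp [pb]

theorem pb_inj (D : Data p q N j0) : Function.Injective (pb p q) := by
  intro a b h; cases a <;> cases b <;> simp [pb, D.pq, D.pq.symm] at h ⊢

theorem pb_ne (D : Data p q N j0) (b : Bool) : pb p q b ≠ N ∧ pb p q b ≠ j0 := by
  cases b <;> simp [pb, D.pN, D.qN, D.j0p.symm, D.j0q.symm]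

theorem shift_diffDeg (g γ : σ →₀ ℕ) :
    shift g (diffDeg g γ) = γ ∧ ∀ i, 0 ≤ (g i : ℤ) + diffDeg g γ i :=
  ⟨Finsupp.ext fun i => by simp [shift_apply, diffDeg], fun i => by simp [diffDeg]⟩

/-- The degree zero tangent space. -/
theorem finrank_hom0 (D : Data p q N j0) :
    Module.finrank k ↥(⨆ α : {α : σ → ℤ // ∑ l, α l = 0}, tPiece (J p q N : Ideal (MvPolynomial σ k)) α.1) =
      2 * (((Finset.univ.filter fun x : σ × σ => x.1 = p ∨ x.1 = q).image
        fun x => Finsupp.single x.1 1 + Finsupp.single x.2 1).filter (fun β => β N = 0)).card +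
      2 * (Fintype.card σ - 2) := by
  let Gf := ((Finset.univ.filter fun x : σ × σ => x.1 = p ∨ x.1 = q).image
        fun x => Finsupp.single x.1 1 + Finsupp.single x.2 1).filter fun β => β N = 0
  let W : Finset σ := Finset.univ \ {p, q}
  have hGf : ∀ g, g ∈ Gf ↔ g ∈ Gen p q N := by
    intro g
    simp only [Gf, Finset.mem_filter, Finset.mem_image, Finset.mem_univ, true_and, Gen, Set.mem_setOf_eq]
    constructor
    · rintro ⟨⟨⟨x, y⟩, hx, rfl⟩, h0⟩
      refine ⟨x, y, hx, fun e => ?_, rfl⟩
      subst e; simp at h0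
    · rintro ⟨x, y, hx, hy, rfl⟩
      have hxN : x ≠ N := by rcases hx with rfl | rfl; exacts [D.pN, D.qN]
      exact ⟨⟨(x, y), hx, rfl⟩, by simp [Finsupp.single_eq_of_ne hxN.symm, Finsupp.single_eq_of_ne hy.symm]⟩
  let rep : (↥Gf × Bool) ⊕ (Bool × ↥W) → σ →₀ ℕ :=
    Sum.elim (fun x => x.1.1) (fun x => Finsupp.single (pb p q x.1) 1 + Finsupp.single j0 1)
  let deg : (↥Gf × Bool) ⊕ (Bool × ↥W) → σ → ℤ :=
    Sum.elim (fun x => diffDeg x.1.1 (Finsupp.single (pb p q x.2) 1 + Finsupp.single N 1))
      (fun x => mv (pb p q x.1) x.2.1)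
  have hrep : ∀ i, rep i ∈ Gen p q N := by
    rintro (⟨g, b⟩ | ⟨b, m⟩)
    · exact (hGf g.1).1 g.2
    · exact ⟨_, j0, pb_mem b, D.j0N, rfl⟩
  have hW : ∀ {m : σ}, m ∈ W ↔ m ≠ p ∧ m ≠ q := by intro m; simp [W]
  rw [finrank_hom0_eq_card (G := Gen p q N) (isMonomial_span _).2 (isMonomial_span _).1 rep hrep deg]
  · simp only [Fintype.card_sum, Fintype.card_prod, Fintype.card_bool, Fintype.card_coe]
    have : W.card = Fintype.card σ - 2 := by
      rw [Finset.card_univ_diff, Finset.card_insert_of_notMem (by simp [D.pq]), Finset.card_singleton]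
    rw [this]
    show Gf.card * 2 + _ = 2 * Gf.card + _
    ring
  · rintro (⟨g, b⟩ | ⟨b, m⟩)
    · show ∑ l, diffDeg g.1 (Finsupp.single (pb p q b) 1 + Finsupp.single N 1) l = 0
      have h1 := degree_gen ((hGf g.1).1 g.2)
      rw [Finsupp.degree_eq_sum] at h1
      simp [diffDeg, Finset.sum_sub_distrib, ← Nat.cast_sum, h1, Finset.sum_add_distrib, Finsupp.single_apply]
    · simp [deg, mv, Finset.sum_sub_distrib, Fintype.sum_pi_single']
  · intro α hα c hc hz h hh
    by_contra hne
    have ho : Out (J (k := k) p q N) α h := by_contra fun hn => hne (hc.1 _ hn)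
    obtain ⟨x, y, hx, hy, rfl⟩ := hh
    set γ := shift (Finsupp.single x 1 + Finsupp.single y 1) α with hγdef
    have hγ : ∀ i, (γ i : ℤ) = ((Finsupp.single x 1 + Finsupp.single y 1 : σ →₀ ℕ) i : ℕ) + α i := shift_cast ho.1
    have hdeg : γ.degree = 2 := by
      have : (γ.degree : ℤ) = 2 := by
        simp only [Finsupp.degree_eq_sum, Nat.cast_sum, hγ, Finset.sum_add_distrib, hα, add_zero]
        rw [← Nat.cast_sum, ← Finsupp.degree_eq_sum]
        simp [Finsupp.degree_single]
      exact_mod_cast this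
    have hnot : ¬ ((1 ≤ γ p ∨ 1 ≤ γ q) ∧ 2 ≤ low N γ) := fun h => ho.2 ((mem_exps D).2 h)
    have hdl := degree_eq N γ
    by_cases hP : 1 ≤ γ p ∨ 1 ≤ γ q
    · obtain ⟨b, hb⟩ : ∃ b, 1 ≤ γ (pb p q b) :=
        hP.elim (fun h => ⟨true, h⟩) fun h => ⟨false, h⟩
      have hbN := (pb_ne D b).1
      have hb2 := le_low N (β := γ) hbN
      have hlow : low N γ = 1 := by
        have : ¬ 2 ≤ low N γ := fun h2 => hnot ⟨hP, h2⟩
        omega
      have hγeq : γ = Finsupp.single (pb p q b) 1 + Finsupp.single N 1 := by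
        refine Finsupp.ext fun i => ?_
        by_cases hi : i = N
        · subst hi; simp [Finsupp.single_eq_of_ne hbN.symm]; omega
        · by_cases hib : i = pb p q b
          · subst hib; simp [Finsupp.single_eq_of_ne hbN]; omega
          · simp [Finsupp.single_eq_of_ne hib, Finsupp.single_eq_of_ne hi]
            have e := congrArg (low N) (tsub_add_cancel_of_le (Finsupp.single_le_iff.2 hb : Finsupp.single (pb p q b) 1 ≤ γ))
            rw [low_add, low_single N hbN] at e
            have h3 := le_low N (β := γ - Finsupp.single (pb p q b) 1) hi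
            simp [Finsupp.single_eq_of_ne hib] at h3
            omega
      have hxy : (Finsupp.single x 1 + Finsupp.single y 1) ∈ Gf := (hGf _).2 ⟨x, y, hx, hy, rfl⟩
      refine hne (hz (Sum.inl (⟨_, hxy⟩, b)) (funext fun i => ?_))
      show ((Finsupp.single (pb p q b) 1 + Finsupp.single N 1 : σ →₀ ℕ) i : ℤ) - _ = α i
      rw [← hγeq, hγ]; ring
    simp only [not_or, not_le, Nat.lt_one_iff] at hP
    have move : ∀ l, l ≠ N → l ≠ y → γ y = 0 → ((l ≠ p ∧ l ≠ q) ∨ low N γ = 0) → False := by
      intro l hlN hly hy0 hl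
      have hg' : Finsupp.single x 1 + Finsupp.single l 1 ∈ Gen p q N := ⟨x, l, hx, hlN, rfl⟩
      have hL : Out (J (k := k) p q N) α ((Finsupp.single x 1 + Finsupp.single y 1) ⊔ (Finsupp.single x 1 + Finsupp.single l 1)) := by
        set g := Finsupp.single x 1 + Finsupp.single y 1
        obtain ⟨δ, hδ⟩ := exists_add_of_le (le_sup_left : g ≤ g ⊔ (Finsupp.single x 1 + Finsupp.single l 1))
        have hn : ∀ i, 0 ≤ ((g ⊔ (Finsupp.single x 1 + Finsupp.single l 1)) i : ℤ) + α i := hδ ▸ Out.nonneg_add ho.1 δ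
        refine ⟨hn, fun he => ?_⟩
        have hle : g ⊔ (Finsupp.single x 1 + Finsupp.single l 1) ≤ g + Finsupp.single l 1 :=
          sup_le le_self_add (by simp only [g]; exact add_le_add le_self_add le_rfl)
        obtain ⟨ε, hε⟩ := exists_add_of_le hle
        have he2 : γ + Finsupp.single l 1 ∈ exps (J p q N : Ideal (MvPolynomial σ k)) := by
          rw [hγdef, ← shift_add ho.1, hε, shift_add hn]
          exact mem_exps_of_le he le_self_add
        rw [mem_exps D, low_add, low_single N hlN] at he2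
        rcases hl with ⟨hlp, hlq⟩ | hl
        · simp [Finsupp.single_eq_of_ne hlp.symm, Finsupp.single_eq_of_ne hlq.symm, hP.1, hP.2] at he2
        · omega
      refine hne ((Cf.eq_of_link (isMonomial_span _).2 hc ⟨x, y, hx, hy, rfl⟩ hg' ho hL).trans (hc.1 _ fun h' => ?_))
      have h1 := h'.1 y
      have h2 := hγ y
      rw [hy0] at h2
      simp [Finsupp.single_eq_of_ne hly.symm] at h1 h2
      omega
    by_cases hy0 : γ y = 0
    · by_cases hlow : low N γ = 0
      · by_cases hyp : y = p
        · exact move q D.qN (hyp ▸ D.pq.symm) hy0 (Or.inr hlow)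
        · exact move p D.pN (Ne.symm hyp) hy0 (Or.inr hlow)
      · obtain ⟨w, hw, hw1⟩ := Finset.exists_ne_zero_of_sum_ne_zero hlow
        exact move w (Finset.mem_erase.1 hw).1 (fun e => hw1 (e ▸ hy0)) hy0
          (Or.inl ⟨fun e => hw1 (e ▸ hP.1), fun e => hw1 (e ▸ hP.2)⟩)
    · have hyp : y ≠ p := fun e => hy0 (e ▸ hP.1)
      have hyq : y ≠ q := fun e => hy0 (e ▸ hP.2)
      have hle : Finsupp.single y 1 ≤ γ := Finsupp.single_le_iff.2 (Nat.one_le_iff_ne_zero.2 hy0)
      obtain ⟨m, hm⟩ : ∃ m, γ = Finsupp.single y 1 + Finsupp.single m 1 := by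
        have e := congrArg Finsupp.degree (tsub_add_cancel_of_le hle)
        rw [map_add, Finsupp.degree_single, hdeg] at e
        obtain ⟨m, hm⟩ := Finsupp.ne_iff.1 (fun h0 : γ - Finsupp.single y 1 = 0 => by simp [h0] at e)
        have hle' : Finsupp.single m 1 ≤ γ - Finsupp.single y 1 :=
          Finsupp.single_le_iff.2 (Nat.one_le_iff_ne_zero.2 (by simpa using hm))
        have hd := congrArg Finsupp.degree (tsub_add_cancel_of_le hle')
        rw [map_add, Finsupp.degree_single] at hd
        have h0 := (Finsupp.degree_eq_zero_iff _).1 (show (γ - Finsupp.single y 1 - Finsupp.single m 1).degree = 0 by omega)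
        refine ⟨m, ?_⟩
        rw [le_antisymm hle' (tsub_eq_zero_iff_le.1 h0), add_comm, tsub_add_cancel_of_le hle]
      have hmW : m ∈ W := hW.2 ⟨fun e => by have := hP.1; rw [hm, e] at this; simp at this,
        fun e => by have := hP.2; rw [hm, e] at this; simp at this⟩
      obtain ⟨b, hb⟩ : ∃ b, pb p q b = x := hx.elim (fun h => ⟨true, h.symm⟩) fun h => ⟨false, h.symm⟩
      have hα' : α = mv x m := funext fun i => by
        have := hγ i
        rw [hm] at this
        simp [mv, Finsupp.single_apply, Pi.single_apply, eq_comm] at this ⊢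
        split_ifs at * <;> omega
      have hzero := hz (Sum.inr (b, ⟨m, hmW⟩)) (by show mv (pb p q b) m = α; rw [hb, hα'])
      have hL : Out (J (k := k) p q N) α ((Finsupp.single x 1 + Finsupp.single y 1) ⊔ (Finsupp.single x 1 + Finsupp.single j0 1)) := by
        set g := Finsupp.single x 1 + Finsupp.single y 1
        obtain ⟨δ, hδ⟩ := exists_add_of_le (le_sup_left : g ≤ g ⊔ (Finsupp.single x 1 + Finsupp.single j0 1))
        have hn : ∀ i, 0 ≤ ((g ⊔ (Finsupp.single x 1 + Finsupp.single j0 1)) i : ℤ) + α i := hδ ▸ Out.nonneg_add ho.1 δ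
        refine ⟨hn, fun he => ?_⟩
        have hle : g ⊔ (Finsupp.single x 1 + Finsupp.single j0 1) ≤ g + Finsupp.single j0 1 :=
          sup_le le_self_add (by simp only [g]; exact add_le_add le_self_add le_rfl)
        obtain ⟨ε, hε⟩ := exists_add_of_le hle
        have he2 : γ + Finsupp.single j0 1 ∈ exps (J p q N : Ideal (MvPolynomial σ k)) := by
          rw [hγdef, ← shift_add ho.1, hε, shift_add hn]
          exact mem_exps_of_le he le_self_add
        rw [mem_exps D] at he2
        simp [Finsupp.single_eq_of_ne D.j0p.symm, Finsupp.single_eq_of_ne D.j0q.symm, hP.1, hP.2] at he2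
      refine hne ((Cf.eq_of_link (isMonomial_span _).2 hc ⟨x, y, hx, hy, rfl⟩ ⟨x, j0, hx, D.j0N, rfl⟩ ho hL).trans ?_)
      simpa only [rep, Sum.elim_inr, hb] using hzero
  · rintro (⟨g, b⟩ | ⟨b, m⟩)
    · obtain ⟨hs, hn⟩ := shift_diffDeg g.1 (Finsupp.single (pb p q b) 1 + Finsupp.single N 1)
      have hgG := (hGf g.1).1 g.2
      have hbN := (pb_ne D b).1
      have ho : Out (J (k := k) p q N) (deg (Sum.inl (g, b))) g.1 := by
        refine ⟨hn, fun he => ?_⟩
        show False
        rw [show shift g.1 (deg (Sum.inl (g, b))) = _ from hs, mem_exps D, low_add, low_single N hbN, low_single_self] at he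
        omega
      obtain ⟨c, hc, hv⟩ := exists_cf (k := k) (G := Gen p q N) (isMonomial_span _).2 {g.1}
        (fun h hh => by rw [Set.mem_singleton_iff] at hh; subst hh; exact ⟨hgG, ho⟩)
        (fun h hh g' hg' hL => by
          rw [Set.mem_singleton_iff] at hh ⊢
          subst hh
          by_contra hne
          obtain ⟨l, hl⟩ := exists_lt_of_ne ((degree_gen hgG).trans (degree_gen hg').symm) (Ne.symm hne)
          have hlN : l ≠ N := by
            obtain ⟨x, y, hx, hy, rfl⟩ := hg'
            intro e; subst e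
            rcases hx with rfl | rfl <;> simp [Finsupp.single_eq_of_ne D.pN.symm, Finsupp.single_eq_of_ne D.qN.symm,
              Finsupp.single_eq_of_ne hy.symm] at hl
          obtain ⟨ε, hε⟩ := exists_add_of_le (le_sup_of_lt hl)
          refine hL.2 ?_
          rw [hε, shift_add (Out.nonneg_add ho.1 _), shift_add ho.1]
          refine mem_exps_of_le ?_ le_self_add
          rw [show shift g.1 (deg (Sum.inl (g, b))) = _ from hs, mem_exps D, low_add, low_add, low_single N hbN,
            low_single_self, low_single N hlN]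
          refine ⟨?_, by omega⟩
          rcases pb_mem (p := p) (q := q) b with e | e <;> rw [e] <;> [left; right] <;> simp <;> omega)
      refine ⟨c, hc, fun j hj => ?_⟩
      by_cases hji : j = Sum.inl (g, b)
      · subst hji; rw [if_pos rfl]; exact (hv _ (hrep _)).1 rfl
      · rw [if_neg hji]
        refine (hv _ (hrep _)).2 fun he => ?_
        rw [Set.mem_singleton_iff] at he
        rcases j with ⟨g', b'⟩ | ⟨b', m'⟩
        · refine hji ?_
          have hgg : g' = g := Subtype.ext he
          subst hgg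
          have h1 := congrFun hj (pb p q b)
          simp [deg, diffDeg, Finsupp.single_eq_of_ne hbN] at h1
          by_cases hbb : b' = b
          · rw [hbb]
          · simp [Finsupp.single_eq_of_ne (fun e => hbb (pb_inj D e).symm)] at h1
        · have h1 := congrFun hj j0
          simp only [rep, Sum.elim_inr] at he
          simp [deg, diffDeg, mv, ← he, Pi.single_apply, Finsupp.single_eq_of_ne (pb_ne D b).2.symm,
            Finsupp.single_eq_of_ne D.j0N, Finsupp.single_eq_of_ne (pb_ne D b').2.symm, (pb_ne D b').2.symm] at h1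
          split_ifs at h1 <;> omega
    · have hm := hW.1 m.2
      set x := pb p q b with hxdef
      have hxN := (pb_ne D b).1
      have hxP : x = p ∨ x = q := pb_mem b
      have hmx : m.1 ≠ x := by rcases hxP with e | e <;> rw [e]; exacts [hm.1, hm.2]
      let S : Set (σ →₀ ℕ) := {β | ∃ y, y ≠ p ∧ y ≠ q ∧ y ≠ N ∧ β = Finsupp.single x 1 + Finsupp.single y 1}
      have hsh : ∀ y, shift (Finsupp.single x 1 + Finsupp.single y 1) (mv x m.1) = Finsupp.single y 1 + Finsupp.single m.1 1 ∧
          ∀ i, 0 ≤ (((Finsupp.single x 1 + Finsupp.single y 1 : σ →₀ ℕ) i : ℕ) : ℤ) + mv x m.1 i := by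
        intro y
        refine ⟨Finsupp.ext fun i => ?_, fun i => ?_⟩
        · rw [shift_apply]
          simp [mv, Finsupp.single_apply, Pi.single_apply, eq_comm]
          split_ifs <;> omega
        · simp [mv, Finsupp.single_apply, Pi.single_apply, eq_comm]
          split_ifs <;> omega
      have hoS : ∀ y, y ≠ p → y ≠ q → Out (J (k := k) p q N) (mv x m.1) (Finsupp.single x 1 + Finsupp.single y 1) := by
        intro y hyp hyq
        refine ⟨(hsh y).2, fun he => ?_⟩
        rw [(hsh y).1, mem_exps D] at he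
        simp [Finsupp.single_eq_of_ne hyp.symm, Finsupp.single_eq_of_ne hyq.symm,
          Finsupp.single_eq_of_ne hm.1.symm, Finsupp.single_eq_of_ne hm.2.symm] at he
      obtain ⟨c, hc, hv⟩ := exists_cf (k := k) (G := Gen p q N) (α := mv x m.1) (isMonomial_span _).2 S
        (fun h hh => by
          obtain ⟨y, hyp, hyq, hyN, rfl⟩ := hh
          exact ⟨⟨x, y, hxP, hyN, rfl⟩, hoS y hyp hyq⟩)
        (fun h hh g' hg' hL => by
          obtain ⟨y, hyp, hyq, hyN, rfl⟩ := hh
          have hle : ∀ l, l = p ∨ l = q → g' l ≤ (Finsupp.single x 1 + Finsupp.single y 1 : σ →₀ ℕ) l := by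
            intro l hl
            by_contra hlt
            have hlN : l ≠ N := by rcases hl with rfl | rfl; exacts [D.pN, D.qN]
            obtain ⟨ε, hε⟩ := exists_add_of_le (le_sup_of_lt (not_le.1 hlt))
            refine hL.2 ?_
            rw [hε, shift_add (Out.nonneg_add (hoS y hyp hyq).1 _), shift_add (hoS y hyp hyq).1, (hsh y).1]
            refine mem_exps_of_le ((mem_exps D).2 ⟨?_, ?_⟩) le_self_add
            · rcases hl with rfl | rfl <;> simp
            · rw [low_add, low_add, low_single N hyN, low_single N hlN]; omega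
          obtain ⟨x', y', hx', hy', rfl⟩ := hg'
          have hp := hle p (Or.inl rfl)
          have hq := hle q (Or.inr rfl)
          rcases hxP with e | e <;> rcases hx' with e' | e' <;> rw [e, e'] at hp hq <;>
            simp [D.pq, D.pq.symm, Finsupp.single_eq_of_ne hyp.symm, Finsupp.single_eq_of_ne hyq.symm] at hp hq <;>
            refine ⟨y', ?_, ?_, hy', by rw [e, e']⟩ <;> intro hh <;> subst hh <;> simp at hp hq)
      refine ⟨c, hc, fun j hj => ?_⟩
      by_cases hji : j = Sum.inr (b, m)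
      · subst hji; rw [if_pos rfl]; exact (hv _ (hrep _)).1 ⟨j0, D.j0p, D.j0q, D.j0N, rfl⟩
      · rw [if_neg hji]
        refine (hv _ (hrep _)).2 fun he => ?_
        rcases j with ⟨g', b'⟩ | ⟨b', m'⟩
        · obtain ⟨y, hyp, hyq, hyN, he⟩ := he
          have h1 := congrFun hj y
          simp only [rep, Sum.elim_inl] at he
          have hxy : y ≠ x := by rcases hxP with e | e <;> rw [e]; exacts [hyp, hyq]
          have hby : y ≠ pb p q b' := by rcases pb_mem (p := p) (q := q) b' with e | e <;> rw [e]; exacts [hyp, hyq]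
          simp [deg, diffDeg, mv, he, ← hxdef, Pi.single_apply, Finsupp.single_eq_of_ne hxy, hxy,
            Finsupp.single_eq_of_ne hby, Finsupp.single_eq_of_ne hyN] at h1
          split_ifs at h1
        · refine hji ?_
          have hne : pb p q b' ≠ m'.1 := fun e => by
            rcases pb_mem (p := p) (q := q) b' with e' | e'
            · exact (hW.1 m'.2).1 (e.symm.trans e')
            · exact (hW.1 m'.2).2 (e.symm.trans e')
          obtain ⟨h1, h2⟩ := mv_inj hne hj
          rw [pb_inj D h1, Subtype.ext h2]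

theorem card_gen (D : Data p q N j0) :
    ((((Finset.univ.filter fun x : σ × σ => x.1 = p ∨ x.1 = q).image
        fun x => Finsupp.single x.1 1 + Finsupp.single x.2 1).filter (fun β => β N = 0)).card + 3) =
      2 * Fintype.card σ := by
  let M : Finset σ := Finset.univ \ {p, q, N}
  have hM : M.card + 3 = Fintype.card σ := by
    have h3 : ({p, q, N} : Finset σ).card = 3 := by
      rw [Finset.card_insert_of_notMem (by simp [D.pq, D.pN]), Finset.card_insert_of_notMem (by simp [D.qN]),
        Finset.card_singleton]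
    have := Finset.card_le_univ ({p, q, N} : Finset σ)
    rw [Finset.card_univ_diff, h3]
    omega
  let T : Finset (σ →₀ ℕ) := {Finsupp.single p 1 + Finsupp.single p 1, Finsupp.single p 1 + Finsupp.single q 1,
    Finsupp.single q 1 + Finsupp.single q 1}
  have hT : T.card = 3 := by
    rw [Finset.card_insert_of_notMem, Finset.card_insert_of_notMem, Finset.card_singleton]
    · simp only [Finset.mem_singleton]; intro h; have := DFunLike.congr_fun h p; simp [D.pq, D.pq.symm] at this
    · simp only [Finset.mem_insert, Finset.mem_singleton]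
      rintro (h | h) <;> have := DFunLike.congr_fun h p <;> simp [D.pq, D.pq.symm] at this
  have e : ((Finset.univ.filter fun x : σ × σ => x.1 = p ∨ x.1 = q).image
      fun x => Finsupp.single x.1 1 + Finsupp.single x.2 1).filter (fun β => β N = 0) =
      T ∪ (M.image fun y => Finsupp.single p 1 + Finsupp.single y 1) ∪
        (M.image fun y => Finsupp.single q 1 + Finsupp.single y 1) := by
    refine Finset.ext fun g => ?_
    simp only [Finset.mem_filter, Finset.mem_image, Finset.mem_univ, true_and, Finset.mem_union]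
    constructor
    · rintro ⟨⟨⟨x, y⟩, hx, rfl⟩, h0⟩
      have hyN : y ≠ N := fun e => by subst e; simp at h0
      by_cases hy : y = p ∨ y = q
      · rcases hx with rfl | rfl <;> rcases hy with rfl | rfl <;> simp [T, add_comm]
      · simp only [not_or] at hy
        rcases hx with rfl | rfl
        · exact Or.inl (Or.inr ⟨y, by simp [M, hy.1, hy.2, hyN], rfl⟩)
        · exact Or.inr ⟨y, by simp [M, hy.1, hy.2, hyN], rfl⟩
    · rintro ((h | ⟨y, hy, rfl⟩) | ⟨y, hy, rfl⟩)
      · simp only [T, Finset.mem_insert, Finset.mem_singleton] at h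
        rcases h with rfl | rfl | rfl
        · exact ⟨⟨(p, p), Or.inl rfl, rfl⟩, by simp [D.pN, D.pN.symm]⟩
        · exact ⟨⟨(p, q), Or.inl rfl, rfl⟩, by simp [D.pN, D.pN.symm, D.qN, D.qN.symm]⟩
        · exact ⟨⟨(q, q), Or.inr rfl, rfl⟩, by simp [D.qN, D.qN.symm]⟩
      · simp [M] at hy; exact ⟨⟨(p, y), Or.inl rfl, rfl⟩, by simp [D.pN, D.pN.symm, hy, Ne.symm hy.2.2]⟩
      · simp [M] at hy; exact ⟨⟨(q, y), Or.inr rfl, rfl⟩, by simp [D.qN, D.qN.symm, hy, Ne.symm hy.2.2]⟩
  have hinj : ∀ x : σ, Function.Injective fun y => Finsupp.single x 1 + Finsupp.single y 1 := fun x a b h =>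
    Finsupp.single_left_injective one_ne_zero (add_left_cancel h)
  rw [e, Finset.card_union_of_disjoint, Finset.card_union_of_disjoint, hT,
    Finset.card_image_of_injective _ (hinj p), Finset.card_image_of_injective _ (hinj q)]
  · omega
  · refine Finset.disjoint_left.2 fun g hg hg' => ?_
    obtain ⟨y, hy, rfl⟩ := Finset.mem_image.1 hg'
    simp [M] at hy
    simp only [T, Finset.mem_insert, Finset.mem_singleton] at hg
    rcases hg with h | h | h <;> have := DFunLike.congr_fun h y <;>
      simp [hy, Ne.symm hy.1, Ne.symm hy.2.1] at this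
  · refine Finset.disjoint_left.2 fun g hg hg' => ?_
    obtain ⟨y', hy', rfl⟩ := Finset.mem_image.1 hg'
    simp [M] at hy'
    rcases Finset.mem_union.1 hg with hg | hg
    · simp only [T, Finset.mem_insert, Finset.mem_singleton] at hg
      rcases hg with h | h | h <;> have := DFunLike.congr_fun h y' <;>
        simp [hy', Ne.symm hy'.1, Ne.symm hy'.2.1] at this
    · obtain ⟨y, hy, h⟩ := Finset.mem_image.1 hg
      simp [M] at hy
      have := DFunLike.congr_fun h p
      simp [D.pq, D.pq.symm, hy, hy', Ne.symm hy.1, Ne.symm hy'.1] at this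

end N11

/-- S13449. -/
theorem finrank_hom0_n11 (k : Type u) [Field k] (n : ℕ) (hn : 3 ≤ n) :
    Module.finrank k ↥(⨆ α : {α : Fin (n + 1) → ℤ // ∑ i, α i = 0}, tPiece (Ideal.span ({f : MvPolynomial (Fin (n + 1)) k | ∃ i : Fin (n + 1), i.val + 1 ≤ n ∧ f = MvPolynomial.X 0 * MvPolynomial.X i} ∪ {f : MvPolynomial (Fin (n + 1)) k | ∃ i : Fin (n + 1), 1 ≤ i.val ∧ i.val ≤ n - 1 ∧ f = MvPolynomial.X 1 * MvPolynomial.X i})) α.1) = 6 * n - 4 := by
  let j0 : Fin (n + 1) := ⟨2, by omega⟩
  have h1 : (1 : Fin (n + 1)).val = 1 := by rw [Fin.val_one']; exact Nat.mod_eq_of_lt (by omega)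
  have D : N11.Data (0 : Fin (n + 1)) 1 (Fin.last n) j0 := by
    constructor <;> intro h <;> have h' := congrArg Fin.val h <;>
      simp only [Fin.val_zero, h1, Fin.val_last, j0] at h' <;> omega
  have hspan : Ideal.span ({f : MvPolynomial (Fin (n + 1)) k | ∃ i : Fin (n + 1), i.val + 1 ≤ n ∧ f = MvPolynomial.X 0 * MvPolynomial.X i} ∪ {f : MvPolynomial (Fin (n + 1)) k | ∃ i : Fin (n + 1), 1 ≤ i.val ∧ i.val ≤ n - 1 ∧ f = MvPolynomial.X 1 * MvPolynomial.X i}) =
      N11.J (0 : Fin (n + 1)) 1 (Fin.last n) := by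
    congr 1
    ext f
    constructor
    · rintro (⟨i, hi, rfl⟩ | ⟨i, hi, hi', rfl⟩)
      · exact ⟨_, ⟨0, i, Or.inl rfl, by simp [Fin.ext_iff]; omega, rfl⟩, by simp [X, monomial_mul]⟩
      · exact ⟨_, ⟨1, i, Or.inr rfl, by simp [Fin.ext_iff]; omega, rfl⟩, by simp [X, monomial_mul]⟩
    · rintro ⟨_, ⟨x, y, hx, hy, rfl⟩, rfl⟩
      have hy' : y.val < n := lt_of_le_of_ne (Nat.lt_succ_iff.1 y.2) fun e => hy (Fin.ext e)
      rcases hx with rfl | rfl
      · exact Or.inl ⟨y, hy', by simp [X, monomial_mul]⟩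
      · by_cases hy0 : y = 0
        · subst hy0
          exact Or.inl ⟨1, by omega, by simp [X, monomial_mul, add_comm]⟩
        · have : y.val ≠ 0 := fun e => hy0 (Fin.ext e)
          exact Or.inr ⟨y, by omega, by omega, by simp [X, monomial_mul]⟩
  rw [hspan, N11.finrank_hom0 D]
  have := N11.card_gen D
  rw [Fintype.card_fin] at this ⊢
  omega

end Groth.Agent.HilbPt29
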