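import Groth.Agent.Lib.HilbPt29.Exps
import Mathlib.RingTheory.MvPolynomial.Basic
import Mathlib.LinearAlgebra.Finsupp.LSum
import Mathlib.Data.Finsupp.Interval

/-!
# Graded pieces of the tangent space at a monomial ideal
-/

set_option autoImplicit false
set_option maxHeartbeats 400000
universe u

open MvPolynomial W4c1hilbpn
open scoped Classical

noncomputable section

namespace Groth.Agent.HilbPt29

variable {σ : Type} [Finite σ] {k : Type u} [Field k] {I : Ideal (MvPolynomial σ k)}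

/-- `β + α` has no negative entry and is not an exponent of the ideal. -/
def Out (I : Ideal (MvPolynomial σ k)) (α : σ → ℤ) (β : σ →₀ ℕ) : Prop :=
  (∀ i, 0 ≤ (β i : ℤ) + α i) ∧ shift β α ∉ exps I

theorem shift_apply (β : σ →₀ ℕ) (α : σ → ℤ) (i : σ) : shift β α i = ((β i : ℤ) + α i).toNat := rfl

theorem shift_cast {β : σ →₀ ℕ} {α : σ → ℤ} (h : ∀ i, 0 ≤ (β i : ℤ) + α i) (i : σ) :
    (shift β α i : ℤ) = (β i : ℤ) + α i := by rw [shift_apply, Int.toNat_of_nonneg (h i)]

theorem shift_add {β : σ →₀ ℕ} {α : σ → ℤ} (h : ∀ i, 0 ≤ (β i : ℤ) + α i) (δ : σ →₀ ℕ) :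
    shift (β + δ) α = shift β α + δ := Finsupp.ext fun i => by
  have := h i
  simp only [shift_apply, Finsupp.add_apply, Nat.cast_add]
  omega

theorem Out.nonneg_add {β : σ →₀ ℕ} {α : σ → ℤ} (h : ∀ i, 0 ≤ (β i : ℤ) + α i) (δ : σ →₀ ℕ) (i : σ) :
    0 ≤ ((β + δ) i : ℤ) + α i := by
  have := h i
  simp only [Finsupp.add_apply, Nat.cast_add]
  omega

theorem not_out_of_nonneg {α : σ → ℤ} (hα : ∀ i, 0 ≤ α i) {β : σ →₀ ℕ} (hβ : β ∈ exps I) : ¬ Out I α β :=
  fun h => h.2 (mem_exps_of_le hβ fun i => by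
    have := hα i
    rw [shift_apply]
    omega)

/-- The coefficient of `x^γ` on the quotient, for `γ` outside the ideal. -/
def qcoef (hI : IsMonomial I) (γ : σ →₀ ℕ) : (MvPolynomial σ k ⧸ I) →ₗ[k] k :=
  if hγ : γ ∈ exps I then 0 else
    Submodule.liftQ (I.restrictScalars k) (lcoeff k γ) (fun _ hp => coeff_eq_zero_of_mem hI hp hγ) ∘ₗ
      ((Submodule.Quotient.restrictScalarsEquiv k I).symm : _ →ₗ[k] _)

theorem qcoef_mk (hI : IsMonomial I) {γ : σ →₀ ℕ} (hγ : γ ∉ exps I) (p : MvPolynomial σ k) :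
    qcoef hI γ (Ideal.Quotient.mk I p) = coeff γ p := by
  rw [qcoef, dif_neg hγ]; rfl

theorem qcoef_of_mem (hI : IsMonomial I) {γ : σ →₀ ℕ} (hγ : γ ∈ exps I) (z : MvPolynomial σ k ⧸ I) :
    qcoef hI γ z = 0 := by rw [qcoef, dif_pos hγ]; rfl

theorem eq_of_qcoef (hI : IsMonomial I) {z w : MvPolynomial σ k ⧸ I}
    (h : ∀ γ ∉ exps I, qcoef hI γ z = qcoef hI γ w) : z = w := by
  obtain ⟨p, rfl⟩ := Ideal.Quotient.mk_surjective z
  obtain ⟨q, rfl⟩ := Ideal.Quotient.mk_surjective w
  rw [Ideal.Quotient.mk_eq_mk_iff_sub_mem, mem_iff hI]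
  intro β hβ
  by_contra hβ'
  have := h β hβ'
  rw [qcoef_mk hI hβ', qcoef_mk hI hβ'] at this
  rw [mem_support_iff, coeff_sub, this, sub_self] at hβ
  exact hβ rfl

theorem mk_smul_monomial (c : k) (γ : σ →₀ ℕ) :
    c • Ideal.Quotient.mk I (monomial γ (1 : k)) = Ideal.Quotient.mk I (monomial γ c) := by
  rw [← Ideal.Quotient.mkₐ_eq_mk k, ← map_smul, smul_monomial, smul_eq_mul, mul_one]

theorem tgt_ext (hI : IsMonomial I) {φ ψ : Tgt I}
    (h : ∀ (β : σ →₀ ℕ) (hβ : monomial β (1 : k) ∈ I), φ ⟨_, hβ⟩ = ψ ⟨_, hβ⟩) : φ = ψ := by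
  refine LinearMap.ext fun ⟨p, hp⟩ => ?_
  have hs := (mem_iff hI p).1 hp
  have e : (⟨p, hp⟩ : ↥I) = ∑ β : p.support, (C (coeff β.1 p) : MvPolynomial σ k) • (⟨monomial β.1 1, hs β.1 β.2⟩ : ↥I) := by
    apply Subtype.ext
    simp only [Submodule.coe_sum, SetLike.val_smul, smul_eq_mul, C_mul_monomial, mul_one]
    rw [Finset.sum_coe_sort p.support (fun β => monomial β (coeff β p))]
    exact p.as_sum
  rw [e, map_sum, map_sum]
  exact Finset.sum_congr rfl fun β _ => by rw [map_smul, map_smul, h]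

variable (I) in
/-- The combinatorial model of a graded piece. -/
def Cf (α : σ → ℤ) : Submodule k (exps I → k) where
  carrier := {c | (∀ β, ¬ Out I α β.1 → c β = 0) ∧
    ∀ (β : exps I) (i : σ), Out I α (β.1 + Finsupp.single i 1) →
      c ⟨β.1 + Finsupp.single i 1, mem_exps_of_le β.2 le_self_add⟩ = c β}
  zero_mem' := ⟨fun _ _ => rfl, fun _ _ _ => rfl⟩
  add_mem' := fun {a b} ha hb => ⟨fun β h => by simp [ha.1 β h, hb.1 β h],
    fun β i h => by simp [ha.2 β i h, hb.2 β i h]⟩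
  smul_mem' := fun r a ha => ⟨fun β h => by simp [ha.1 β h], fun β i h => by simp [ha.2 β i h]⟩

/-- The `k`-linear map attached to coefficients. -/
def psi (α : σ → ℤ) (c : exps I → k) : MvPolynomial σ k →ₗ[k] (MvPolynomial σ k ⧸ I) :=
  (basisMonomials σ k).constr k fun β =>
    if h : β ∈ exps I then c ⟨β, h⟩ • Ideal.Quotient.mk I (monomial (shift β α) 1) else 0

theorem psi_monomial (α : σ → ℤ) (c : exps I → k) (β : exps I) :
    psi α c (monomial β.1 1) = c β • Ideal.Quotient.mk I (monomial (shift β.1 α) 1) := by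
  rw [psi, show monomial β.1 (1 : k) = basisMonomials σ k β.1 by rw [coe_basisMonomials],
    Module.Basis.constr_basis, dif_pos β.2]

theorem psi_X_mul {α : σ → ℤ} {c : exps I → k} (hc : c ∈ Cf I α) (i : σ) (β : exps I) :
    psi α c (X i * monomial β.1 1) = Ideal.Quotient.mk I (X i) * psi α c (monomial β.1 1) := by
  have hm : (X i : MvPolynomial σ k) * monomial β.1 1 = monomial (β.1 + Finsupp.single i 1) 1 := by
    rw [X, monomial_mul, one_mul, add_comm]
  rw [hm, psi_monomial α c ⟨_, mem_exps_of_le β.2 le_self_add⟩, psi_monomial, mul_smul_comm,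
    ← map_mul, X, monomial_mul, one_mul, add_comm (Finsupp.single i 1)]
  by_cases h : Out I α (β.1 + Finsupp.single i 1)
  · rw [hc.2 β i h]
    by_cases h' : Out I α β.1
    · rw [shift_add h'.1]
    · simp [hc.1 β h']
  · rw [hc.1 _ h, zero_smul]
    by_cases h' : Out I α β.1
    · have h2 : shift (β.1 + Finsupp.single i 1) α ∈ exps I := by
        by_contra hn
        exact h ⟨Out.nonneg_add h'.1 _, hn⟩
      rw [← shift_add h'.1, Ideal.Quotient.eq_zero_iff_mem.2 h2, smul_zero]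
    · rw [hc.1 β h', zero_smul]

theorem psi_mul {α : σ → ℤ} {c : exps I → k} (hI : IsMonomial I) (hc : c ∈ Cf I α)
    (q : MvPolynomial σ k) : ∀ p ∈ I, psi α c (q * p) = Ideal.Quotient.mk I q * psi α c p := by
  induction q using MvPolynomial.induction_on with
  | C a =>
    intro p _
    obtain ⟨q, hq⟩ := Ideal.Quotient.mk_surjective (psi α c p)
    rw [C_mul', map_smul, ← hq, ← Ideal.Quotient.mkₐ_eq_mk k, ← map_smul, ← map_mul, C_mul']
  | add a b ha hb => intro p hp; rw [add_mul, map_add, ha p hp, hb p hp, map_add, add_mul]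
  | mul_X a i ha =>
    intro p hp
    rw [mul_assoc, ha _ (I.mul_mem_left _ hp), map_mul (Ideal.Quotient.mk I), mul_assoc]
    congr 1
    rw [p.as_sum, Finset.mul_sum, map_sum, map_sum, Finset.mul_sum]
    refine Finset.sum_congr rfl fun β hβ => ?_
    rw [show monomial β (coeff β p) = coeff β p • monomial β (1 : k) by
      rw [smul_monomial, smul_eq_mul, mul_one], mul_smul_comm, map_smul, map_smul, mul_smul_comm,
      psi_X_mul hc i ⟨β, (mem_iff hI p).1 hp β hβ⟩]

/-- The homomorphism attached to coefficients. -/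
def homOf (hI : IsMonomial I) {α : σ → ℤ} {c : exps I → k} (hc : c ∈ Cf I α) : Tgt I where
  toFun p := psi α c p.1
  map_add' p q := map_add _ _ _
  map_smul' q p := by
    show psi α c (q * p.1) = q • psi α c p.1
    rw [psi_mul hI hc q p.1 p.2]; rfl

theorem homOf_monomial (hI : IsMonomial I) {α : σ → ℤ} {c : exps I → k} (hc : c ∈ Cf I α)
    (β : σ →₀ ℕ) (hβ : monomial β (1 : k) ∈ I) :
    homOf hI hc ⟨_, hβ⟩ = c ⟨β, hβ⟩ • Ideal.Quotient.mk I (monomial (shift β α) 1) :=
  psi_monomial α c ⟨β, hβ⟩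

theorem homOf_mem (hI : IsMonomial I) {α : σ → ℤ} {c : exps I → k} (hc : c ∈ Cf I α) :
    homOf hI hc ∈ tPiece I α := by
  intro β hβ
  refine ⟨fun _ => ?_, fun ⟨i, hi⟩ => ?_⟩
  · rw [homOf_monomial]
    exact Submodule.smul_mem _ _ (Submodule.mem_span_singleton_self _)
  · rw [homOf_monomial, hc.1 ⟨β, hβ⟩ fun h => (not_le.2 hi) (h.1 i), zero_smul]

/-- The coefficients of a homomorphism in multidegree `α`. -/
def cof (hI : IsMonomial I) (α : σ → ℤ) : Tgt I →ₗ[k] (exps I → k) where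
  toFun φ β := if Out I α β.1 then qcoef hI (shift β.1 α) (φ ⟨_, β.2⟩) else 0
  map_add' φ ψ := funext fun β => by split_ifs <;> simp [*]
  map_smul' r φ := funext fun β => by split_ifs <;> simp [*]

theorem qcoef_X_mul (hI : IsMonomial I) {γ : σ →₀ ℕ} (hγ : γ ∉ exps I) (i : σ) (z : MvPolynomial σ k ⧸ I) :
    qcoef hI γ (Ideal.Quotient.mk I (X i) * z) =
      if γ i = 0 then 0 else qcoef hI (γ - Finsupp.single i 1) z := by
  obtain ⟨p, rfl⟩ := Ideal.Quotient.mk_surjective z
  rw [← map_mul, qcoef_mk hI hγ, coeff_X_mul']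
  by_cases h : γ i = 0
  · rw [if_pos h, if_neg (by simp [h])]
  · rw [if_neg h, if_pos (Finsupp.mem_support_iff.2 h),
      qcoef_mk hI fun h' => hγ (mem_exps_of_le h' tsub_le_self)]

theorem cof_mem (hI : IsMonomial I) (α : σ → ℤ) (φ : Tgt I) : cof hI α φ ∈ Cf I α := by
  refine ⟨fun β h => if_neg h, fun β i h => ?_⟩
  show (if _ then _ else _) = (if _ then _ else _)
  rw [if_pos h]
  have e : (⟨monomial (β.1 + Finsupp.single i 1) (1 : k), mem_exps_of_le β.2 le_self_add⟩ : ↥I) =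
      (X i : MvPolynomial σ k) • (⟨monomial β.1 1, β.2⟩ : ↥I) := by
    apply Subtype.ext
    show monomial (β.1 + Finsupp.single i 1) (1 : k) = X i * monomial β.1 1
    rw [X, monomial_mul, one_mul, add_comm]
  rw [e, map_smul]
  rw [show (X i : MvPolynomial σ k) • φ ⟨_, β.2⟩ = Ideal.Quotient.mk I (X i) * φ ⟨_, β.2⟩ from rfl,
    qcoef_X_mul hI h.2]
  by_cases h' : Out I α β.1
  · rw [if_pos h', if_neg, shift_add h'.1, add_tsub_cancel_right]
    rw [shift_add h'.1]; simp
  · rw [if_neg h']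
    split_ifs with hz
    · rfl
    · refine qcoef_of_mem hI ?_ _
      by_contra hn
      have hnn : ∀ j, 0 ≤ (β.1 j : ℤ) + α j := fun j => by
        have h1 := h.1 j
        by_cases hj : j = i
        · subst hj
          rw [shift_apply] at hz
          simp at hz h1
          omega
        · simpa [Finsupp.single_eq_of_ne hj] using h1
      rw [shift_add hnn, add_tsub_cancel_right] at hn
      exact h' ⟨hnn, hn⟩

theorem eq_smul_of_mem (hI : IsMonomial I) {α : σ → ℤ} {φ : Tgt I} (hφ : φ ∈ tPiece I α) (β : σ →₀ ℕ)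
    (hβ : monomial β (1 : k) ∈ I) :
    φ ⟨_, hβ⟩ = cof hI α φ ⟨β, hβ⟩ • Ideal.Quotient.mk I (monomial (shift β α) 1) := by
  by_cases hn : ∀ i, 0 ≤ (β i : ℤ) + α i
  · obtain ⟨a, ha⟩ := Submodule.mem_span_singleton.1 ((hφ β hβ).1 hn)
    by_cases ho : shift β α ∈ exps I
    · rw [← ha, Ideal.Quotient.eq_zero_iff_mem.2 ho, smul_zero, smul_zero]
    · show _ = (if Out I α β then _ else _) • _
      rw [if_pos ⟨hn, ho⟩, ← ha, map_smul, qcoef_mk hI ho, coeff_monomial, if_pos rfl, smul_eq_mul, mul_one]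
  · simp only [not_forall, not_le] at hn
    rw [(hφ β hβ).2 hn]
    show _ = (if Out I α β then _ else _) • _
    rw [if_neg fun h => hn.elim fun i hi => (not_le.2 hi) (h.1 i), zero_smul]

theorem cof_homOf (hI : IsMonomial I) {α : σ → ℤ} {c : exps I → k} (hc : c ∈ Cf I α) :
    cof hI α (homOf hI hc) = c := funext fun β => by
  show (if _ then _ else _) = _
  split_ifs with h
  · rw [homOf_monomial, map_smul, qcoef_mk hI h.2, coeff_monomial, if_pos rfl, smul_eq_mul, mul_one]
  · exact (hc.1 β h).symm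

/-- A graded piece is its combinatorial model. -/
def pieceEquiv (hI : IsMonomial I) (α : σ → ℤ) : tPiece I α ≃ₗ[k] Cf I α where
  toLinearMap := ((cof hI α).comp (tPiece I α).subtype).codRestrict (Cf I α) fun φ => cof_mem hI α φ.1
  invFun c := ⟨homOf hI c.2, homOf_mem hI c.2⟩
  left_inv φ := Subtype.ext <| tgt_ext hI fun β hβ => by
    show homOf hI (cof_mem hI α φ.1) _ = φ.1 _
    rw [homOf_monomial, eq_smul_of_mem hI φ.2 β hβ]
  right_inv c := Subtype.ext (cof_homOf hI c.2)

theorem tPiece_eq_bot (hI : IsMonomial I) (α : σ → ℤ) (h : ∀ c ∈ Cf I α, c = 0) : tPiece I α = ⊥ := by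
  rw [Submodule.eq_bot_iff]
  intro φ hφ
  refine tgt_ext hI fun β hβ => ?_
  rw [eq_smul_of_mem hI hφ β hβ, h _ (cof_mem hI α φ)]
  simp

theorem eq_zero_of_nonpos {α : σ → ℤ} (hI : IsMonomial I) [Module.Finite k (MvPolynomial σ k ⧸ I)]
    (hle : ∀ i, α i ≤ 0) {x y : σ} (hx : α x < 0) (hyn : α y < 0) (hxy : x ≠ y) {c : exps I → k}
    (hc : c ∈ Cf I α) : c = 0 := by
  suffices H : ∀ (m : ℕ) (β : exps I), shift β.1 α y < m → c β = 0 from
    funext fun β => H _ β (Nat.lt_succ_self _)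
  intro m
  induction m with
  | zero => exact fun β h => absurd h (Nat.not_lt_zero _)
  | succ m ih =>
    intro β hm
    by_cases ho : Out I α β.1
    swap
    · exact hc.1 β ho
    let B : ℕ → exps I := fun t => ⟨β.1 + Finsupp.single x t, mem_exps_of_le β.2 le_self_add⟩
    obtain ⟨N, hN⟩ := exists_single_mem hI x
    have hex : ∃ t, ¬ Out I α (B (t + 1)).1 := ⟨N, fun h => h.2 (mem_exps_of_le hN (by
      rw [shift_add ho.1]
      exact le_trans (Finsupp.single_mono (Nat.le_succ N)) le_add_self))⟩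
    let t := Nat.find hex
    have hB0 : B 0 = β := Subtype.ext (by simp [B])
    have hout : ∀ s ≤ t, Out I α (B s).1 := fun s hs => by
      rcases s with _ | s
      · rw [hB0]; exact ho
      · exact not_not.1 (Nat.find_min hex hs)
    have hconst : ∀ s ≤ t, c (B s) = c β := by
      intro s hs
      induction s with
      | zero => rw [hB0]
      | succ s ihs =>
        have hs' : (B (s + 1)).1 = (B s).1 + Finsupp.single x 1 := by
          simp [B, Finsupp.single_add, add_assoc]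
        have := hc.2 (B s) x (hs' ▸ hout _ hs)
        rw [← ihs (Nat.le_of_succ_le hs), ← this]
        exact congrArg c (Subtype.ext hs')
    rw [← hconst t le_rfl]
    have hno : ¬ Out I α (B (t + 1)).1 := Nat.find_spec hex
    have hot := hout t le_rfl
    have hmem : shift (B (t + 1)).1 α ∈ exps I := by
      by_contra h
      refine hno ⟨fun i => ?_, h⟩
      have := ho.1 i
      simp [B]; omega
    have hy : 1 ≤ (B t).1 y := by have := hot.1 y; have := hyn; omega
    have hdec : (B t).1 - Finsupp.single y 1 ∈ exps I := by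
      refine mem_exps_of_le hmem fun i => ?_
      have := hle i
      have := ho.1 i
      by_cases hix : i = x
      · subst hix
        simp [shift_apply, B, Finsupp.single_eq_of_ne hxy]
        omega
      · by_cases hiy : i = y
        · subst hiy
          simp [shift_apply, B, Finsupp.single_eq_of_ne hix]
          omega
        · simp [shift_apply, B, Finsupp.single_eq_of_ne hix, Finsupp.single_eq_of_ne hiy]
          omega
    have heq : (B t).1 = ((B t).1 - Finsupp.single y 1) + Finsupp.single y 1 :=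
      (tsub_add_cancel_of_le (Finsupp.single_le_iff.2 hy)).symm
    have h2 := hc.2 ⟨_, hdec⟩ y (heq ▸ hot)
    have h3 : c (B t) = c ⟨_, hdec⟩ := (congrArg c (Subtype.ext heq)).trans h2
    rw [h3]
    have hBy : (B t).1 y = β.1 y := by simp [B, Finsupp.single_eq_of_ne hxy.symm]
    have := ho.1 y
    have := hyn
    rw [shift_apply] at hm
    rw [hBy] at hy
    by_cases h0 : (β.1 y : ℤ) + α y = 0
    · refine hc.1 _ fun h => ?_
      have h' := h.1 y
      simp only [Finsupp.tsub_apply, Finsupp.single_eq_same, hBy, Nat.cast_sub hy, Nat.cast_one] at h'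
      omega
    refine ih _ ?_
    rw [shift_apply, Finsupp.tsub_apply, Finsupp.single_eq_same, hBy, Nat.cast_sub hy, Nat.cast_one]
    omega

theorem eq_zero_of_neg {α : σ → ℤ} (hI : IsMonomial I) [Module.Finite k (MvPolynomial σ k ⧸ I)]
    (hα : ∀ i, α i < 0) {x y : σ} (hxy : x ≠ y) {c : exps I → k} (hc : c ∈ Cf I α) : c = 0 :=
  eq_zero_of_nonpos hI (fun i => (hα i).le) (hα x) (hα y) hxy hc

theorem exists_bound (hI : IsMonomial I) [Module.Finite k (MvPolynomial σ k ⧸ I)] :
    ∃ N : σ →₀ ℕ, ∀ β ∈ exps I, β ⊓ N ∈ exps I := by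
  choose N hN using exists_single_mem hI
  refine ⟨Finsupp.equivFunOnFinite.symm N, fun β hβ => ?_⟩
  by_cases h : ∃ i, N i ≤ β i
  · obtain ⟨i, hi⟩ := h
    exact mem_exps_of_le (hN i) (Finsupp.single_le_iff.2 (le_inf hi le_rfl))
  · simp only [not_exists, not_le] at h
    rwa [inf_eq_left.2 fun i => (h i).le]

theorem Cf.eq_of_le {α : σ → ℤ} {c : exps I → k} (hc : c ∈ Cf I α) :
    ∀ (δ : σ →₀ ℕ) (g : exps I), c ⟨g.1 + δ, mem_exps_of_le g.2 le_self_add⟩ ≠ 0 → c g ≠ 0 := by
  intro δ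
  induction δ using Finsupp.induction_linear with
  | zero => intro g h; simpa using h
  | add a b ha hb =>
    intro g h
    refine ha g (hb ⟨g.1 + a, mem_exps_of_le g.2 le_self_add⟩ ?_)
    simpa [add_assoc] using h
  | single i n =>
    induction n with
    | zero => intro g h; simpa using h
    | succ n ihn =>
      intro g h
      refine ihn g ?_
      have e : g.1 + Finsupp.single i (n + 1) = g.1 + Finsupp.single i n + Finsupp.single i 1 := by
        rw [Finsupp.single_add, add_assoc]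
      have ho : Out I α (g.1 + Finsupp.single i n + Finsupp.single i 1) := by
        by_contra hn
        exact h (hc.1 _ (by simpa only [e] using hn))
      rw [← hc.2 ⟨_, mem_exps_of_le g.2 le_self_add⟩ i ho]
      simpa only [e] using h

/-- The tangent space is spanned by its graded pieces. -/
theorem mem_iSup_tPiece (hI : IsMonomial I) [Module.Finite k (MvPolynomial σ k ⧸ I)] (φ : Tgt I) :
    φ ∈ ⨆ α : {α : σ → ℤ // tPiece I α ≠ ⊥}, tPiece I α.1 := by
  obtain ⟨N, hN⟩ := exists_bound hI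
  haveI := finite_outside hI
  haveI := Fintype.ofFinite {β : σ →₀ ℕ // β ∉ exps I}
  let A : Finset (σ → ℤ) := (Finset.Iic N ×ˢ
    (Finset.univ : Finset {β : σ →₀ ℕ // β ∉ exps I})).image fun p i => (p.2.1 i : ℤ) - p.1 i
  have hA : ∀ α β, cof hI α φ β ≠ 0 → α ∈ A := by
    intro α β h
    have hg := hN β.1 β.2
    have h' : cof hI α φ ⟨β.1 ⊓ N, hg⟩ ≠ 0 :=
      Cf.eq_of_le (cof_mem hI α φ) (β.1 - β.1 ⊓ N) ⟨_, hg⟩
        (by simpa only [add_tsub_cancel_of_le (inf_le_left : β.1 ⊓ N ≤ β.1)] using h)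
    have ho : Out I α (β.1 ⊓ N) := by
      by_contra hn
      exact h' ((cof_mem hI α φ).1 _ hn)
    refine Finset.mem_image.2 ⟨(β.1 ⊓ N, ⟨shift (β.1 ⊓ N) α, ho.2⟩), ?_, funext fun i => ?_⟩
    · simp
    · rw [shift_cast ho.1]; ring
  have e : φ = ∑ α ∈ A, homOf hI (cof_mem hI α φ) := by
    refine tgt_ext hI fun β hβ => eq_of_qcoef hI fun γ hγ => ?_
    rw [LinearMap.sum_apply, map_sum]
    simp only [homOf_monomial, map_smul, qcoef_mk hI hγ, coeff_monomial, smul_eq_mul, mul_ite, mul_one,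
      mul_zero]
    let α₀ : σ → ℤ := fun i => (γ i : ℤ) - β i
    have hs : shift β α₀ = γ := Finsupp.ext fun i => by simp [shift_apply, α₀]
    have ho : Out I α₀ β := ⟨fun i => by simp [α₀], hs ▸ hγ⟩
    rw [Finset.sum_eq_single α₀]
    · rw [if_pos hs]
      show _ = if Out I α₀ β then _ else _
      rw [if_pos ho, hs]
    · intro α _ hne
      split_ifs with h
      · by_contra hne0
        have hoα : Out I α β := by
          by_contra hn
          exact hne0 ((cof_mem hI α φ).1 ⟨β, hβ⟩ hn)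
        refine hne (funext fun i => ?_)
        have := shift_cast hoα.1 i
        rw [h] at this
        simp [α₀]; omega
      · rfl
    · intro hn
      rw [if_pos hs]
      by_contra h0
      exact hn (hA α₀ ⟨β, hβ⟩ h0)
  rw [e]
  refine Submodule.sum_mem _ fun α _ => ?_
  by_cases hb : tPiece I α = ⊥
  · have := homOf_mem hI (cof_mem hI α φ)
    rw [hb, Submodule.mem_bot] at this
    rw [this]; exact zero_mem _
  · exact Submodule.mem_iSup_of_mem ⟨α, hb⟩ (homOf_mem hI (cof_mem hI α φ))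

/-- S13434. -/
theorem vanishing (hI : IsMonomial I) [Module.Finite k (MvPolynomial σ k ⧸ I)] [Nontrivial σ] :
    (∀ α : σ → ℤ, ((∀ i, 0 ≤ α i) ∨ (∀ i, α i < 0)) → tPiece I α = ⊥) ∧
      (⨆ N : {N : Set σ // N.Nonempty ∧ N ≠ Set.univ}, sigPiece I N.1) = ⊤ := by
  have h1 : ∀ α : σ → ℤ, ((∀ i, 0 ≤ α i) ∨ (∀ i, α i < 0)) → tPiece I α = ⊥ := by
    intro α hα
    refine tPiece_eq_bot hI α fun c hc => ?_
    rcases hα with h | h
    · exact funext fun β => hc.1 β (not_out_of_nonneg h β.2)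
    · obtain ⟨x, y, hxy⟩ := exists_pair_ne σ
      exact eq_zero_of_neg hI h hxy hc
  refine ⟨h1, eq_top_iff.2 fun φ _ => ?_⟩
  refine (iSup_le fun α => ?_ : (⨆ α : {α : σ → ℤ // tPiece I α ≠ ⊥}, tPiece I α.1) ≤ _)
    (mem_iSup_tPiece hI φ)
  let N : Set σ := {i | α.1 i < 0}
  have hN : N.Nonempty ∧ N ≠ Set.univ := by
    refine ⟨?_, fun h => α.2 (h1 _ (Or.inr fun i => (h.symm ▸ Set.mem_univ i : i ∈ N)))⟩
    by_contra h
    exact α.2 (h1 _ (Or.inl fun i => not_lt.1 fun hi => h ⟨i, hi⟩))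
  refine le_trans ?_ (le_iSup (fun N : {N : Set σ // N.Nonempty ∧ N ≠ Set.univ} => sigPiece I N.1) ⟨N, hN⟩)
  exact le_iSup (fun a : {a : σ → ℤ // ∀ i, a i < 0 ↔ i ∈ N} => tPiece I a.1) ⟨α.1, fun i => Iff.rfl⟩

end Groth.Agent.HilbPt29
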