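import Groth.Agent.Lib.HilbPt29.Comp
import Mathlib.RingTheory.MvPolynomial.Ideal
import Mathlib.Algebra.Order.Antidiag.FinsuppEquiv

/-!
# The tangent space at a power of the irrelevant ideal
-/

set_option autoImplicit false
set_option maxHeartbeats 400000
universe u

open MvPolynomial W4c1hilbpn
open scoped Classical

noncomputable section

namespace Groth.Agent.HilbPt29

section sum

variable {σ : Type} [Finite σ] {k : Type u} [Field k] {I : Ideal (MvPolynomial σ k)}

theorem cof_eq_zero_of_mem (hI : IsMonomial I) {α α' : σ → ℤ} (hne : α ≠ α') {φ : Tgt I}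
    (hφ : φ ∈ tPiece I α') : cof hI α φ = 0 := by
  funext β
  show (if _ then _ else _) = _
  split_ifs with h
  · rw [eq_smul_of_mem hI hφ β.1 β.2, map_smul, qcoef_mk hI h.2, coeff_monomial]
    split_ifs with e
    · by_cases h' : Out I α' β.1
      · refine absurd (funext fun i => ?_) hne
        have h1 := shift_cast h.1 i
        have h2 := shift_cast h'.1 i
        have h3 := DFunLike.congr_fun e i
        omega
      · rw [(cof_mem hI α' φ).1 β h']; simp
    · simp
  · rfl

theorem finrank_iSup_tPiece (hI : IsMonomial I) {ι : Type} (f : ι → σ → ℤ) (A : Finset (σ → ℤ))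
    (hA : ∀ i, tPiece I (f i) ≠ ⊥ → f i ∈ A) (hP : ∀ a ∈ A, ∃ i, f i = a)
    (hfin : ∀ a ∈ A, Module.Finite k (tPiece I a)) :
    Module.finrank k ↥(⨆ i, tPiece I (f i)) = ∑ a ∈ A, Module.finrank k (tPiece I a) := by
  haveI : ∀ a : A, Module.Finite k (tPiece I a.1) := fun a => hfin a.1 a.2
  haveI : ∀ a : A, Module.Free k (tPiece I a.1) := fun a => Module.Free.of_equiv (pieceEquiv hI a.1).symm
  let Φ : ((a : A) → tPiece I a.1) →ₗ[k] Tgt I :=
    ∑ a : A, (tPiece I a.1).subtype ∘ₗ LinearMap.proj a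
  have hΦ : ∀ x, Φ x = ∑ a : A, (x a).1 := fun x => by simp [Φ]
  have hinj : Function.Injective Φ := by
    rw [injective_iff_map_eq_zero]
    intro x hx
    funext a
    refine (pieceEquiv hI a.1).injective (Subtype.ext ?_)
    rw [Pi.zero_apply, map_zero]
    show cof hI a.1 (x a).1 = 0
    have h := congrArg (cof hI a.1) hx
    rw [map_zero, hΦ, map_sum, Finset.sum_eq_single a
      (fun b _ hb => cof_eq_zero_of_mem hI (fun e => hb (Subtype.ext e.symm)) (x b).2)
      (fun h => absurd (Finset.mem_univ a) h)] at h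
    exact h
  have hrange : LinearMap.range Φ = ⨆ i, tPiece I (f i) := by
    refine le_antisymm ?_ (iSup_le fun i => ?_)
    · rintro _ ⟨x, rfl⟩
      rw [hΦ]
      refine Submodule.sum_mem _ fun a _ => ?_
      obtain ⟨i, hi⟩ := hP a.1 a.2
      refine Submodule.mem_iSup_of_mem i ?_
      rw [hi]
      exact (x a).2
    · by_cases hb : tPiece I (f i) = ⊥
      · rw [hb]; exact bot_le
      · intro φ hφ
        refine ⟨Pi.single ⟨f i, hA i hb⟩ ⟨φ, hφ⟩, ?_⟩
        rw [hΦ, Finset.sum_eq_single ⟨f i, hA i hb⟩ (fun b _ hb' => by rw [Pi.single_eq_of_ne hb']; rfl)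
          (fun h => absurd (Finset.mem_univ _) h), Pi.single_eq_same]
  rw [← hrange, LinearMap.finrank_range_of_inj hinj, Module.finrank_pi_fintype k,
    Finset.sum_coe_sort A fun a => Module.finrank k (tPiece I a)]

theorem iSup_tPiece_eq_top (hI : IsMonomial I) [Module.Finite k (MvPolynomial σ k ⧸ I)] :
    (⨆ α : σ → ℤ, tPiece I α) = ⊤ :=
  eq_top_iff.2 fun φ _ => (iSup_le fun a => le_iSup (fun b => tPiece I b) a.1 :
    (⨆ α : {α : σ → ℤ // tPiece I α ≠ ⊥}, tPiece I α.1) ≤ _) (mem_iSup_tPiece hI φ)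

end sum

variable {k : Type u} [Field k] {n : ℕ}

/-- The power of the irrelevant ideal. -/
abbrev mPow (k : Type u) [Field k] (n r : ℕ) : Ideal (MvPolynomial (Fin n) k) :=
  (Ideal.span (Set.range (MvPolynomial.X : Fin n → MvPolynomial (Fin n) k))) ^ r

theorem mem_mPow {r : ℕ} (p : MvPolynomial (Fin n) k) :
    p ∈ mPow k n r ↔ ∀ x ∈ p.support, r ≤ x.degree :=
  mem_pow_idealOfVars_iff r p

theorem mem_exps_mPow {r : ℕ} (β : Fin n →₀ ℕ) : β ∈ exps (mPow k n r) ↔ r ≤ β.degree :=
  monomial_mem_pow_idealOfVars_iff r β one_ne_zero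

theorem isMonomial_mPow (r : ℕ) : IsMonomial (mPow k n r) := fun p hp β hβ =>
  (mem_exps_mPow β).2 ((mem_mPow p).1 hp β hβ)

instance finite_quotient_mPow (r : ℕ) : Module.Finite k (MvPolynomial (Fin n) k ⧸ mPow k n r) := by
  let D : Finset (Fin n →₀ ℕ) := (Finset.range r).biUnion fun d => (Finset.univ : Finset (Fin n)).finsuppAntidiag d
  let Φ : (D → k) →ₗ[k] (MvPolynomial (Fin n) k ⧸ mPow k n r) :=
    Fintype.linearCombination k fun β : D => Ideal.Quotient.mk _ (monomial β.1 1)
  refine Module.Finite.of_surjective Φ fun z => ?_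
  obtain ⟨p, rfl⟩ := Ideal.Quotient.mk_surjective z
  refine ⟨fun β => coeff β.1 p, eq_of_qcoef (isMonomial_mPow r) fun γ hγ => ?_⟩
  have hD : γ ∈ D := by
    refine Finset.mem_biUnion.2 ⟨γ.degree, Finset.mem_range.2 (not_le.1 fun h => hγ ((mem_exps_mPow γ).2 h)), ?_⟩
    simp [Finset.mem_finsuppAntidiag, Finsupp.degree_eq_sum]
  rw [Fintype.linearCombination_apply, map_sum]
  simp only [map_smul, qcoef_mk (isMonomial_mPow r) hγ, coeff_monomial, smul_eq_mul, mul_ite, mul_one, mul_zero]
  rw [Finset.sum_eq_single ⟨γ, hD⟩ (fun b _ hb => if_neg fun h => hb (Subtype.ext h))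
    (fun h => absurd (Finset.mem_univ _) h), if_pos rfl]

theorem out_mPow_iff {r : ℕ} {α : Fin n → ℤ} {β : Fin n →₀ ℕ} :
    Out (mPow k n r) α β ↔ (∀ i, 0 ≤ (β i : ℤ) + α i) ∧ (β.degree : ℤ) + ∑ i, α i < r := by
  refine and_congr_right fun h => ?_
  rw [mem_exps_mPow, not_le]
  have : ((shift β α).degree : ℤ) = (β.degree : ℤ) + ∑ i, α i := by
    simp [Finsupp.degree_eq_sum, shift_cast h, Finset.sum_add_distrib]
  omega

/-- The exponents carrying a piece of a power of the irrelevant ideal. -/
def powSet (r : ℕ) (α : Fin n → ℤ) : Finset (Fin n →₀ ℕ) :=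
  ((Finset.univ : Finset (Fin n)).finsuppAntidiag r).filter fun β => ∀ i, 0 ≤ (β i : ℤ) + α i

theorem mem_powSet {r : ℕ} {α : Fin n → ℤ} {β : Fin n →₀ ℕ} :
    β ∈ powSet r α ↔ β.degree = r ∧ ∀ i, 0 ≤ (β i : ℤ) + α i := by
  simp [powSet, Finset.mem_finsuppAntidiag, Finsupp.degree_eq_sum]

theorem cf_eq_zero {r : ℕ} [Nontrivial (Fin n)] {α : Fin n → ℤ} (hs : ∑ i, α i ≠ -1)
    {c : exps (mPow k n r) → k} (hc : c ∈ Cf (mPow k n r) α) : c = 0 := by
  rcases le_or_gt 0 (∑ i, α i) with h0 | h0
  · refine funext fun β => hc.1 β fun ho => ?_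
    have := (out_mPow_iff.1 ho).2
    have := (mem_exps_mPow β.1).1 β.2
    omega
  obtain ⟨j, -, hj⟩ := Finset.exists_lt_of_sum_lt
    (show ∑ i : Fin n, α i < ∑ i : Fin n, (0 : ℤ) by simpa using h0)
  obtain ⟨l, hl⟩ := exists_ne j
  suffices H : ∀ (m d : ℕ) (β : exps (mPow k n r)), β.1.degree ≤ r + d → shift β.1 α j ≤ m → c β = 0 from
    funext fun β => H _ β.1.degree β le_add_self le_rfl
  intro m d
  induction d generalizing m with
  | zero =>
    induction m with
    | zero =>
      intro β hd hm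
      by_contra hne
      have ho : Out _ α β.1 := by_contra fun h => hne (hc.1 β h)
      have hdeg : β.1.degree = r := le_antisymm hd ((mem_exps_mPow _).1 β.2)
      have hj1 : 1 ≤ β.1 j := by have := ho.1 j; omega
      have h1 : Out (mPow k n r) α (β.1 + Finsupp.single l 1) := out_mPow_iff.2 ⟨Out.nonneg_add ho.1 _, by
        rw [map_add, Finsupp.degree_single, hdeg]; push_cast; omega⟩
      have hle : Finsupp.single j 1 ≤ β.1 + Finsupp.single l 1 := Finsupp.single_le_iff.2 (by simp; omega)
      have heq : β.1 + Finsupp.single l 1 - Finsupp.single j 1 + Finsupp.single j 1 = β.1 + Finsupp.single l 1 :=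
        tsub_add_cancel_of_le hle
      have hmem : β.1 + Finsupp.single l 1 - Finsupp.single j 1 ∈ exps (mPow k n r) := by
        rw [mem_exps_mPow]
        have := congrArg Finsupp.degree heq
        simp [Finsupp.degree_single] at this
        omega
      have h2 := hc.2 ⟨_, hmem⟩ j (by simp only [heq]; exact h1)
      simp only [heq] at h2
      rw [← hc.2 β l h1, h2] at hne
      refine hne (hc.1 _ fun h => ?_)
      have := h.1 j
      have := ho.1 j
      rw [shift_apply] at hm
      simp [Finsupp.single_eq_of_ne hl.symm, Nat.cast_sub hj1] at *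
      omega
    | succ m ihm =>
      intro β hd hm
      by_contra hne
      have ho : Out _ α β.1 := by_contra fun h => hne (hc.1 β h)
      have hdeg : β.1.degree = r := le_antisymm hd ((mem_exps_mPow _).1 β.2)
      have hj1 : 1 ≤ β.1 j := by have := ho.1 j; omega
      have h1 : Out (mPow k n r) α (β.1 + Finsupp.single l 1) := out_mPow_iff.2 ⟨Out.nonneg_add ho.1 _, by
        rw [map_add, Finsupp.degree_single, hdeg]; push_cast; omega⟩
      have hle : Finsupp.single j 1 ≤ β.1 + Finsupp.single l 1 := Finsupp.single_le_iff.2 (by simp; omega)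
      have heq : β.1 + Finsupp.single l 1 - Finsupp.single j 1 + Finsupp.single j 1 = β.1 + Finsupp.single l 1 :=
        tsub_add_cancel_of_le hle
      have hmem : β.1 + Finsupp.single l 1 - Finsupp.single j 1 ∈ exps (mPow k n r) := by
        rw [mem_exps_mPow]
        have := congrArg Finsupp.degree heq
        simp [Finsupp.degree_single] at this
        omega
      have h2 := hc.2 ⟨_, hmem⟩ j (by simp only [heq]; exact h1)
      simp only [heq] at h2
      rw [← hc.2 β l h1, h2] at hne
      refine hne (ihm _ ?_ ?_)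
      · have := congrArg Finsupp.degree heq
        simp [Finsupp.degree_single] at this ⊢
        omega
      · have := ho.1 j
        rw [shift_apply] at hm ⊢
        simp [Finsupp.single_eq_of_ne hl.symm, Nat.cast_sub hj1]
        omega
  | succ d ihd =>
    intro β hd _
    by_contra hne
    have ho : Out _ α β.1 := by_contra fun h => hne (hc.1 β h)
    rcases Nat.lt_or_ge β.1.degree (r + (d + 1)) with h | h
    · exact hne (ihd _ β (by omega) le_rfl)
    obtain ⟨i, hi⟩ : ∃ i, 1 ≤ β.1 i := ⟨j, by have := ho.1 j; omega⟩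
    have heq : β.1 - Finsupp.single i 1 + Finsupp.single i 1 = β.1 :=
      tsub_add_cancel_of_le (Finsupp.single_le_iff.2 hi)
    have hdd : (β.1 - Finsupp.single i 1).degree + 1 = β.1.degree := by
      have := congrArg Finsupp.degree heq
      simpa [Finsupp.degree_single] using this
    have hmem : β.1 - Finsupp.single i 1 ∈ exps (mPow k n r) := by rw [mem_exps_mPow]; omega
    have h2 := hc.2 ⟨_, hmem⟩ i (by simp only [heq]; exact ho)
    simp only [heq] at h2
    exact hne (h2.trans (ihd _ _ (show (β.1 - Finsupp.single i 1).degree ≤ r + d by omega) le_rfl))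

theorem finrank_cf_mPow {r : ℕ} [Nontrivial (Fin n)] (α : Fin n → ℤ) :
    Module.finrank k (Cf (mPow k n r) α) = if ∑ i, α i = -1 then (powSet r α).card else 0 := by
  split_ifs with hs
  · have hmem : ∀ β ∈ powSet r α, β ∈ exps (mPow k n r) := fun β hβ =>
      (mem_exps_mPow β).2 (mem_powSet.1 hβ).1.ge
    have hout : ∀ β : exps (mPow k n r), Out (mPow k n r) α β.1 ↔ β.1 ∈ powSet r α := fun β => by
      rw [out_mPow_iff, mem_powSet, hs]
      have := (mem_exps_mPow β.1).1 β.2
      constructor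
      · rintro ⟨h1, h2⟩; exact ⟨by omega, h1⟩
      · rintro ⟨h1, h2⟩; exact ⟨h2, by omega⟩
    let L : Cf (mPow k n r) α →ₗ[k] (powSet r α → k) :=
      { toFun := fun c β => c.1 ⟨β.1, hmem _ β.2⟩, map_add' := fun _ _ => rfl, map_smul' := fun _ _ => rfl }
    have hL : Function.Bijective L := by
      refine ⟨fun c d h => Subtype.ext (funext fun β => ?_), fun f => ?_⟩
      · by_cases ho : Out (mPow k n r) α β.1
        · exact congrFun h ⟨β.1, (hout β).1 ho⟩
        · rw [c.2.1 β ho, d.2.1 β ho]
      · refine ⟨⟨fun β => if h : β.1 ∈ powSet r α then f ⟨β.1, h⟩ else 0,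
          fun β h => dif_neg fun h' => h ((hout β).2 h'), fun β i h => ?_⟩, funext fun β => dif_pos β.2⟩
        exfalso
        have := (out_mPow_iff.1 h).2
        have := (mem_exps_mPow β.1).1 β.2
        simp [Finsupp.degree_single, hs] at *
        omega
    rw [(LinearEquiv.ofBijective L hL).finrank_eq, Module.finrank_fintype_fun_eq_card, Fintype.card_coe]
  · haveI : Subsingleton (Cf (mPow k n r) α) :=
      ⟨fun a b => Subtype.ext ((cf_eq_zero hs a.2).trans (cf_eq_zero hs b.2).symm)⟩
    exact Module.finrank_zero_of_subsingleton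

theorem card_powSet [NeZero n] (r : ℕ) (α : Fin n → ℤ) :
    (powSet r α).card = if ∑ i, (-α i).toNat ≤ r
      then Nat.choose (n + r - (∑ i, (-α i).toNat) - 1) (n - 1) else 0 := by
  let a : Fin n →₀ ℕ := Finsupp.equivFunOnFinite.symm fun i => (-α i).toNat
  have hdeg : a.degree = ∑ i, (-α i).toNat := by simp [Finsupp.degree_eq_sum, a]
  have hiff : ∀ β : Fin n →₀ ℕ, β ∈ powSet r α ↔ β.degree = r ∧ a ≤ β := fun β => by
    rw [mem_powSet]
    refine and_congr_right fun _ => forall_congr' fun i => ?_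
    simp [a]
    omega
  split_ifs with hw
  · have e : (powSet r α).card = ((Finset.univ : Finset (Fin n)).finsuppAntidiag (r - ∑ i, (-α i).toNat)).card := by
      refine Finset.card_bij' (fun β _ => β - a) (fun δ _ => δ + a) (fun β hβ => ?_) (fun δ hδ => ?_)
        (fun β hβ => tsub_add_cancel_of_le ((hiff β).1 hβ).2) (fun δ _ => add_tsub_cancel_right δ a)
      · obtain ⟨h1, h2⟩ := (hiff β).1 hβ
        have := congrArg Finsupp.degree (tsub_add_cancel_of_le h2)
        rw [map_add, hdeg, h1] at this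
        simp only [Finset.mem_finsuppAntidiag, Finset.subset_univ, and_true, ← Finsupp.degree_eq_sum]
        omega
      · simp only [Finset.mem_finsuppAntidiag, Finset.subset_univ, and_true, ← Finsupp.degree_eq_sum] at hδ
        refine (hiff _).2 ⟨?_, le_add_self⟩
        rw [map_add, hdeg, hδ]
        omega
    rw [e, Finset.card_finsuppAntidiag_nat_eq_choose, Finset.card_univ, Fintype.card_fin]
    have := NeZero.pos n
    rw [← Nat.choose_symm (n := n + r - ∑ i, (-α i).toNat - 1) (by omega)]
    congr 1 <;> omega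
  · refine Finset.card_eq_zero.2 (Finset.eq_empty_of_forall_notMem fun β hβ => hw ?_)
    obtain ⟨h1, h2⟩ := (hiff β).1 hβ
    rw [← hdeg, ← h1]
    exact Finsupp.degree_mono h2

/-- S13435. -/
theorem finrank_tPiece_mPow (hn : 2 ≤ n) (r : ℕ) (α : Fin n → ℤ) :
    Module.finrank k (tPiece (mPow k n r) α) =
      if (∑ i, α i = -1 ∧ ∑ i, (-α i).toNat ≤ r)
        then Nat.choose (n + r - (∑ i, (-α i).toNat) - 1) (n - 1) else 0 := by
  haveI : Nontrivial (Fin n) := Fin.nontrivial_iff_two_le.2 hn
  haveI : NeZero n := ⟨by omega⟩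
  rw [(pieceEquiv (isMonomial_mPow r) α).finrank_eq, finrank_cf_mPow, card_powSet]
  split_ifs <;> tauto

end Groth.Agent.HilbPt29
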