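import Mathlib.LinearAlgebra.Matrix.Rank
import Mathlib.Algebra.BigOperators.Intervals

/-!
# Functions on a staircase and their duality
-/

set_option autoImplicit false
set_option maxHeartbeats 400000
universe u

open scoped Classical Matrix

noncomputable section

namespace Groth.Agent.HilbPt29.Stairs

variable (k : Type u) [Field k] (b : ℕ × ℕ → ℕ) (x y c : ℤ)

/-- The translated point. -/
def r (p : ℕ × ℕ) : ℕ × ℕ := (((p.1 : ℤ) + x).toNat, ((p.2 : ℤ) + y).toNat)

/-- A slot at `p`, with value tested at `q`. -/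
def Slot (p q : ℕ × ℕ) : Prop :=
  0 ≤ (q.1 : ℤ) + x ∧ 0 ≤ (q.2 : ℤ) + y ∧ 0 ≤ (b p : ℤ) + c ∧ (b p : ℤ) + c < b (r x y q)

/-- Functions on slots compatible along edges. -/
def K : Submodule k (ℕ × ℕ → k) where
  carrier := {φ | (∀ p, ¬ Slot b x y c p p → φ p = 0) ∧
    (∀ p : ℕ × ℕ, Slot b x y c p (p.1 + 1, p.2) → φ p = φ (p.1 + 1, p.2)) ∧
    ∀ p : ℕ × ℕ, Slot b x y c p (p.1, p.2 + 1) → φ p = φ (p.1, p.2 + 1)}
  zero_mem' := ⟨fun _ _ => rfl, fun _ _ => rfl, fun _ _ => rfl⟩
  add_mem' := fun {u v} hu hv => ⟨fun p h => by simp [hu.1 p h, hv.1 p h],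
    fun p h => by simp [hu.2.1 p h, hv.2.1 p h], fun p h => by simp [hu.2.2 p h, hv.2.2 p h]⟩
  smul_mem' := fun t u hu => ⟨fun p h => by simp [hu.1 p h],
    fun p h => by simp [hu.2.1 p h], fun p h => by simp [hu.2.2 p h]⟩

variable {k b}

/-- The staircase is antitone and supported in the box. -/
structure Bd (b : ℕ × ℕ → ℕ) (N : ℕ) : Prop where
  anti : ∀ p q : ℕ × ℕ, p.1 ≤ q.1 → p.2 ≤ q.2 → b q ≤ b p
  box : ∀ p : ℕ × ℕ, 0 < b p → p.1 < N ∧ p.2 < N
  le : ∀ p : ℕ × ℕ, b p ≤ N

/-- The box. -/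
abbrev box (N : ℕ) : Finset (ℕ × ℕ) := Finset.range N ×ˢ Finset.range N

variable (a : ℕ × ℕ) (e : ℕ)

/-- Slots in negative height `e + 1`, tested at the offset `d`. -/
def T (b : ℕ × ℕ → ℕ) (N : ℕ) (d : ℕ × ℕ) : Finset (ℕ × ℕ) :=
  (box N).filter fun p => e < b p ∧ b p ≤ b (p.1 + d.1 + a.1, p.2 + d.2 + a.2) + e

variable {N : ℕ}

theorem mem_T (B : Bd b N) {d p : ℕ × ℕ} :
    p ∈ T a e b N d ↔ e < b p ∧ b p ≤ b (p.1 + d.1 + a.1, p.2 + d.2 + a.2) + e := by
  refine ⟨fun h => (Finset.mem_filter.1 h).2, fun h => Finset.mem_filter.2 ⟨?_, h⟩⟩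
  have := B.box p (by omega)
  simpa [box] using this

theorem slot_iff (p : ℕ × ℕ) (d : ℕ × ℕ) :
    Slot b (a.1 : ℤ) (a.2 : ℤ) (-(e : ℤ) - 1) p (p.1 + d.1, p.2 + d.2) ↔
      e < b p ∧ b p ≤ b (p.1 + d.1 + a.1, p.2 + d.2 + a.2) + e := by
  have : r (a.1 : ℤ) (a.2 : ℤ) (p.1 + d.1, p.2 + d.2) = (p.1 + d.1 + a.1, p.2 + d.2 + a.2) := by
    simp only [r]; congr 1
  rw [Slot, this]
  constructor <;> intro h <;> omega

theorem slot_zero (p : ℕ × ℕ) : Slot b (a.1 : ℤ) (a.2 : ℤ) (-(e : ℤ) - 1) p p ↔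
    e < b p ∧ b p ≤ b (p.1 + a.1, p.2 + a.2) + e := by
  have := slot_iff (b := b) a e p (0, 0)
  simpa using this

/-- The slot condition on the dual side. -/
theorem slot_dual (q q' : ℕ × ℕ) :
    Slot b (-(a.1 : ℤ) - 1) (-(a.2 : ℤ) - 1) (e : ℤ) q q' ↔
      a.1 + 1 ≤ q'.1 ∧ a.2 + 1 ≤ q'.2 ∧ b q + e < b (q'.1 - (a.1 + 1), q'.2 - (a.2 + 1)) := by
  have : r (-(a.1 : ℤ) - 1) (-(a.2 : ℤ) - 1) q' = (q'.1 - (a.1 + 1), q'.2 - (a.2 + 1)) := by
    simp only [r]; congr 1 <;> omega
  rw [Slot, this]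
  constructor <;> intro h <;> omega

/-- The value one step down in the first coordinate. -/
def prev1 (W : ℕ × ℕ → k) (p : ℕ × ℕ) : k := if p.1 = 0 then 0 else W (p.1 - 1, p.2)

/-- The value one step down in the second coordinate. -/
def prev2 (W : ℕ × ℕ → k) (p : ℕ × ℕ) : k := if p.2 = 0 then 0 else W (p.1, p.2 - 1)

variable (k b) in
/-- Potentials. -/
def L : Submodule k (ℕ × ℕ → k) where
  carrier := {W | (∀ p, ¬ e < b p → W p = 0) ∧
    (∀ p : ℕ × ℕ, e < b p → ¬ b p ≤ b (p.1 + 1 + a.1, p.2 + a.2) + e → W p = prev2 W p) ∧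
    ∀ p : ℕ × ℕ, e < b p → ¬ b p ≤ b (p.1 + a.1, p.2 + 1 + a.2) + e → W p = prev1 W p}
  zero_mem' := ⟨fun _ _ => rfl, fun _ _ _ => by simp [prev2], fun _ _ _ => by simp [prev1]⟩
  add_mem' := fun {u v} hu hv => ⟨fun p h => by simp [hu.1 p h, hv.1 p h],
    fun p h h' => by simp [prev2, hu.2.1 p h h', hv.2.1 p h h']; split_ifs <;> simp,
    fun p h h' => by simp [prev1, hu.2.2 p h h', hv.2.2 p h h']; split_ifs <;> simp⟩
  smul_mem' := fun t u hu => ⟨fun p h => by simp [hu.1 p h],
    fun p h h' => by simp [prev2, hu.2.1 p h h'], fun p h h' => by simp [prev1, hu.2.2 p h h']⟩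

variable (k) in
/-- Potentials split into free values and the dual space. -/
theorem finrank_L (B : Bd b N) :
    ∃ f : L k b a e ≃ₗ[k] (↥(T a e b N (1, 1)) → k) × K k b (-(a.1 : ℤ) - 1) (-(a.2 : ℤ) - 1) (e : ℤ), True := by
  set D := T a e b N (1, 1)
  let q : ℕ × ℕ → ℕ × ℕ := fun p => (p.1 + (a.1 + 1), p.2 + (a.2 + 1))
  let Kd := K k b (-(a.1 : ℤ) - 1) (-(a.2 : ℤ) - 1) (e : ℤ)
  have hq : ∀ p, b (q p) + e < b p ↔ e < b p ∧ p ∉ D := by
    intro p
    simp only [q, D, mem_T a e B, show p.1 + (a.1 + 1) = p.1 + 1 + a.1 by omega, show p.2 + (a.2 + 1) = p.2 + 1 + a.2 by omega]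
    omega
  have hS : ∀ p, Slot b (-(a.1 : ℤ) - 1) (-(a.2 : ℤ) - 1) (e : ℤ) (q p) (q p) ↔ b (q p) + e < b p := by
    intro p
    rw [slot_dual]
    simp [q]
  let toK : (ℕ × ℕ → k) →ₗ[k] (ℕ × ℕ → k) :=
    { toFun := fun W z => if Slot b (-(a.1 : ℤ) - 1) (-(a.2 : ℤ) - 1) (e : ℤ) z z then W (z.1 - (a.1 + 1), z.2 - (a.2 + 1)) else 0
      map_add' := fun u v => funext fun z => by simp only [Pi.add_apply]; split_ifs <;> simp
      map_smul' := fun t u => funext fun z => by simp only [Pi.smul_apply, RingHom.id_apply]; split_ifs <;> simp }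
  have hmem : ∀ W ∈ L k b a e, toK W ∈ Kd := by
    intro W hW
    refine ⟨fun z hz => if_neg hz, fun z hz => ?_, fun z hz => ?_⟩
    · rw [slot_dual] at hz
      obtain ⟨h1, h2, h3⟩ := hz
      obtain ⟨⟨p1, p2⟩, rfl⟩ : ∃ p : ℕ × ℕ, z = (p.1 + a.1, p.2 + (a.2 + 1)) :=
        ⟨(z.1 - a.1, z.2 - (a.2 + 1)), Prod.ext (by dsimp at *; omega) (by dsimp at *; omega)⟩
      simp only [show p1 + a.1 + 1 - (a.1 + 1) = p1 by omega, Nat.add_sub_cancel] at h3
      have hanti := B.anti (p1 + a.1, p2 + (a.2 + 1)) (p1 + a.1 + 1, p2 + (a.2 + 1)) (Nat.le_succ _) le_rfl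
      have hb : e < b (p1, p2) := by omega
      have hw := hW.2.2 (p1, p2) hb (by dsimp; rw [show p2 + 1 + a.2 = p2 + (a.2 + 1) by omega]; omega)
      show (if _ then _ else _) = (if _ then _ else _)
      rw [if_pos (show Slot b (-(a.1 : ℤ) - 1) (-(a.2 : ℤ) - 1) (e : ℤ) (p1 + a.1 + 1, p2 + (a.2 + 1)) _ from
        (slot_dual a e _ _).2 ⟨by omega, by omega, by
          simp only [show p1 + a.1 + 1 - (a.1 + 1) = p1 by omega, Nat.add_sub_cancel]; omega⟩)]
      simp only [show p1 + a.1 + 1 - (a.1 + 1) = p1 by omega, Nat.add_sub_cancel]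
      rw [hw, prev1]
      by_cases h0 : p1 = 0
      · subst h0
        rw [if_pos rfl, if_neg (fun hh => by rw [slot_dual] at hh; dsimp at hh; omega)]
      · have := B.anti (p1 - 1, p2) (p1, p2) (Nat.sub_le _ _) le_rfl
        rw [if_neg h0, if_pos ((slot_dual a e _ _).2 ⟨by dsimp; omega, by dsimp; omega, by
          simp only [show p1 + a.1 - (a.1 + 1) = p1 - 1 by omega, Nat.add_sub_cancel]; omega⟩),
          show p1 + a.1 - (a.1 + 1) = p1 - 1 by omega]
    · rw [slot_dual] at hz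
      obtain ⟨h1, h2, h3⟩ := hz
      obtain ⟨⟨p1, p2⟩, rfl⟩ : ∃ p : ℕ × ℕ, z = (p.1 + (a.1 + 1), p.2 + a.2) :=
        ⟨(z.1 - (a.1 + 1), z.2 - a.2), Prod.ext (by dsimp at *; omega) (by dsimp at *; omega)⟩
      simp only [show p2 + a.2 + 1 - (a.2 + 1) = p2 by omega, Nat.add_sub_cancel] at h3
      have hanti := B.anti (p1 + (a.1 + 1), p2 + a.2) (p1 + (a.1 + 1), p2 + a.2 + 1) le_rfl (Nat.le_succ _)
      have hb : e < b (p1, p2) := by omega
      have hw := hW.2.1 (p1, p2) hb (by dsimp; rw [show p1 + 1 + a.1 = p1 + (a.1 + 1) by omega]; omega)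
      show (if _ then _ else _) = (if _ then _ else _)
      rw [if_pos (show Slot b (-(a.1 : ℤ) - 1) (-(a.2 : ℤ) - 1) (e : ℤ) (p1 + (a.1 + 1), p2 + a.2 + 1) _ from
        (slot_dual a e _ _).2 ⟨by omega, by omega, by
          simp only [show p2 + a.2 + 1 - (a.2 + 1) = p2 by omega, Nat.add_sub_cancel]; omega⟩)]
      simp only [show p2 + a.2 + 1 - (a.2 + 1) = p2 by omega, Nat.add_sub_cancel]
      rw [hw, prev2]
      by_cases h0 : p2 = 0
      · subst h0
        rw [if_pos rfl, if_neg (fun hh => by rw [slot_dual] at hh; dsimp at hh; omega)]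
      · have := B.anti (p1, p2 - 1) (p1, p2) le_rfl (Nat.sub_le _ _)
        rw [if_neg h0, if_pos ((slot_dual a e _ _).2 ⟨by dsimp; omega, by dsimp; omega, by
          simp only [show p2 + a.2 - (a.2 + 1) = p2 - 1 by omega, Nat.add_sub_cancel]; omega⟩),
          show p2 + a.2 - (a.2 + 1) = p2 - 1 by omega]
  let fwd : L k b a e →ₗ[k] (↥D → k) × Kd :=
    LinearMap.prod (LinearMap.pi fun p : D => (LinearMap.proj p.1).comp (L k b a e).subtype)
      ((toK.comp (L k b a e).subtype).codRestrict Kd fun W => hmem W.1 W.2)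
  have hbij : Function.Bijective fwd := by
    constructor
    · rw [injective_iff_map_eq_zero]
      intro W hW
      refine Subtype.ext (funext fun p => ?_)
      show W.1 p = 0
      by_cases hb : e < b p
      · by_cases hD : p ∈ D
        · exact congrFun (congrArg Prod.fst hW) ⟨p, hD⟩
        · have := congrFun (congrArg (fun z => (Subtype.val (Prod.snd z) : ℕ × ℕ → k)) hW) (q p)
          have h' : toK W.1 (q p) = 0 := this
          simp only [toK, LinearMap.coe_mk, AddHom.coe_mk, if_pos ((hS p).2 ((hq p).2 ⟨hb, hD⟩))] at h'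
          simpa [q] using h'
      · exact W.2.1 p hb
    · rintro ⟨f, φ⟩
      let W : ℕ × ℕ → k := fun p => if hD : p ∈ D then f ⟨p, hD⟩ else if e < b p then φ.1 (q p) else 0
      have hW : W ∈ L k b a e := by
        refine ⟨fun p hb => ?_, fun p hb hX => ?_, fun p hb hY => ?_⟩
        · simp only [W]
          rw [dif_neg (fun hD => hb ((mem_T a e B).1 hD).1), if_neg hb]
        · have hanti := B.anti (p.1 + 1 + a.1, p.2 + a.2) (p.1 + 1 + a.1, p.2 + 1 + a.2) le_rfl (by omega)
          have hD : p ∉ D := fun hD => by have := ((mem_T a e B).1 hD).2; dsimp at this; omega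
          have he : φ.1 (p.1 + (a.1 + 1), p.2 + a.2) = φ.1 (q p) := by
            have := φ.2.2.2 (p.1 + (a.1 + 1), p.2 + a.2) ((slot_dual a e _ _).2 ⟨by dsimp; omega, by dsimp; omega, by
              dsimp
              rw [show p.1 + (a.1 + 1) - (a.1 + 1) = p.1 by omega, show p.2 + a.2 + 1 - (a.2 + 1) = p.2 by omega,
                show p.1 + (a.1 + 1) = p.1 + 1 + a.1 by omega]
              have : b (p.1, p.2) = b p := rfl
              omega⟩)
            simpa [q, add_assoc] using this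
          simp only [W, dif_neg hD, if_pos hb, ← he, prev2]
          by_cases h0 : p.2 = 0
          · rw [if_pos h0, φ.2.1 _ fun hh => by rw [slot_dual] at hh; dsimp at hh; omega]
          · have h1 := B.anti (p.1, p.2 - 1) p le_rfl (Nat.sub_le _ _)
            have hD' : (p.1, p.2 - 1) ∉ D := fun hD' => by
              have h2 := ((mem_T a e B).1 hD').2
              dsimp at h2
              rw [show p.2 - 1 + 1 = p.2 by omega] at h2
              omega
            rw [if_neg h0, dif_neg hD', if_pos (show e < b (p.1, p.2 - 1) by omega)]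
            simp only [q, show p.2 - 1 + (a.2 + 1) = p.2 + a.2 by omega]
        · have hanti := B.anti (p.1 + a.1, p.2 + 1 + a.2) (p.1 + 1 + a.1, p.2 + 1 + a.2) (by omega) le_rfl
          have hD : p ∉ D := fun hD => by have := ((mem_T a e B).1 hD).2; dsimp at this; omega
          have he : φ.1 (p.1 + a.1, p.2 + (a.2 + 1)) = φ.1 (q p) := by
            have := φ.2.2.1 (p.1 + a.1, p.2 + (a.2 + 1)) ((slot_dual a e _ _).2 ⟨by dsimp; omega, by dsimp; omega, by
              dsimp
              rw [show p.2 + (a.2 + 1) - (a.2 + 1) = p.2 by omega, show p.1 + a.1 + 1 - (a.1 + 1) = p.1 by omega,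
                show p.2 + (a.2 + 1) = p.2 + 1 + a.2 by omega]
              have : b (p.1, p.2) = b p := rfl
              omega⟩)
            simpa [q, add_assoc] using this
          simp only [W, dif_neg hD, if_pos hb, ← he, prev1]
          by_cases h0 : p.1 = 0
          · rw [if_pos h0, φ.2.1 _ fun hh => by rw [slot_dual] at hh; dsimp at hh; omega]
          · have h1 := B.anti (p.1 - 1, p.2) p (Nat.sub_le _ _) le_rfl
            have hD' : (p.1 - 1, p.2) ∉ D := fun hD' => by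
              have h2 := ((mem_T a e B).1 hD').2
              dsimp at h2
              rw [show p.1 - 1 + 1 = p.1 by omega] at h2
              omega
            rw [if_neg h0, dif_neg hD', if_pos (show e < b (p.1 - 1, p.2) by omega)]
            simp only [q, show p.1 - 1 + (a.1 + 1) = p.1 + a.1 by omega]
      refine ⟨⟨W, hW⟩, Prod.ext (funext fun p => ?_) (Subtype.ext (funext fun z => ?_))⟩
      · show W p.1 = f p
        simp only [W, dif_pos p.2]
      · show toK W z = φ.1 z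
        simp only [toK, LinearMap.coe_mk, AddHom.coe_mk]
        by_cases hz : Slot b (-(a.1 : ℤ) - 1) (-(a.2 : ℤ) - 1) (e : ℤ) z z
        · have hz' := (slot_dual a e _ _).1 hz
          rw [if_pos hz]
          have ez : q (z.1 - (a.1 + 1), z.2 - (a.2 + 1)) = z :=
            Prod.ext (by dsimp [q]; omega) (by dsimp [q]; omega)
          have := (hq (z.1 - (a.1 + 1), z.2 - (a.2 + 1))).1 (by rw [ez]; exact hz'.2.2)
          simp only [W, dif_neg this.2, if_pos this.1, ez]
        · rw [if_neg hz, φ.2.1 z hz]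
  exact ⟨LinearEquiv.ofBijective fwd hbij, trivial⟩

/-- Extension by zero. -/
def ext {P : Finset (ℕ × ℕ)} (u : ↥P → k) (p : ℕ × ℕ) : k := if h : p ∈ P then u ⟨p, h⟩ else 0

theorem sum_ite_val {P : Finset (ℕ × ℕ)} (u : ↥P → k) (p : ℕ × ℕ) :
    ∑ z : P, (if (z : ℕ × ℕ) = p then (1 : k) else 0) * u z = ext u p := by
  unfold ext
  split_ifs with h
  · rw [Finset.sum_eq_single ⟨p, h⟩ (fun z _ hz => by
      rw [if_neg (fun hh => hz (Subtype.ext hh)), zero_mul]) (fun hh => absurd (Finset.mem_univ _) hh), if_pos rfl,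
      one_mul]
  · refine Finset.sum_eq_zero fun z _ => ?_
    rw [if_neg (fun hh : (z : ℕ × ℕ) = p => h (hh ▸ z.2)), zero_mul]

variable (k b N) in
/-- The coboundary. -/
def M : Matrix (↥(T a e b N (1, 0)) ⊕ ↥(T a e b N (0, 1))) ↥(T a e b N (0, 0)) k :=
  Matrix.of fun z s => Sum.elim
    (fun p => (if p.1 = s.1 then (1 : k) else 0) - if (p.1.1 + 1, p.1.2) = s.1 then 1 else 0)
    (fun p => (if p.1 = s.1 then (1 : k) else 0) - if (p.1.1, p.1.2 + 1) = s.1 then 1 else 0) z

theorem M_mulVec (u : ↥(T a e b N (0, 0)) → k) :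
    (∀ p, ((M k b a e N).mulVec u) (Sum.inl p) = ext u p.1 - ext u (p.1.1 + 1, p.1.2)) ∧
      ∀ p, ((M k b a e N).mulVec u) (Sum.inr p) = ext u p.1 - ext u (p.1.1, p.1.2 + 1) := by
  constructor <;> intro p <;>
    simp only [M, Matrix.mulVec, dotProduct, Matrix.of_apply, Sum.elim_inl, Sum.elim_inr, sub_mul,
      Finset.sum_sub_distrib, ← sum_ite_val] <;>
    simp only [eq_comm]

theorem M_transpose_mulVec (v : ↥(T a e b N (1, 0)) ⊕ ↥(T a e b N (0, 1)) → k) (s : ↥(T a e b N (0, 0))) :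
    ((M k b a e N)ᵀ.mulVec v) s =
      (ext (fun p => v (Sum.inl p)) s.1 - prev1 (ext fun p => v (Sum.inl p)) s.1) +
        (ext (fun p => v (Sum.inr p)) s.1 - prev2 (ext fun p => v (Sum.inr p)) s.1) := by
  simp only [M, Matrix.mulVec, dotProduct, Matrix.transpose_apply, Matrix.of_apply, Fintype.sum_sum_type,
    Sum.elim_inl, Sum.elim_inr, sub_mul, Finset.sum_sub_distrib, prev1, prev2]
  congr 1 <;> congr 1
  · exact sum_ite_val _ _
  · split_ifs with h
    · exact Finset.sum_eq_zero fun z _ => by rw [if_neg fun hh => by rw [← hh] at h; simp at h, zero_mul]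
    · rw [← sum_ite_val]
      refine Finset.sum_congr rfl fun z _ => ?_
      congr 1
      exact if_congr ⟨fun hh => by rw [← hh]; simp, fun hh => by rw [hh]; exact Prod.ext (by dsimp; omega) rfl⟩ rfl rfl
  · exact sum_ite_val _ _
  · split_ifs with h
    · exact Finset.sum_eq_zero fun z _ => by rw [if_neg fun hh => by rw [← hh] at h; simp at h, zero_mul]
    · rw [← sum_ite_val]
      refine Finset.sum_congr rfl fun z _ => ?_
      congr 1
      exact if_congr ⟨fun hh => by rw [← hh]; simp, fun hh => by rw [hh]; exact Prod.ext rfl (by dsimp; omega)⟩ rfl rfl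

theorem ext_mk {P : Finset (ℕ × ℕ)} (g : ℕ × ℕ → k) (hg : ∀ p ∉ P, g p = 0) : ext (fun p : ↥P => g p.1) = g := by
  funext p; unfold ext; split_ifs with h
  · rfl
  · exact (hg p h).symm

variable (k) in
theorem finrank_ker_M (B : Bd b N) :
    Module.finrank k (LinearMap.ker (M k b a e N).mulVecLin) =
      Module.finrank k (K k b (a.1 : ℤ) (a.2 : ℤ) (-(e : ℤ) - 1)) := by
  have hS : ∀ p, Slot b (a.1 : ℤ) (a.2 : ℤ) (-(e : ℤ) - 1) p p ↔ p ∈ T a e b N (0, 0) := fun p => by
    rw [slot_zero, mem_T a e B]; simp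
  have hX : ∀ p : ℕ × ℕ, Slot b (a.1 : ℤ) (a.2 : ℤ) (-(e : ℤ) - 1) p (p.1 + 1, p.2) ↔ p ∈ T a e b N (1, 0) := fun p => by
    have := slot_iff (b := b) a e p (1, 0)
    rw [mem_T a e B]; simpa using this
  have hY : ∀ p : ℕ × ℕ, Slot b (a.1 : ℤ) (a.2 : ℤ) (-(e : ℤ) - 1) p (p.1, p.2 + 1) ↔ p ∈ T a e b N (0, 1) := fun p => by
    have := slot_iff (b := b) a e p (0, 1)
    rw [mem_T a e B]; simpa using this
  let fwd : K k b (a.1 : ℤ) (a.2 : ℤ) (-(e : ℤ) - 1) →ₗ[k] (↥(T a e b N (0, 0)) → k) :=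
    LinearMap.pi fun p => (LinearMap.proj p.1).comp (Submodule.subtype _)
  have he : ∀ φ : K k b (a.1 : ℤ) (a.2 : ℤ) (-(e : ℤ) - 1), ext (fwd φ) = φ.1 := fun φ =>
    ext_mk φ.1 fun p hp => φ.2.1 p fun hh => hp ((hS p).1 hh)
  have hmem : ∀ φ, fwd φ ∈ LinearMap.ker (M k b a e N).mulVecLin := fun φ => by
    rw [LinearMap.mem_ker]
    funext z
    rw [Matrix.mulVecLin_apply, Pi.zero_apply]
    rcases z with p | p
    · rw [(M_mulVec a e (fwd φ)).1, he, φ.2.2.1 p.1 ((hX p.1).2 p.2), sub_self]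
    · rw [(M_mulVec a e (fwd φ)).2, he, φ.2.2.2 p.1 ((hY p.1).2 p.2), sub_self]
  refine (LinearEquiv.ofBijective (fwd.codRestrict _ hmem) ⟨fun φ ψ h => Subtype.ext ?_, fun u => ?_⟩).finrank_eq.symm
  · rw [← he φ, ← he ψ, show fwd φ = fwd ψ from congrArg Subtype.val h]
  · have hu : ∀ z, (M k b a e N).mulVec u.1 z = 0 := congrFun (LinearMap.mem_ker.1 u.2)
    refine ⟨⟨ext u.1, ⟨fun p hp => dif_neg fun hh => hp ((hS p).2 hh), fun p hp => ?_, fun p hp => ?_⟩⟩,
      Subtype.ext (funext fun p => dif_pos p.2)⟩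
    · have := hu (Sum.inl ⟨p, (hX p).1 hp⟩); rw [(M_mulVec a e u.1).1] at this; exact sub_eq_zero.1 this
    · have := hu (Sum.inr ⟨p, (hY p).1 hp⟩); rw [(M_mulVec a e u.1).2] at this; exact sub_eq_zero.1 this

variable (k) in
theorem finrank_ker_transpose (B : Bd b N) :
    Module.finrank k (LinearMap.ker (M k b a e N)ᵀ.mulVecLin) = Module.finrank k (L k b a e) := by
  set X := T a e b N (1, 0)
  set Y := T a e b N (0, 1)
  have hX : ∀ {p : ℕ × ℕ}, p ∈ X ↔ e < b p ∧ b p ≤ b (p.1 + 1 + a.1, p.2 + a.2) + e := fun {p} => by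
    simp [X, mem_T a e B]
  have hY : ∀ {p : ℕ × ℕ}, p ∈ Y ↔ e < b p ∧ b p ≤ b (p.1 + a.1, p.2 + 1 + a.2) + e := fun {p} => by
    simp [Y, mem_T a e B]
  let fwd : L k b a e →ₗ[k] (↥X ⊕ ↥Y → k) :=
    { toFun := fun W => Sum.elim (fun p => W.1 p.1 - prev2 W.1 p.1) (fun p => -(W.1 p.1 - prev1 W.1 p.1))
      map_add' := fun u v => funext fun z => by
        rcases z with p | p <;>
          simp only [prev1, prev2, Submodule.coe_add, Pi.add_apply, Sum.elim_inl, Sum.elim_inr] <;>
          split_ifs <;> abel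
      map_smul' := fun t u => funext fun z => by
        rcases z with p | p <;>
          simp only [prev1, prev2, Submodule.coe_smul, Pi.smul_apply, RingHom.id_apply, Sum.elim_inl, Sum.elim_inr,
            smul_eq_mul] <;>
          split_ifs <;> simp [mul_sub] }
  have hu : ∀ (W : L k b a e) p, e < b p → ext (fun z => fwd W (Sum.inl z)) p = W.1 p - prev2 W.1 p := by
    intro W p hb
    unfold ext
    split_ifs with h
    · rfl
    · exact (sub_eq_zero.2 (W.2.2.1 p hb fun hh => h (hX.2 ⟨hb, hh⟩))).symm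
  have hv : ∀ (W : L k b a e) p, e < b p → ext (fun z => fwd W (Sum.inr z)) p = -(W.1 p - prev1 W.1 p) := by
    intro W p hb
    unfold ext
    split_ifs with h
    · rfl
    · rw [(sub_eq_zero.2 (W.2.2.2 p hb fun hh => h (hY.2 ⟨hb, hh⟩))), neg_zero]
  have hmem : ∀ W, fwd W ∈ LinearMap.ker (M k b a e N)ᵀ.mulVecLin := fun W => by
    rw [LinearMap.mem_ker]
    funext s
    have hb := ((mem_T a e B).1 s.2).1
    rw [Matrix.mulVecLin_apply, Pi.zero_apply, M_transpose_mulVec, hu W s.1 hb, hv W s.1 hb]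
    generalize (s : ℕ × ℕ) = p at hb ⊢
    obtain ⟨p1, p2⟩ := p
    have e1 : prev1 (ext fun z => fwd W (Sum.inl z)) (p1, p2) = prev1 W.1 (p1, p2) - prev1 (prev2 W.1) (p1, p2) := by
      unfold prev1
      split_ifs with h
      · simp
      · exact hu W _ (lt_of_lt_of_le hb (B.anti (p1 - 1, p2) (p1, p2) (Nat.sub_le _ _) le_rfl))
    have e2 : prev2 (ext fun z => fwd W (Sum.inr z)) (p1, p2) = -(prev2 W.1 (p1, p2) - prev2 (prev1 W.1) (p1, p2)) := by
      unfold prev2
      split_ifs with h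
      · simp
      · exact hv W _ (lt_of_lt_of_le hb (B.anti (p1, p2 - 1) (p1, p2) le_rfl (Nat.sub_le _ _)))
    have e3 : prev1 (prev2 W.1) (p1, p2) = prev2 (prev1 W.1) (p1, p2) := by
      unfold prev1 prev2; dsimp; split_ifs <;> rfl
    rw [e1, e2, e3]; abel
  refine (LinearEquiv.ofBijective (fwd.codRestrict _ hmem) ⟨?_, fun v => ?_⟩).finrank_eq.symm
  · rw [injective_iff_map_eq_zero]
    intro W hW
    have h0 : fwd W = 0 := congrArg Subtype.val hW
    refine Subtype.ext (funext fun p => ?_)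
    show W.1 p = 0
    suffices H : ∀ n, ∀ p : ℕ × ℕ, p.2 = n → W.1 p = 0 from H _ p rfl
    intro n
    induction n using Nat.strong_induction_on with
    | _ n ih =>
      intro p hp
      by_cases hb : e < b p
      · have h1 := hu W p hb
        have h2 : ext (fun z => fwd W (Sum.inl z)) p = 0 := by
          unfold ext; split_ifs <;> simp [h0]
        rw [h2] at h1
        rw [sub_eq_zero.1 h1.symm, prev2]
        split_ifs with h
        · rfl
        · exact ih (p.2 - 1) (by omega) _ rfl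
      · exact W.2.1 p hb
  · set u : ℕ × ℕ → k := ext fun z => v.1 (Sum.inl z)
    set w : ℕ × ℕ → k := ext fun z => v.1 (Sum.inr z)
    have hv0 : ∀ s, (M k b a e N)ᵀ.mulVec v.1 s = 0 := congrFun (LinearMap.mem_ker.1 v.2)
    have hD : ∀ p, e < b p → (u p - prev1 u p) + (w p - prev2 w p) = 0 := by
      intro p hb
      by_cases hs : p ∈ T a e b N (0, 0)
      · have := hv0 ⟨p, hs⟩
        rwa [M_transpose_mulVec] at this
      · rw [mem_T a e B] at hs
        simp only [add_zero, not_and, not_le] at hs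
        have hs' := hs hb
        have z1 : u p = 0 := dif_neg fun hh => by
          have := (hX.1 hh).2
          have := B.anti (p.1 + a.1, p.2 + a.2) (p.1 + 1 + a.1, p.2 + a.2) (by omega) le_rfl
          omega
        have z2 : w p = 0 := dif_neg fun hh => by
          have := (hY.1 hh).2
          have := B.anti (p.1 + a.1, p.2 + a.2) (p.1 + a.1, p.2 + 1 + a.2) le_rfl (by omega)
          omega
        have z3 : prev1 u p = 0 := by
          unfold prev1; split_ifs with h
          · rfl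
          · refine dif_neg fun hh => ?_
            have h1 := (hX.1 hh).2
            dsimp at h1
            rw [show p.1 - 1 + 1 = p.1 by omega] at h1
            have := B.anti (p.1 - 1, p.2) p (Nat.sub_le _ _) le_rfl
            omega
        have z4 : prev2 w p = 0 := by
          unfold prev2; split_ifs with h
          · rfl
          · refine dif_neg fun hh => ?_
            have h1 := (hY.1 hh).2
            dsimp at h1
            rw [show p.2 - 1 + 1 = p.2 by omega] at h1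
            have := B.anti (p.1, p.2 - 1) p le_rfl (Nat.sub_le _ _)
            omega
        rw [z1, z2, z3, z4]; simp
    let W : ℕ × ℕ → k := fun p => if e < b p then ∑ t ∈ Finset.range (p.2 + 1), u (p.1, t) else 0
    have hWu : ∀ p, e < b p → W p - prev2 W p = u p := by
      intro p hb
      simp only [W, if_pos hb, prev2]
      split_ifs with h h'
      · rw [h]; simp; rw [← h]
      · rw [Finset.sum_range_succ, show p.2 - 1 + 1 = p.2 by omega]; simp
      · exact absurd (lt_of_lt_of_le hb (B.anti (p.1, p.2 - 1) p le_rfl (Nat.sub_le _ _))) h'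
    have hWw : ∀ n, ∀ p : ℕ × ℕ, p.2 = n → e < b p → -(W p - prev1 W p) = w p := by
      intro n
      induction n using Nat.strong_induction_on with
      | _ n ih =>
        intro p hp hb
        have h1 := hD p hb
        have e1 : prev1 u p = prev1 W p - prev1 (prev2 W) p := by
          unfold prev1
          split_ifs with h
          · simp
          · exact (hWu _ (lt_of_lt_of_le hb (B.anti (p.1 - 1, p.2) p (Nat.sub_le _ _) le_rfl))).symm
        have e2 : prev2 w p = -(prev2 W p - prev2 (prev1 W) p) := by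
          unfold prev2
          split_ifs with h
          · simp
          · exact (ih (p.2 - 1) (by omega) _ rfl (lt_of_lt_of_le hb (B.anti (p.1, p.2 - 1) p le_rfl (Nat.sub_le _ _)))).symm
        have e3 : prev1 (prev2 W) p = prev2 (prev1 W) p := by
          unfold prev1 prev2; dsimp; split_ifs <;> rfl
        rw [← hWu p hb, e1, e2, e3] at h1
        refine (sub_eq_zero.1 ?_).symm
        rw [← h1]; abel
    have hWL : W ∈ L k b a e := by
      refine ⟨fun p hb => if_neg hb, fun p hb hx => ?_, fun p hb hy => ?_⟩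
      · have := hWu p hb
        rw [show u p = 0 from dif_neg fun hh => hx (hX.1 hh).2] at this
        exact sub_eq_zero.1 this
      · have := hWw _ p rfl hb
        rw [show w p = 0 from dif_neg fun hh => hy (hY.1 hh).2, neg_eq_zero] at this
        exact sub_eq_zero.1 this
    refine ⟨⟨W, hWL⟩, Subtype.ext (funext fun z => ?_)⟩
    rcases z with p | p
    · exact (hWu p.1 (hX.1 p.2).1).trans (dif_pos p.2)
    · exact (hWw _ p.1 rfl (hY.1 p.2).1).trans (dif_pos p.2)

variable (k) in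
/-- Duality in one height. -/
theorem finrank_K_add (B : Bd b N) :
    Module.finrank k (K k b (a.1 : ℤ) (a.2 : ℤ) (-(e : ℤ) - 1)) + ((T a e b N (1, 0)).card + (T a e b N (0, 1)).card) =
      (T a e b N (0, 0)).card + (T a e b N (1, 1)).card +
        Module.finrank k (K k b (-(a.1 : ℤ) - 1) (-(a.2 : ℤ) - 1) (e : ℤ)) := by
  obtain ⟨f, -⟩ := finrank_L k a e B
  have h1 := (M k b a e N).mulVecLin.finrank_range_add_finrank_ker
  have h2 := (M k b a e N)ᵀ.mulVecLin.finrank_range_add_finrank_ker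
  have h3 := Matrix.rank_transpose (M k b a e N)
  unfold Matrix.rank at h3
  haveI : Module.Finite k (L k b a e) := by
    refine Module.Finite.of_injective
      (LinearMap.pi fun p : ↥(box N) => (LinearMap.proj p.1).comp (L k b a e).subtype) fun u v h => Subtype.ext (funext fun p => ?_)
    by_cases hb : e < b p
    · exact congrFun h ⟨p, by have := B.box p (by omega); simpa [box] using this⟩
    · rw [u.2.1 p hb, v.2.1 p hb]
  haveI : Module.Finite k ((↥(T a e b N (1, 1)) → k) × K k b (-(a.1 : ℤ) - 1) (-(a.2 : ℤ) - 1) (e : ℤ)) :=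
    Module.Finite.equiv f
  haveI : Module.Finite k (K k b (-(a.1 : ℤ) - 1) (-(a.2 : ℤ) - 1) (e : ℤ)) :=
    Module.Finite.of_surjective (LinearMap.snd k (↥(T a e b N (1, 1)) → k) _) LinearMap.snd_surjective
  rw [finrank_ker_M k a e B, Module.finrank_fintype_fun_eq_card, Fintype.card_coe] at h1
  rw [finrank_ker_transpose k a e B, f.finrank_eq, Module.finrank_prod, Module.finrank_fintype_fun_eq_card,
    Module.finrank_fintype_fun_eq_card, Fintype.card_coe, Fintype.card_sum, Fintype.card_coe, Fintype.card_coe] at h2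
  omega

/-- Number of slots over all heights. -/
theorem sum_card_T (B : Bd b N) (d : ℕ × ℕ) :
    ∑ e ∈ Finset.range N, (T a e b N d).card = ∑ p ∈ box N, b (p.1 + d.1 + a.1, p.2 + d.2 + a.2) := by
  simp only [T, Finset.card_filter]
  rw [Finset.sum_comm]
  refine Finset.sum_congr rfl fun p _ => ?_
  rw [← Finset.card_filter]
  have h1 := B.le p
  have h2 := B.anti p (p.1 + d.1 + a.1, p.2 + d.2 + a.2) (by dsimp; omega) (by dsimp; omega)
  rw [show (Finset.range N).filter (fun e => e < b p ∧ b p ≤ b (p.1 + d.1 + a.1, p.2 + d.2 + a.2) + e) =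
    Finset.Ico (b p - b (p.1 + d.1 + a.1, p.2 + d.2 + a.2)) (b p) from by
      ext e; simp only [Finset.mem_filter, Finset.mem_range, Finset.mem_Ico]; omega, Nat.card_Ico]
  omega

theorem sum_corners (f : ℕ × ℕ → ℕ) (N : ℕ) (h1 : ∀ t, f (N, t) = 0) (h2 : ∀ t, f (t, N) = 0) :
    (∑ p ∈ box N, f p) + ∑ p ∈ box N, f (p.1 + 1, p.2 + 1) =
      f (0, 0) + (∑ p ∈ box N, f (p.1 + 1, p.2)) + ∑ p ∈ box N, f (p.1, p.2 + 1) := by
  have step : ∀ g : ℕ → ℕ, g N = 0 → ∑ t ∈ Finset.range N, g t = g 0 + ∑ t ∈ Finset.range N, g (t + 1) := by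
    intro g hg
    have := (Finset.sum_range_succ' g N).symm.trans (Finset.sum_range_succ g N)
    omega
  simp only [Finset.sum_product]
  have hA : ∀ i, ∑ t ∈ Finset.range N, f (i, t) = f (i, 0) + ∑ t ∈ Finset.range N, f (i, t + 1) :=
    fun i => step (fun t => f (i, t)) (h2 i)
  simp only [hA, Finset.sum_add_distrib]
  have := step (fun i => f (i, 0)) (h1 0)
  omega

variable (k) in
/-- Duality summed over heights. -/
theorem sum_finrank_K (B : Bd b N) :
    ∑ e ∈ Finset.range N, Module.finrank k (K k b (a.1 : ℤ) (a.2 : ℤ) (-(e : ℤ) - 1)) =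
      b a + ∑ e ∈ Finset.range N, Module.finrank k (K k b (-(a.1 : ℤ) - 1) (-(a.2 : ℤ) - 1) (e : ℤ)) := by
  have h := Finset.sum_congr rfl fun e (_ : e ∈ Finset.range N) => finrank_K_add k a e B
  simp only [Finset.sum_add_distrib, sum_card_T a B] at h
  have hz : ∀ q : ℕ × ℕ, N ≤ q.1 ∨ N ≤ q.2 → b q = 0 := fun q hq => by
    by_contra hh
    have := B.box q (by omega)
    omega
  have hc := sum_corners (fun p => b (p.1 + a.1, p.2 + a.2)) N (fun t => hz _ (Or.inl (by dsimp; omega)))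
    (fun t => hz _ (Or.inr (by dsimp; omega)))
  simp only [add_zero, zero_add] at h hc
  rw [show (a.1, a.2) = a from rfl] at hc
  omega

/-- Injection into the corners. -/
theorem finrank_K_le (B : Bd b N) :
    Module.finrank k (K k b (a.1 : ℤ) (a.2 : ℤ) (-(e : ℤ) - 1)) ≤
      ((T a e b N (0, 0)) \ (T a e b N (1, 0) ∪ T a e b N (0, 1))).card := by
  set C := (T a e b N (0, 0)) \ (T a e b N (1, 0) ∪ T a e b N (0, 1))
  refine (LinearMap.finrank_le_finrank_of_injective
    (f := LinearMap.pi fun p : ↥C => (LinearMap.proj p.1).comp (K k b (a.1 : ℤ) (a.2 : ℤ) (-(e : ℤ) - 1)).subtype) ?_).trans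
    (by rw [Module.finrank_fintype_fun_eq_card, Fintype.card_coe])
  rw [injective_iff_map_eq_zero]
  intro φ hφ
  refine Subtype.ext (funext fun p => ?_)
  show φ.1 p = 0
  suffices H : ∀ m, ∀ p : ℕ × ℕ, (N - p.1) + (N - p.2) = m → φ.1 p = 0 from H _ p rfl
  intro m
  induction m using Nat.strong_induction_on with
  | _ m ih =>
    intro p hm
    by_cases hs : p ∈ T a e b N (0, 0)
    swap
    · exact φ.2.1 p fun hh => hs (by rw [mem_T a e B]; simpa using (slot_zero a e p).1 hh)
    have hbox := B.box p (by have := ((mem_T a e B).1 hs).1; omega)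
    by_cases hx : p ∈ T a e b N (1, 0)
    · have := φ.2.2.1 p (by simpa using (slot_iff a e p (1, 0)).2 ((mem_T a e B).1 hx))
      rw [this]; exact ih _ (by dsimp; omega) _ rfl
    by_cases hy : p ∈ T a e b N (0, 1)
    · have := φ.2.2.2 p (by simpa using (slot_iff a e p (0, 1)).2 ((mem_T a e B).1 hy))
      rw [this]; exact ih _ (by dsimp; omega) _ rfl
    exact congrFun hφ ⟨p, by simp [C, hs, hx, hy]⟩

theorem sum_card_corners (B : Bd b N) :
    ∑ e ∈ Finset.range N, ((T a e b N (0, 0)) \ (T a e b N (1, 0) ∪ T a e b N (0, 1))).card =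
      ∑ p ∈ box N, (b (p.1 + a.1, p.2 + a.2) -
        max (b (p.1 + a.1 + 1, p.2 + a.2)) (b (p.1 + a.1, p.2 + a.2 + 1))) := by
  have key : ∀ e, (T a e b N (0, 0)) \ (T a e b N (1, 0) ∪ T a e b N (0, 1)) =
      (box N).filter fun p => e < b p ∧ b p ≤ b (p.1 + a.1, p.2 + a.2) + e ∧
        max (b (p.1 + a.1 + 1, p.2 + a.2)) (b (p.1 + a.1, p.2 + a.2 + 1)) + e < b p := by
    intro e
    ext p
    simp only [T, Finset.mem_sdiff, Finset.mem_union, Finset.mem_filter, add_zero,
      show p.1 + 1 + a.1 = p.1 + a.1 + 1 by omega, show p.2 + 1 + a.2 = p.2 + a.2 + 1 by omega]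
    constructor
    · rintro ⟨⟨hp, h1, h2⟩, h3⟩
      exact ⟨hp, h1, h2, by
        by_contra hh
        rcases le_total (b (p.1 + a.1 + 1, p.2 + a.2)) (b (p.1 + a.1, p.2 + a.2 + 1)) with hc | hc
        · exact h3 (Or.inr ⟨hp, h1, by omega⟩)
        · exact h3 (Or.inl ⟨hp, h1, by omega⟩)⟩
    · rintro ⟨hp, h1, h2, h3⟩
      exact ⟨⟨hp, h1, h2⟩, by rintro (⟨-, -, h⟩ | ⟨-, -, h⟩) <;> omega⟩
  simp only [key, Finset.card_filter]
  rw [Finset.sum_comm]
  refine Finset.sum_congr rfl fun p _ => ?_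
  rw [← Finset.card_filter]
  have h1 := B.le p
  have h2 := B.anti p (p.1 + a.1, p.2 + a.2) (by dsimp; omega) (by dsimp; omega)
  have h3 := B.anti (p.1 + a.1, p.2 + a.2) (p.1 + a.1 + 1, p.2 + a.2) (by dsimp; omega) le_rfl
  have h4 := B.anti (p.1 + a.1, p.2 + a.2) (p.1 + a.1, p.2 + a.2 + 1) le_rfl (by dsimp; omega)
  set mx := max (b (p.1 + a.1 + 1, p.2 + a.2)) (b (p.1 + a.1, p.2 + a.2 + 1))
  have hmx : mx ≤ b (p.1 + a.1, p.2 + a.2) := max_le h3 h4
  rw [show (Finset.range N).filter (fun e => e < b p ∧ b p ≤ b (p.1 + a.1, p.2 + a.2) + e ∧ mx + e < b p) =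
    Finset.Ico (b p - b (p.1 + a.1, p.2 + a.2)) (b p - mx) from by
      ext e; simp only [Finset.mem_filter, Finset.mem_range, Finset.mem_Ico]; omega, Nat.card_Ico]
  omega

end Groth.Agent.HilbPt29.Stairs
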