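import Groth.Agent.Lib.Fitting.Projective
import Groth.Agent.Lib.Fitting.More
import Groth.Agent.Lib.SchDom.Alg
import Mathlib.RingTheory.Spectrum.Prime.FreeLocus
import Mathlib.RingTheory.Spectrum.Prime.Topology
import Mathlib.RingTheory.LocalProperties.Basic
import Mathlib.Algebra.DirectSum.Decomposition

/-!
# Hilbert function strata of a graded module
-/

set_option autoImplicit false
set_option maxHeartbeats 800000
universe u

open TensorProduct

namespace Groth.Agent.HilbPt29

open FittingLib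

variable {B : Type u} [CommRing B] {M : Type u} [AddCommGroup M] [Module B M]

/-- Projective of constant rank in terms of Fitting ideals. -/
theorem fitt_of_projective [Module.Finite B M] [Module.Projective B M] {r : ℕ}
    (hr : ∀ p : PrimeSpectrum B, Module.rankAtStalk M p = r) :
    (∀ k, k < r → Fitt.ideal B M k = ⊥) ∧ (∀ k, r ≤ k → Fitt.ideal B M k = ⊤) := by
  have key : ∀ (p : Ideal B) [p.IsPrime],
      (∀ k, k < r → (Fitt.ideal B M k).map (algebraMap B (Localization.AtPrime p)) = ⊥) ∧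
      (∀ k, r ≤ k → (Fitt.ideal B M k).map (algebraMap B (Localization.AtPrime p)) = ⊤) := by
    intro p hp
    have : Module.Free (Localization.AtPrime p) (Localization.AtPrime p ⊗[B] M) :=
      Module.free_of_flat_of_isLocalRing
    have hrk : Module.finrank (Localization.AtPrime p) (Localization.AtPrime p ⊗[B] M) = r := by
      rw [← hr ⟨p, hp⟩, Module.rankAtStalk_eq_finrank_tensorProduct]
    refine ⟨fun k hk => ?_, fun k hk => ?_⟩
    · rw [← ideal_baseChange]
      refine ideal_eq_bot_of_basis (Module.Free.chooseBasis _ _) ?_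
      rwa [← Module.finrank_eq_card_basis (Module.Free.chooseBasis _ _), hrk]
    · rw [← ideal_baseChange, ideal_eq_top_iff_finrank, hrk]
      exact hk
  refine ⟨fun k hk => (Submodule.eq_bot_iff _).2 fun a ha => ?_, fun k hk => ?_⟩
  · refine eq_zero_of_localization a fun J hJ => ?_
    have := (key J).1 k hk
    rw [Ideal.map_eq_bot_iff_le_ker] at this
    exact RingHom.mem_ker.1 (this ha)
  · by_contra hne
    obtain ⟨m, hm, hle⟩ := Ideal.exists_le_maximal _ hne
    have h1 := ((key m).2 k hk).ge.trans (Ideal.map_mono (f := algebraMap B (Localization.AtPrime m)) hle)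
    rw [Localization.AtPrime.map_eq_maximalIdeal, top_le_iff] at h1
    exact (IsLocalRing.maximalIdeal.isMaximal _).ne_top h1

/-- Fitting ideals cut out projectivity with constant rank. -/
theorem projective_rank_iff [Module.Finite B M] (r : ℕ) :
    (Module.Projective B M ∧ ∀ p : PrimeSpectrum B, Module.rankAtStalk M p = r) ↔
      ((∀ k, k < r → Fitt.ideal B M k = ⊥) ∧ Fitt.ideal B M r = ⊤) := by
  constructor
  · rintro ⟨h1, h2⟩
    exact ⟨(fitt_of_projective h2).1, (fitt_of_projective h2).2 r le_rfl⟩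
  · rintro ⟨h0, h1⟩
    obtain ⟨n, x, hx⟩ := exists_generators (R := B) (M := M)
    have hproj : Module.Projective B M := (projective_of_forall_exists fun m hm => by
      obtain ⟨u, g, hu, hg⟩ := exists_minor_notMem r m (by rw [h1, top_le_iff]; exact hm.ne_top)
      refine ⟨u, r, g, n, hu, hg, fun c hc i => ?_⟩
      rw [mul_comm]
      exact coeff_mul_pow_eq_zero g hx (h0 _ (by have := i.2; omega)) (fun j => hg _) hc i).1
    refine ⟨hproj, fun p => ?_⟩
    have : Module.Free (Localization.AtPrime p.asIdeal) (Localization.AtPrime p.asIdeal ⊗[B] M) :=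
      Module.free_of_flat_of_isLocalRing
    rw [Module.rankAtStalk_eq_finrank_tensorProduct]
    refine le_antisymm ?_ (not_lt.1 fun hlt => ?_)
    · rw [← ideal_eq_top_iff_finrank, ideal_baseChange, h1, Ideal.map_top]
    · have := (ideal_eq_top_iff_finrank (R := Localization.AtPrime p.asIdeal)
        (M := Localization.AtPrime p.asIdeal ⊗[B] M) _).2 le_rfl
      rw [ideal_baseChange, h0 _ hlt, Ideal.map_bot] at this
      exact bot_ne_top this

variable {A : Type u} [CommRing A] [IsNoetherianRing A]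
  {R : Type u} [CommRing R] [Algebra A R] [Algebra.FiniteType A R]
  {N : Type u} [AddCommGroup N] [Module A N] [Module R N] [IsScalarTower A R N] [Module.Finite R N]
  (ℳ : ℤ → Submodule A N) [DirectSum.Decomposition ℳ]
  (hfg : ∀ v : ℤ, Module.Finite A ↥(ℳ v)) (h : ℤ → ℕ)

include R hfg in
/-- Finitely many degrees decide the open condition. -/
theorem exists_finite_degrees (I : Ideal A) : ∃ F : Finset ℤ, ∀ q : Ideal A, q.IsPrime → I ≤ q →
    (∀ v ∈ F, ¬ Fitt.ideal A (ℳ v) (h v) ≤ q) → ∀ v, ¬ Fitt.ideal A (ℳ v) (h v) ≤ q := by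
  classical
  induction I using WellFoundedGT.induction with
  | _ I ih =>
  by_cases htop : I = ⊤
  · exact ⟨∅, fun q hq hle => absurd (top_le_iff.1 (htop ▸ hle)) hq.ne_top⟩
  by_cases hprime : I.IsPrime
  swap
  · obtain ⟨x, hx, y, hy, hxy⟩ : ∃ x ∉ I, ∃ y ∉ I, x * y ∈ I := by
      rw [Ideal.isPrime_iff] at hprime
      simp only [ne_eq, htop, not_false_eq_true, true_and, not_forall, not_or] at hprime
      obtain ⟨x, y, hxy, hx, hy⟩ := hprime
      exact ⟨x, hx, y, hy, hxy⟩
    have hlt : ∀ z ∉ I, I < I ⊔ Ideal.span {z} := fun z hz => lt_of_le_of_ne le_sup_left fun e => hz (by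
      rw [e]; exact Ideal.mem_sup_right (Ideal.mem_span_singleton_self z))
    obtain ⟨F₁, hF₁⟩ := ih _ (hlt x hx)
    obtain ⟨F₂, hF₂⟩ := ih _ (hlt y hy)
    refine ⟨F₁ ∪ F₂, fun q hq hle hF => ?_⟩
    rcases hq.mem_or_mem (hle hxy) with hm | hm
    · exact hF₁ q hq (sup_le hle ((Ideal.span_singleton_le_iff_mem q).2 hm)) fun v hv => hF v (Finset.mem_union_left _ hv)
    · exact hF₂ q hq (sup_le hle ((Ideal.span_singleton_le_iff_mem q).2 hm)) fun v hv => hF v (Finset.mem_union_right _ hv)
  obtain ⟨f, hf, hfree⟩ := SchDom.exists_generic_free (R := A) (S := R) (M := N) I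
  have hlt : I < I ⊔ Ideal.span {f} := lt_of_le_of_ne le_sup_left fun e => hf (by
    rw [e]; exact Ideal.mem_sup_right (Ideal.mem_span_singleton_self f))
  obtain ⟨F, hF⟩ := ih _ hlt
  by_cases hbad : ∃ v, Fitt.ideal A (ℳ v) (h v) ≤ I
  · obtain ⟨v₀, hv₀⟩ := hbad
    refine ⟨insert v₀ F, fun q hq hle hFq => ?_⟩
    exact absurd (hv₀.trans hle) (hFq v₀ (Finset.mem_insert_self _ _))
  refine ⟨F, fun q hq hle hFq => ?_⟩
  by_cases hfq : f ∈ q
  · exact hF q hq (sup_le hle ((Ideal.span_singleton_le_iff_mem q).2 hfq)) hFq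
  intro v hvq
  let L := Localization.Away (Ideal.Quotient.mk I f)
  have hf0 : Ideal.Quotient.mk I f ≠ 0 := fun e => hf (Ideal.Quotient.eq_zero_iff_mem.1 e)
  have hLdom : IsDomain L := IsLocalization.isDomain_localization
    (powers_le_nonZeroDivisors_of_noZeroDivisors hf0)
  let π : N →ₗ[A] ℳ v := DirectSum.component A ℤ (fun i => ↥(ℳ i)) v ∘ₗ
    (DirectSum.decomposeLinearEquiv ℳ).toLinearMap
  have hπ : π ∘ₗ (ℳ v).subtype = LinearMap.id := LinearMap.ext fun x => by
    show DirectSum.decompose ℳ (x : N) v = x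
    rw [DirectSum.decompose_coe, DirectSum.of_eq_same]
  haveI := hfree
  haveI := hfg v
  haveI : Module.Projective L (L ⊗[A] ℳ v) :=
    Module.Projective.of_split ((ℳ v).subtype.baseChange L) (π.baseChange L)
      (by rw [← LinearMap.baseChange_comp, hπ, LinearMap.baseChange_id])
  obtain ⟨r, hr⟩ : ∃ r, ∀ p : PrimeSpectrum L, Module.rankAtStalk (L ⊗[A] ℳ v) p = r := by
    haveI : Module.FinitePresentation L (L ⊗[A] ℳ v) := Module.finitePresentation_of_projective _ _
    exact ⟨Module.rankAtStalk (L ⊗[A] ℳ v) ⟨⊥, Ideal.isPrime_bot⟩, fun p =>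
      Module.isLocallyConstant_rankAtStalk.apply_eq_of_preconnectedSpace _ _⟩
  obtain ⟨h0, h1⟩ := fitt_of_projective hr
  rcases lt_or_ge (h v) r with hlt' | hge
  · refine hbad ⟨v, fun a ha => ?_⟩
    have h2 := h0 _ hlt'
    rw [ideal_baseChange, Ideal.map_eq_bot_iff_le_ker] at h2
    have h3 := RingHom.mem_ker.1 (h2 ha)
    rw [IsScalarTower.algebraMap_apply A (A ⧸ I) L, IsLocalization.map_eq_zero_iff
      (Submonoid.powers (Ideal.Quotient.mk I f))] at h3
    obtain ⟨⟨_, n, rfl⟩, hn⟩ := h3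
    have h4 : f ^ n * a ∈ I := Ideal.Quotient.eq_zero_iff_mem.1 (by rw [map_mul, map_pow]; exact hn)
    exact (hprime.mem_or_mem h4).resolve_left fun h5 => hf (hprime.mem_of_pow_mem n h5)
  · have h2 := h1 _ hge
    rw [ideal_baseChange] at h2
    let qb : Ideal (A ⧸ I) := q.map (Ideal.Quotient.mk I)
    have hqb : qb.IsPrime := Ideal.map_isPrime_of_surjective Ideal.Quotient.mk_surjective (by rwa [Ideal.mk_ker])
    have hcomap : qb.comap (Ideal.Quotient.mk I) = q := by
      rw [Ideal.comap_map_of_surjective _ Ideal.Quotient.mk_surjective, ← RingHom.ker_eq_comap_bot, Ideal.mk_ker,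
        sup_eq_left.2 hle]
    have hdisj : Disjoint (Submonoid.powers (Ideal.Quotient.mk I f) : Set (A ⧸ I)) qb := by
      rw [Set.disjoint_left]
      rintro _ ⟨n, rfl⟩ hn
      exact hfq (by rw [← hcomap]; exact hqb.mem_of_pow_mem n hn)
    have hne := IsLocalization.map_algebraMap_ne_top_iff_disjoint (Submonoid.powers (Ideal.Quotient.mk I f)) L qb
    refine hne.2 hdisj (top_le_iff.1 (h2.ge.trans ?_))
    rw [IsScalarTower.algebraMap_eq A (A ⧸ I) L, ← Ideal.map_map]
    exact Ideal.map_mono (by rw [Ideal.map_le_iff_le_comap]; exact hvq.trans hcomap.ge)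

include R hfg in
/-- The Hilbert function stratum is locally closed. -/
theorem exists_stratum : ∃ a b : Ideal A, ∀ (B : Type u) [CommRing B] [Algebra A B],
      ((∀ v : ℤ, Module.Finite B (B ⊗[A] ↥(ℳ v)) ∧ Module.Projective B (B ⊗[A] ↥(ℳ v)) ∧
          ∀ p : PrimeSpectrum B, Module.rankAtStalk (B ⊗[A] ↥(ℳ v)) p = h v) ↔
        (Ideal.map (algebraMap A B) a = ⊥ ∧ Ideal.map (algebraMap A B) b = ⊤)) := by
  obtain ⟨F, hF⟩ := exists_finite_degrees (R := R) ℳ hfg h ⊥
  refine ⟨⨆ (v : ℤ) (k : Fin (h v)), Fitt.ideal A (ℳ v) k, ∏ v ∈ F, Fitt.ideal A (ℳ v) (h v), ?_⟩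
  intro B _ _
  have : ∀ v, Module.Finite A (ℳ v) := hfg
  have hprod : ∀ (G : Finset ℤ) (J : ℤ → Ideal A),
      (∏ v ∈ G, J v).map (algebraMap A B) = ∏ v ∈ G, (J v).map (algebraMap A B) := fun G J => by
    induction G using Finset.cons_induction with
    | empty => simp [Ideal.one_eq_top, Ideal.map_top]
    | cons a s ha ih => rw [Finset.prod_cons, Finset.prod_cons, Ideal.map_mul, ih]
  simp only [Ideal.map_iSup, iSup_eq_bot, hprod]
  constructor
  · intro H
    refine ⟨fun v k => ?_, ?_⟩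
    · obtain ⟨_, hp, hr⟩ := H v
      rw [← ideal_baseChange]
      exact ((projective_rank_iff (h v)).1 ⟨hp, hr⟩).1 k k.2
    · refine Finset.prod_induction _ (fun J : Ideal B => J = ⊤) (fun J K hJ hK => by rw [hJ, hK, Ideal.top_mul])
        Ideal.one_eq_top (fun v _ => ?_)
      obtain ⟨_, hp, hr⟩ := H v
      rw [← ideal_baseChange]
      exact ((projective_rank_iff (h v)).1 ⟨hp, hr⟩).2
  · rintro ⟨h0, h1⟩ v
    haveI := hfg v
    refine ⟨inferInstance, (projective_rank_iff (h v)).2 ⟨fun k hk => ?_, ?_⟩⟩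
    · rw [ideal_baseChange]
      exact h0 v ⟨k, hk⟩
    · rw [ideal_baseChange]
      by_contra hne
      obtain ⟨m, hm, hle⟩ := Ideal.exists_le_maximal _ hne
      refine hF (m.comap (algebraMap A B)) (hm.isPrime.comap _) bot_le (fun w hw hw' => hm.ne_top ?_) v
        (Ideal.map_le_iff_le_comap.1 hle)
      rw [← top_le_iff, ← h1]
      refine le_trans ?_ (Ideal.map_le_iff_le_comap.2 hw')
      exact Ideal.prod_le_inf.trans (Finset.inf_le hw)

end Groth.Agent.HilbPt29
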